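import Cfsg.Agent.Lib.Sporadic.Co1Mult.Data

/-!
# Checks for `Co₁`
-/

set_option autoImplicit false

namespace Cfsg.Agent.Lib.Sporadic.Co1Mult

open MulAction Cfsg Cfsg.Agent.Lib.Sporadic.GolayCore Cfsg.Agent.Lib.Sporadic.LeechBasic
  Cfsg.Agent.Lib.Sporadic.LeechNorm Cfsg.Agent.Lib.Sporadic.LeechFacts
  Cfsg.Agent.Lib.Sporadic.LeechAut Cfsg.Agent.Lib.Sporadic.LeechMat
  Cfsg.Agent.Lib.Sporadic.LeechKey Cfsg.Agent.Lib.Sporadic.LeechEnum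
  Cfsg.Agent.Lib.Sporadic.LeechA0 Cfsg.Agent.Lib.Sporadic.LeechMcLData Cfsg.Agent.Lib.Sporadic.LeechMcL
  Cfsg.Agent.Lib.Sporadic.LeechShape Cfsg.Agent.Lib.Sporadic.LeechTree
  Cfsg.Agent.Lib.Sporadic.M24Chain Cfsg.Agent.Lib.Sporadic.Co3Mult

namespace D

/-- The generators with their literal tables. -/
def gensT2 : List (List ℤ → List ℤ) := [permL iA0, permL iA1, permL iA2]
theorem chk_T2 : invP (mT.getD 0 []) = iA0 ∧ invP (mT.getD 1 []) = iA1 ∧ invP (mT.getD 2 []) = iA2 ∧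
    (mT.getD 0 []).length = 24 ∧ (mT.getD 1 []).length = 24 ∧ (mT.getD 2 []).length = 24 := by decide +kernel

end D

end Cfsg.Agent.Lib.Sporadic.Co1Mult
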