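import Cfsg.Agent.Lib.Sporadic.Co1Mult.Data

/-!
# Checks for `Co₁`
-/

set_option autoImplicit false

namespace Cfsg.Agent.Lib.Sporadic.Co1Mult

open MulAction Cfsg Cfsg.Agent.Lib.Sporadic.GolayCore Cfsg.Agent.Lib.Sporadic.LeechBasic
  Cfsg.Agent.Lib.Sporadic.LeechNorm Cfsg.Agent.Lib.Sporadic.LeechFacts
  Cfsg.Agent.Lib.Sporadic.LeechAut Cfsg.Agent.Lib.Sporadic.LeechMat
  Cfsg.Agent.Lib.Sporadic.LeechKey Cfsg.Agent.Lib.Sporadic.LeechEnum
  Cfsg.Agent.Lib.Sporadic.LeechA0 Cfsg.Agent.Lib.Sporadic.LeechMcLData Cfsg.Agent.Lib.Sporadic.LeechMcL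
  Cfsg.Agent.Lib.Sporadic.LeechShape Cfsg.Agent.Lib.Sporadic.LeechTree
  Cfsg.Agent.Lib.Sporadic.M24Chain Cfsg.Agent.Lib.Sporadic.Co3Mult

namespace D

theorem chk_rootsT : (List.range 30).all (fun τ => rootF τ == (repsLit.getD τ []).getD 0 []) = true := by decide +kernel
set_option maxRecDepth 100000 in
theorem chk_cls : clsL.length = allReps.length ∧ (allReps.zip clsL).all (fun p => Nat.blt p.2 30 && (repsLit.getD p.2 []).contains p.1) = true := by decide +kernel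

end D

end Cfsg.Agent.Lib.Sporadic.Co1Mult
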