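import Cfsg.Agent.Lib.Sporadic.Co1Mult.Chk0

/-!
# Checks for `Co₁`
-/

set_option autoImplicit false

namespace Cfsg.Agent.Lib.Sporadic.Co1Mult

open MulAction Cfsg Cfsg.Agent.Lib.Sporadic.GolayCore Cfsg.Agent.Lib.Sporadic.LeechBasic
  Cfsg.Agent.Lib.Sporadic.LeechNorm Cfsg.Agent.Lib.Sporadic.LeechFacts
  Cfsg.Agent.Lib.Sporadic.LeechAut Cfsg.Agent.Lib.Sporadic.LeechMat
  Cfsg.Agent.Lib.Sporadic.LeechKey Cfsg.Agent.Lib.Sporadic.LeechEnum
  Cfsg.Agent.Lib.Sporadic.LeechA0 Cfsg.Agent.Lib.Sporadic.LeechMcLData Cfsg.Agent.Lib.Sporadic.LeechMcL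
  Cfsg.Agent.Lib.Sporadic.LeechShape Cfsg.Agent.Lib.Sporadic.LeechTree
  Cfsg.Agent.Lib.Sporadic.M24Chain Cfsg.Agent.Lib.Sporadic.Co3Mult

namespace D

set_option maxRecDepth 100000 in
theorem tree17 : treeOK 40 gensT2 (repsLit.getD 17 []) (certLit.getD 17 []) = true := by decide +kernel
set_option maxRecDepth 100000 in
theorem tree13 : treeOK 40 gensT2 (repsLit.getD 13 []) (certLit.getD 13 []) = true := by decide +kernel
set_option maxRecDepth 100000 in
theorem tree18 : treeOK 40 gensT2 (repsLit.getD 18 []) (certLit.getD 18 []) = true := by decide +kernel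
set_option maxRecDepth 100000 in
theorem tree21 : treeOK 40 gensT2 (repsLit.getD 21 []) (certLit.getD 21 []) = true := by decide +kernel

end D

end Cfsg.Agent.Lib.Sporadic.Co1Mult
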