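import Cfsg.Agent.Lib.Sporadic.Co1Mult.Chk0

/-!
# Checks for `Co₁`
-/

set_option autoImplicit false

namespace Cfsg.Agent.Lib.Sporadic.Co1Mult

open MulAction Cfsg Cfsg.Agent.Lib.Sporadic.GolayCore Cfsg.Agent.Lib.Sporadic.LeechBasic
  Cfsg.Agent.Lib.Sporadic.LeechNorm Cfsg.Agent.Lib.Sporadic.LeechFacts
  Cfsg.Agent.Lib.Sporadic.LeechAut Cfsg.Agent.Lib.Sporadic.LeechMat
  Cfsg.Agent.Lib.Sporadic.LeechKey Cfsg.Agent.Lib.Sporadic.LeechEnum
  Cfsg.Agent.Lib.Sporadic.LeechA0 Cfsg.Agent.Lib.Sporadic.LeechMcLData Cfsg.Agent.Lib.Sporadic.LeechMcL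
  Cfsg.Agent.Lib.Sporadic.LeechShape Cfsg.Agent.Lib.Sporadic.LeechTree
  Cfsg.Agent.Lib.Sporadic.M24Chain Cfsg.Agent.Lib.Sporadic.Co3Mult

namespace D

set_option maxRecDepth 100000 in
theorem tree0 : treeOK 40 gensT2 (repsLit.getD 0 []) (certLit.getD 0 []) = true := by decide +kernel
set_option maxRecDepth 100000 in
theorem tree11 : treeOK 40 gensT2 (repsLit.getD 11 []) (certLit.getD 11 []) = true := by decide +kernel
set_option maxRecDepth 100000 in
theorem tree12 : treeOK 40 gensT2 (repsLit.getD 12 []) (certLit.getD 12 []) = true := by decide +kernel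
set_option maxRecDepth 100000 in
theorem tree3 : treeOK 40 gensT2 (repsLit.getD 3 []) (certLit.getD 3 []) = true := by decide +kernel
set_option maxRecDepth 100000 in
theorem tree19 : treeOK 40 gensT2 (repsLit.getD 19 []) (certLit.getD 19 []) = true := by decide +kernel
set_option maxRecDepth 100000 in
theorem tree5 : treeOK 40 gensT2 (repsLit.getD 5 []) (certLit.getD 5 []) = true := by decide +kernel
set_option maxRecDepth 100000 in
theorem tree7 : treeOK 40 gensT2 (repsLit.getD 7 []) (certLit.getD 7 []) = true := by decide +kernel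
set_option maxRecDepth 100000 in
theorem tree22 : treeOK 40 gensT2 (repsLit.getD 22 []) (certLit.getD 22 []) = true := by decide +kernel
set_option maxRecDepth 100000 in
theorem tree24 : treeOK 40 gensT2 (repsLit.getD 24 []) (certLit.getD 24 []) = true := by decide +kernel
set_option maxRecDepth 100000 in
theorem tree26 : treeOK 40 gensT2 (repsLit.getD 26 []) (certLit.getD 26 []) = true := by decide +kernel
set_option maxRecDepth 100000 in
theorem tree28 : treeOK 40 gensT2 (repsLit.getD 28 []) (certLit.getD 28 []) = true := by decide +kernel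

end D

end Cfsg.Agent.Lib.Sporadic.Co1Mult
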