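import Cfsg.Agent.Lib.Sporadic.Co1Mult.Data

/-!
# Checks for `Co₁`
-/

set_option autoImplicit false

namespace Cfsg.Agent.Lib.Sporadic.Co1Mult

open MulAction Cfsg Cfsg.Agent.Lib.Sporadic.GolayCore Cfsg.Agent.Lib.Sporadic.LeechBasic
  Cfsg.Agent.Lib.Sporadic.LeechNorm Cfsg.Agent.Lib.Sporadic.LeechFacts
  Cfsg.Agent.Lib.Sporadic.LeechAut Cfsg.Agent.Lib.Sporadic.LeechMat
  Cfsg.Agent.Lib.Sporadic.LeechKey Cfsg.Agent.Lib.Sporadic.LeechEnum
  Cfsg.Agent.Lib.Sporadic.LeechA0 Cfsg.Agent.Lib.Sporadic.LeechMcLData Cfsg.Agent.Lib.Sporadic.LeechMcL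
  Cfsg.Agent.Lib.Sporadic.LeechShape Cfsg.Agent.Lib.Sporadic.LeechTree
  Cfsg.Agent.Lib.Sporadic.M24Chain Cfsg.Agent.Lib.Sporadic.Co3Mult

namespace D

theorem tm_code : codeList.contains tm = true := by decide +kernel
theorem tf_tf : ∀ i < 24, tf (tf (eiL i)) = eiL i := by decide +kernel
theorem chk_ks : (List.range 7).all (fun a => (ksL a).all okW && okW (gL a) && (fW (gL a) (eL a) == yA a)) = true := by decide +kernel
theorem chk_y : (List.range 7).all (fun a => inLattice (yA a) && (normL (yA a) == 32)) = true := by decide +kernel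
theorem chk_t : tf a0L = yA 1 := by decide +kernel
theorem chk_neg : negL (yA 0) = yA 2 ∧ negL (yA 6) = yA 3 ∧ negL (yA 4) = yA 5 ∧ yA 0 = a0L ∧ yA 6 = b0L := by decide +kernel
theorem chk_y1 : ∀ n < 24, n ≠ 3 → n ≠ 5 → (yA 1).getD n 0 = 0 := by decide +kernel
theorem chk_roots : rootsLit.all (fun y => inLattice y && (normL y == 32)) = true := by decide +kernel
theorem rootsLit_len : rootsLit.length = 30 := by decide +kernel
theorem chk_mT : mT.all (fun T => okL T && (lF T (yA 1) == yA 1)) = true := by decide +kernel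
theorem chk_tree : treeL.all treeOK1 = true := by decide +kernel
theorem chk_star : okW wStar = true ∧ okW h1Star = true ∧ fW wStar (yA 1) = rootF tS ∧ tf (rootF tS) = fW h1Star (yA 1) := by decide +kernel

end D

end Cfsg.Agent.Lib.Sporadic.Co1Mult
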