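import Cfsg.Agent.Lib.Sporadic.Co1Mult.Data

/-!
# Checks for `Co₁`
-/

set_option autoImplicit false

namespace Cfsg.Agent.Lib.Sporadic.Co1Mult

open MulAction Cfsg Cfsg.Agent.Lib.Sporadic.GolayCore Cfsg.Agent.Lib.Sporadic.LeechBasic
  Cfsg.Agent.Lib.Sporadic.LeechNorm Cfsg.Agent.Lib.Sporadic.LeechFacts
  Cfsg.Agent.Lib.Sporadic.LeechAut Cfsg.Agent.Lib.Sporadic.LeechMat
  Cfsg.Agent.Lib.Sporadic.LeechKey Cfsg.Agent.Lib.Sporadic.LeechEnum
  Cfsg.Agent.Lib.Sporadic.LeechA0 Cfsg.Agent.Lib.Sporadic.LeechMcLData Cfsg.Agent.Lib.Sporadic.LeechMcL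
  Cfsg.Agent.Lib.Sporadic.LeechShape Cfsg.Agent.Lib.Sporadic.LeechTree
  Cfsg.Agent.Lib.Sporadic.M24Chain Cfsg.Agent.Lib.Sporadic.Co3Mult

namespace D

theorem chk_ks2 : ks2.all okW = true ∧ ks6.all okW = true := by decide +kernel
theorem chk_w2t : ∀ i < 24, wF tf ks2 (eiL i) = eiL i := by decide +kernel
theorem chk_w6 : ∀ i < 24, wF tf ks6 (eiL i) = eiL i := by decide +kernel
theorem chk_t2 : (instOK ks2 t2Base && t2Inst.all (instOK ks2)) = true := by decide +kernel
theorem chk_w6i : (instOK ks6 w6Base && w6Inst.all (instOK ks6)) = true := by decide +kernel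
theorem rows_eq : rowsAll = rowsLit := by decide +kernel
theorem chk_comb : (List.range 30).all (fun j => (List.range 30).all fun i =>
    comb (cLit.getD j []) rowsLit i == if i = j then 1 else 0) = true := by decide +kernel
theorem chk_known2 : knownL.all (fun τ => Nat.blt τ 30) = true := by decide +kernel

end D

end Cfsg.Agent.Lib.Sporadic.Co1Mult
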