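import Cfsg.Agent.Lib.Sporadic.Co1Mult.Data

/-!
# Checks for `Co₁`
-/

set_option autoImplicit false

namespace Cfsg.Agent.Lib.Sporadic.Co1Mult

open MulAction Cfsg Cfsg.Agent.Lib.Sporadic.GolayCore Cfsg.Agent.Lib.Sporadic.LeechBasic
  Cfsg.Agent.Lib.Sporadic.LeechNorm Cfsg.Agent.Lib.Sporadic.LeechFacts
  Cfsg.Agent.Lib.Sporadic.LeechAut Cfsg.Agent.Lib.Sporadic.LeechMat
  Cfsg.Agent.Lib.Sporadic.LeechKey Cfsg.Agent.Lib.Sporadic.LeechEnum
  Cfsg.Agent.Lib.Sporadic.LeechA0 Cfsg.Agent.Lib.Sporadic.LeechMcLData Cfsg.Agent.Lib.Sporadic.LeechMcL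
  Cfsg.Agent.Lib.Sporadic.LeechShape Cfsg.Agent.Lib.Sporadic.LeechTree
  Cfsg.Agent.Lib.Sporadic.M24Chain Cfsg.Agent.Lib.Sporadic.Co3Mult

namespace D

theorem chk_xS : okL (xL 0) = true ∧ okL (xL 1) = true ∧ okL (xL 2) = true ∧ okL (xL 3) = true ∧ okL (xL 4) = true ∧ okL (xL 5) = true := by decide +kernel
theorem chk_xlen : (xL 0).length = 24 ∧ (xL 2).length = 24 := by decide +kernel
theorem chk_xeq : xL 0 = Co2Mult.D.xW 0 ∧ xL 2 = Co2Mult.D.xW 2 := by decide +kernel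
theorem chk_w1 : ∀ i < 24, fW (Co2Mult.D.w1L.map xL) (eiL i) = fW [xL 0] (eiL i) := by decide +kernel
theorem chk_w2 : ∀ i < 24, fW (Co2Mult.D.w2L.map xL) (eiL i) = fW [xL 2] (eiL i) := by decide +kernel
theorem chk_wS : ∀ i < 24, fW (wSL.map xL) (eiL i) = fW [xL 4] (eiL i) := by decide +kernel
theorem chk_inv : invOK (xL 0) = true ∧ invOK (xL 2) = true ∧ invOK (xL 4) = true ∧ invL (xL 0) = xL 1 ∧ invL (xL 2) = xL 3 ∧ invL (xL 4) = xL 5 := by decide +kernel
theorem chk_xfix : lF (xL 0) (yA 1) = yA 1 ∧ lF (xL 2) (yA 1) = yA 1 ∧ lF (xL 4) (yA 1) = yA 1 := by decide +kernel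
theorem chk_letters : ∀ x ∈ Co2Mult.D.w1L ++ Co2Mult.D.w2L ++ wSL, x < 6 := by decide +kernel
theorem chk_exp : ∀ j < 3, ∀ k < 3, Cfsg.Agent.Lib.Compute.SchurLin.expV (([Co2Mult.D.w1L, Co2Mult.D.w2L, wSL] : List (List ℕ)).getD j []) k = 0 := by decide +kernel
theorem chk_genU : gensU.all genOK = true := by decide +kernel
theorem chk_mono : monoT.all (fun T => okL T && (lF T (yA 1) == yA 1) && gensU.any (fun e => e.1 == T && e.2.1.isEmpty)) = true := by decide +kernel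
theorem chk_perm : permT.all (fun T => okL T && (T.length == 24) && monoT.contains T && (lF T b0L == b0L)) = true := by decide +kernel
theorem chk_permS : permS = permT.map (fun T => (invP T).map fun t => 5 * t) := by decide +kernel
theorem vg_ok : inLattice vgL = true ∧ Co2Mult.bdOK vgL = true := by decide +kernel
theorem vF_ok : inLattice vF = true ∧ normL vF = 32 ∧ tf vF = vF := by decide +kernel
theorem y_bd : inLattice (yA 1) = true ∧ Co2Mult.bdOK (yA 1) = true ∧ Co2Mult.bdOK b0L = true := by decide +kernel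


end D

end Cfsg.Agent.Lib.Sporadic.Co1Mult
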