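import Cfsg.Agent.Lib.Sporadic.Co1Mult.Words

/-!
# The data for `Co₁`
-/

set_option autoImplicit false

namespace Cfsg.Agent.Lib.Sporadic.Co1Mult

open MulAction Cfsg Cfsg.Agent.Lib.Sporadic.GolayCore Cfsg.Agent.Lib.Sporadic.LeechBasic
  Cfsg.Agent.Lib.Sporadic.LeechNorm Cfsg.Agent.Lib.Sporadic.LeechFacts
  Cfsg.Agent.Lib.Sporadic.LeechAut Cfsg.Agent.Lib.Sporadic.LeechMat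
  Cfsg.Agent.Lib.Sporadic.LeechKey Cfsg.Agent.Lib.Sporadic.LeechEnum
  Cfsg.Agent.Lib.Sporadic.LeechA0 Cfsg.Agent.Lib.Sporadic.LeechMcLData Cfsg.Agent.Lib.Sporadic.LeechMcL
  Cfsg.Agent.Lib.Sporadic.LeechShape Cfsg.Agent.Lib.Sporadic.LeechTree
  Cfsg.Agent.Lib.Sporadic.M24Chain Cfsg.Agent.Lib.Sporadic.Co3Mult

namespace D

def tm : ℕ := 5279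
def tf (l : List ℤ) : List ℤ := signL tm l
def ksAll : List (List (List (List ℕ))) := [[],[[]],[[],[[0,19,6,5,12,3,2,7,8,14,20,16,4,13,9,17,11,15,18,1,10,21,22,23]]],[[],[[],[21,17,0,3,16,5,23,7,20,11,2,18,22,19,8,4,12,13,10,14,1,9,6,15],[3152963,0],[0],[16,2,22,3,17,5,6,7,9,10,21,8,0,19,12,14,15,1,20,23,13,11,4,18],[9578566,0]]],[[],[[],[8,2,15,3,14,5,20,7,19,9,4,13,17,18,10,1,16,23,11,0,22,21,6,12],[9208708,0]]],[[],[[0,19,6,5,12,3,2,7,8,14,20,16,4,13,9,17,11,15,18,1,10,21,22,23],[],[16,20,15,3,8,5,2,17,11,10,22,7,12,19,23,9,21,1,6,0,4,14,18,13],[7340691,0]]],[[],[[0,19,6,5,12,3,2,7,8,14,20,16,4,13,9,17,11,15,18,1,10,21,22,23],[],[12,23,0,3,21,5,17,22,10,8,1,7,15,20,13,11,9,4,6,14,2,16,19,18],[9076308,0],[0],[11,17,10,3,8,5,14,2,7,4,20,1,0,16,19,21,12,13,22,15,9,18,6,23],[4892628,0]]]]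
def ksL (a : ℕ) : List (List (List ℕ)) := ksAll.getD a []
def eL (a : ℕ) : List ℤ := wF tf (ksL a) a0L
def gAll : List (List (List ℕ)) := [[],[],[],[[12810450,0],[],[12535255,0]],[[12,15,18,3,10,5,2,22,1,17,14,0,4,11,21,7,8,6,16,13,19,23,9,20],[16643398,0],[0],[4,13,0,3,20,5,19,8,14,17,7,6,16,11,18,15,9,23,10,1,22,21,2,12]],[[19,17,6,3,20,5,18,11,4,15,9,8,12,23,21,2,0,7,22,13,1,16,10,14],[8241104,0],[0],[9,8,1,3,17,5,19,11,16,4,23,7,15,10,12,13,22,0,14,21,18,2,6,20],[1065303,0]],[[0,12,18,3,22,5,6,7,2,19,20,1,11,16,4,9,17,13,8,15,21,10,14,23],[8470215,0],[],[5405696,0]]]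
def gL (a : ℕ) : List (List ℕ) := gAll.getD a []
def yLit : List (List ℤ) := [[0,0,0,4,0,4,0,0,0,0,0,0,0,0,0,0,0,0,0,0,0,0,0,0],[0,0,0,-4,0,4,0,0,0,0,0,0,0,0,0,0,0,0,0,0,0,0,0,0],[0,0,0,-4,0,-4,0,0,0,0,0,0,0,0,0,0,0,0,0,0,0,0,0,0],[-1,-1,-1,3,-1,-1,-1,-1,-1,-1,-1,-1,-1,-1,-1,-1,-1,-1,-1,-1,-1,-1,-1,-1],[4,0,0,0,0,4,0,0,0,0,0,0,0,0,0,0,0,0,0,0,0,0,0,0],[-4,0,0,0,0,-4,0,0,0,0,0,0,0,0,0,0,0,0,0,0,0,0,0,0],[1,1,1,-3,1,1,1,1,1,1,1,1,1,1,1,1,1,1,1,1,1,1,1,1]]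
def yA (a : ℕ) : List ℤ := yLit.getD a a0L
def rootsLit : List (List ℤ) := [[4,4,0,0,0,0,0,0,0,0,0,0,0,0,0,0,0,0,0,0,0,0,0,0],[4,0,0,4,0,0,0,0,0,0,0,0,0,0,0,0,0,0,0,0,0,0,0,0],[4,0,0,-4,0,0,0,0,0,0,0,0,0,0,0,0,0,0,0,0,0,0,0,0],[4,0,0,0,0,4,0,0,0,0,0,0,0,0,0,0,0,0,0,0,0,0,0,0],[4,0,0,0,0,-4,0,0,0,0,0,0,0,0,0,0,0,0,0,0,0,0,0,0],[0,0,0,4,0,4,0,0,0,0,0,0,0,0,0,0,0,0,0,0,0,0,0,0],[0,0,0,-4,0,4,0,0,0,0,0,0,0,0,0,0,0,0,0,0,0,0,0,0],[0,0,0,4,0,-4,0,0,0,0,0,0,0,0,0,0,0,0,0,0,0,0,0,0],[0,0,0,-4,0,-4,0,0,0,0,0,0,0,0,0,0,0,0,0,0,0,0,0,0],[2,2,2,2,0,0,2,0,0,2,0,2,0,0,0,0,0,0,0,0,0,0,2,0],[2,2,2,-2,0,0,2,0,0,2,0,2,0,0,0,0,0,0,0,0,0,0,-2,0],[0,2,0,2,2,2,0,0,0,2,2,0,0,0,0,0,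0,0,0,0,0,0,2,2],[0,2,0,-2,2,2,0,0,0,2,2,0,0,0,0,0,0,0,0,0,0,0,2,-2],[0,2,0,2,2,-2,0,0,0,2,2,0,0,0,0,0,0,0,0,0,0,0,2,-2],[0,2,0,-2,2,-2,0,0,0,2,2,0,0,0,0,0,0,0,0,0,0,0,2,2],[2,0,2,0,2,2,2,0,0,0,2,2,0,0,0,0,0,0,0,0,0,0,0,2],[2,0,2,0,2,-2,2,0,0,0,2,2,0,0,0,0,0,0,0,0,0,0,0,-2],[0,2,0,0,2,0,2,0,2,0,0,2,0,0,0,0,0,0,0,0,0,2,2,2],[-3,1,1,1,1,1,1,1,1,1,1,1,1,1,1,1,1,1,1,1,1,1,1,1],[3,-1,-1,-1,1,1,-1,1,1,-1,1,-1,1,1,1,1,1,1,1,1,1,1,-1,1],[3,-1,-1,-1,-1,-1,-1,-1,-1,-1,-1,-1,-1,-1,-1,-1,-1,-1,-1,-1,-1,-1,-1,-1],[3,1,-1,1,-1,-1,-1,1,1,1,-1,-1,1,1,1,1,1,1,1,1,1,1,1,-1],[1,1,1,-3,1,1,1,1,1,1,1,1,1,1,1,1,1,1,1,1,1,1,1,1],[-1,-1,-1,3,1,1,-1,1,1,-1,1,-1,1,1,1,1,1,1,1,1,1,1,-1,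1],[-1,-1,-1,3,-1,-1,-1,-1,-1,-1,-1,-1,-1,-1,-1,-1,-1,-1,-1,-1,-1,-1,-1,-1],[-1,1,-1,-3,-1,-1,-1,1,1,1,-1,-1,1,1,1,1,1,1,1,1,1,1,1,-1],[1,1,1,1,1,-3,1,1,1,1,1,1,1,1,1,1,1,1,1,1,1,1,1,1],[-1,-1,-1,-1,1,-3,-1,1,1,-1,1,-1,1,1,1,1,1,1,1,1,1,1,-1,1],[-1,-1,-1,-1,-1,3,-1,-1,-1,-1,-1,-1,-1,-1,-1,-1,-1,-1,-1,-1,-1,-1,-1,-1],[-1,1,-1,1,-1,3,-1,1,1,1,-1,-1,1,1,1,1,1,1,1,1,1,1,1,-1]]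
def rootF (τ : ℕ) : List ℤ := rootsLit.getD τ a0L
set_option maxHeartbeats 0 in
set_option maxRecDepth 1000000 in
def repsLit : List (List (List ℤ)) := [[[4,4,0,0,0,0,0,0,0,0,0,0,0,0,0,0,0,0,0,0,0,0,0,0],[4,0,4,0,0,0,0,0,0,0,0,0,0,0,0,0,0,0,0,0,0,0,0,0],[0,4,4,0,0,0,0,0,0,0,0,0,0,0,0,0,0,0,0,0,0,0,0,0],[4,0,0,0,4,0,0,0,0,0,0,0,0,0,0,0,0,0,0,0,0,0,0,0],[0,4,0,0,4,0,0,0,0,0,0,0,0,0,0,0,0,0,0,0,0,0,0,0],[0,0,4,0,4,0,0,0,0,0,0,0,0,0,0,0,0,0,0,0,0,0,0,0],[4,0,0,0,0,0,4,0,0,0,0,0,0,0,0,0,0,0,0,0,0,0,0,0],[0,4,0,0,0,0,4,0,0,0,0,0,0,0,0,0,0,0,0,0,0,0,0,0],[0,0,4,0,0,0,4,0,0,0,0,0,0,0,0,0,0,0,0,0,0,0,0,0],[0,0,0,0,4,0,4,0,0,0,0,0,0,0,0,0,0,0,0,0,0,0,0,0],[4,0,0,0,0,0,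0,4,0,0,0,0,0,0,0,0,0,0,0,0,0,0,0,0],[0,4,0,0,0,0,0,4,0,0,0,0,0,0,0,0,0,0,0,0,0,0,0,0],[0,0,4,0,0,0,0,4,0,0,0,0,0,0,0,0,0,0,0,0,0,0,0,0],[0,0,0,0,4,0,0,4,0,0,0,0,0,0,0,0,0,0,0,0,0,0,0,0],[0,0,0,0,0,0,4,4,0,0,0,0,0,0,0,0,0,0,0,0,0,0,0,0],[4,0,0,0,0,0,0,0,4,0,0,0,0,0,0,0,0,0,0,0,0,0,0,0],[0,4,0,0,0,0,0,0,4,0,0,0,0,0,0,0,0,0,0,0,0,0,0,0],[0,0,4,0,0,0,0,0,4,0,0,0,0,0,0,0,0,0,0,0,0,0,0,0],[0,0,0,0,4,0,0,0,4,0,0,0,0,0,0,0,0,0,0,0,0,0,0,0],[0,0,0,0,0,0,4,0,4,0,0,0,0,0,0,0,0,0,0,0,0,0,0,0],[0,0,0,0,0,0,0,4,4,0,0,0,0,0,0,0,0,0,0,0,0,0,0,0],[4,0,0,0,0,0,0,0,0,4,0,0,0,0,0,0,0,0,0,0,0,0,0,0],[0,4,0,0,0,0,0,0,0,4,0,0,0,0,0,0,0,0,0,0,0,0,0,0],[0,0,4,0,0,0,0,0,0,4,0,0,0,0,0,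0,0,0,0,0,0,0,0,0],[0,0,0,0,4,0,0,0,0,4,0,0,0,0,0,0,0,0,0,0,0,0,0,0],[0,0,0,0,0,0,4,0,0,4,0,0,0,0,0,0,0,0,0,0,0,0,0,0],[0,0,0,0,0,0,0,4,0,4,0,0,0,0,0,0,0,0,0,0,0,0,0,0],[0,0,0,0,0,0,0,0,4,4,0,0,0,0,0,0,0,0,0,0,0,0,0,0],[4,0,0,0,0,0,0,0,0,0,4,0,0,0,0,0,0,0,0,0,0,0,0,0],[0,4,0,0,0,0,0,0,0,0,4,0,0,0,0,0,0,0,0,0,0,0,0,0],[0,0,4,0,0,0,0,0,0,0,4,0,0,0,0,0,0,0,0,0,0,0,0,0],[0,0,0,0,4,0,0,0,0,0,4,0,0,0,0,0,0,0,0,0,0,0,0,0],[0,0,0,0,0,0,4,0,0,0,4,0,0,0,0,0,0,0,0,0,0,0,0,0],[0,0,0,0,0,0,0,4,0,0,4,0,0,0,0,0,0,0,0,0,0,0,0,0],[0,0,0,0,0,0,0,0,4,0,4,0,0,0,0,0,0,0,0,0,0,0,0,0],[0,0,0,0,0,0,0,0,0,4,4,0,0,0,0,0,0,0,0,0,0,0,0,0],[4,0,0,0,0,0,0,0,0,0,0,4,0,0,0,0,0,0,0,0,0,0,0,0]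,[0,4,0,0,0,0,0,0,0,0,0,4,0,0,0,0,0,0,0,0,0,0,0,0],[0,0,4,0,0,0,0,0,0,0,0,4,0,0,0,0,0,0,0,0,0,0,0,0],[0,0,0,0,4,0,0,0,0,0,0,4,0,0,0,0,0,0,0,0,0,0,0,0],[0,0,0,0,0,0,4,0,0,0,0,4,0,0,0,0,0,0,0,0,0,0,0,0],[0,0,0,0,0,0,0,4,0,0,0,4,0,0,0,0,0,0,0,0,0,0,0,0],[0,0,0,0,0,0,0,0,4,0,0,4,0,0,0,0,0,0,0,0,0,0,0,0],[0,0,0,0,0,0,0,0,0,4,0,4,0,0,0,0,0,0,0,0,0,0,0,0],[0,0,0,0,0,0,0,0,0,0,4,4,0,0,0,0,0,0,0,0,0,0,0,0],[4,0,0,0,0,0,0,0,0,0,0,0,4,0,0,0,0,0,0,0,0,0,0,0],[0,4,0,0,0,0,0,0,0,0,0,0,4,0,0,0,0,0,0,0,0,0,0,0],[0,0,4,0,0,0,0,0,0,0,0,0,4,0,0,0,0,0,0,0,0,0,0,0],[0,0,0,0,4,0,0,0,0,0,0,0,4,0,0,0,0,0,0,0,0,0,0,0],[0,0,0,0,0,0,4,0,0,0,0,0,4,0,0,0,0,0,0,0,0,0,0,0],[0,0,0,0,0,0,0,4,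0,0,0,0,4,0,0,0,0,0,0,0,0,0,0,0],[0,0,0,0,0,0,0,0,4,0,0,0,4,0,0,0,0,0,0,0,0,0,0,0],[0,0,0,0,0,0,0,0,0,4,0,0,4,0,0,0,0,0,0,0,0,0,0,0],[0,0,0,0,0,0,0,0,0,0,4,0,4,0,0,0,0,0,0,0,0,0,0,0],[0,0,0,0,0,0,0,0,0,0,0,4,4,0,0,0,0,0,0,0,0,0,0,0],[4,0,0,0,0,0,0,0,0,0,0,0,0,4,0,0,0,0,0,0,0,0,0,0],[0,4,0,0,0,0,0,0,0,0,0,0,0,4,0,0,0,0,0,0,0,0,0,0],[0,0,4,0,0,0,0,0,0,0,0,0,0,4,0,0,0,0,0,0,0,0,0,0],[0,0,0,0,4,0,0,0,0,0,0,0,0,4,0,0,0,0,0,0,0,0,0,0],[0,0,0,0,0,0,4,0,0,0,0,0,0,4,0,0,0,0,0,0,0,0,0,0],[0,0,0,0,0,0,0,4,0,0,0,0,0,4,0,0,0,0,0,0,0,0,0,0],[0,0,0,0,0,0,0,0,4,0,0,0,0,4,0,0,0,0,0,0,0,0,0,0],[0,0,0,0,0,0,0,0,0,4,0,0,0,4,0,0,0,0,0,0,0,0,0,0],[0,0,0,0,0,0,0,0,0,0,4,0,0,4,0,0,0,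0,0,0,0,0,0,0],[0,0,0,0,0,0,0,0,0,0,0,4,0,4,0,0,0,0,0,0,0,0,0,0],[0,0,0,0,0,0,0,0,0,0,0,0,4,4,0,0,0,0,0,0,0,0,0,0],[4,0,0,0,0,0,0,0,0,0,0,0,0,0,4,0,0,0,0,0,0,0,0,0],[0,4,0,0,0,0,0,0,0,0,0,0,0,0,4,0,0,0,0,0,0,0,0,0],[0,0,4,0,0,0,0,0,0,0,0,0,0,0,4,0,0,0,0,0,0,0,0,0],[0,0,0,0,4,0,0,0,0,0,0,0,0,0,4,0,0,0,0,0,0,0,0,0],[0,0,0,0,0,0,4,0,0,0,0,0,0,0,4,0,0,0,0,0,0,0,0,0],[0,0,0,0,0,0,0,4,0,0,0,0,0,0,4,0,0,0,0,0,0,0,0,0],[0,0,0,0,0,0,0,0,4,0,0,0,0,0,4,0,0,0,0,0,0,0,0,0],[0,0,0,0,0,0,0,0,0,4,0,0,0,0,4,0,0,0,0,0,0,0,0,0],[0,0,0,0,0,0,0,0,0,0,4,0,0,0,4,0,0,0,0,0,0,0,0,0],[0,0,0,0,0,0,0,0,0,0,0,4,0,0,4,0,0,0,0,0,0,0,0,0],[0,0,0,0,0,0,0,0,0,0,0,0,4,0,4,0,0,0,0,0,0,0,0,0],[0,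0,0,0,0,0,0,0,0,0,0,0,0,4,4,0,0,0,0,0,0,0,0,0],[4,0,0,0,0,0,0,0,0,0,0,0,0,0,0,4,0,0,0,0,0,0,0,0],[0,4,0,0,0,0,0,0,0,0,0,0,0,0,0,4,0,0,0,0,0,0,0,0],[0,0,4,0,0,0,0,0,0,0,0,0,0,0,0,4,0,0,0,0,0,0,0,0],[0,0,0,0,4,0,0,0,0,0,0,0,0,0,0,4,0,0,0,0,0,0,0,0],[0,0,0,0,0,0,4,0,0,0,0,0,0,0,0,4,0,0,0,0,0,0,0,0],[0,0,0,0,0,0,0,4,0,0,0,0,0,0,0,4,0,0,0,0,0,0,0,0],[0,0,0,0,0,0,0,0,4,0,0,0,0,0,0,4,0,0,0,0,0,0,0,0],[0,0,0,0,0,0,0,0,0,4,0,0,0,0,0,4,0,0,0,0,0,0,0,0],[0,0,0,0,0,0,0,0,0,0,4,0,0,0,0,4,0,0,0,0,0,0,0,0],[0,0,0,0,0,0,0,0,0,0,0,4,0,0,0,4,0,0,0,0,0,0,0,0],[0,0,0,0,0,0,0,0,0,0,0,0,4,0,0,4,0,0,0,0,0,0,0,0],[0,0,0,0,0,0,0,0,0,0,0,0,0,4,0,4,0,0,0,0,0,0,0,0],[0,0,0,0,0,0,0,0,0,0,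0,0,0,0,4,4,0,0,0,0,0,0,0,0],[4,0,0,0,0,0,0,0,0,0,0,0,0,0,0,0,4,0,0,0,0,0,0,0],[0,4,0,0,0,0,0,0,0,0,0,0,0,0,0,0,4,0,0,0,0,0,0,0],[0,0,4,0,0,0,0,0,0,0,0,0,0,0,0,0,4,0,0,0,0,0,0,0],[0,0,0,0,4,0,0,0,0,0,0,0,0,0,0,0,4,0,0,0,0,0,0,0],[0,0,0,0,0,0,4,0,0,0,0,0,0,0,0,0,4,0,0,0,0,0,0,0],[0,0,0,0,0,0,0,4,0,0,0,0,0,0,0,0,4,0,0,0,0,0,0,0],[0,0,0,0,0,0,0,0,4,0,0,0,0,0,0,0,4,0,0,0,0,0,0,0],[0,0,0,0,0,0,0,0,0,4,0,0,0,0,0,0,4,0,0,0,0,0,0,0],[0,0,0,0,0,0,0,0,0,0,4,0,0,0,0,0,4,0,0,0,0,0,0,0],[0,0,0,0,0,0,0,0,0,0,0,4,0,0,0,0,4,0,0,0,0,0,0,0],[0,0,0,0,0,0,0,0,0,0,0,0,4,0,0,0,4,0,0,0,0,0,0,0],[0,0,0,0,0,0,0,0,0,0,0,0,0,4,0,0,4,0,0,0,0,0,0,0],[0,0,0,0,0,0,0,0,0,0,0,0,0,0,4,0,4,0,0,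0,0,0,0,0],[0,0,0,0,0,0,0,0,0,0,0,0,0,0,0,4,4,0,0,0,0,0,0,0],[4,0,0,0,0,0,0,0,0,0,0,0,0,0,0,0,0,4,0,0,0,0,0,0],[0,4,0,0,0,0,0,0,0,0,0,0,0,0,0,0,0,4,0,0,0,0,0,0],[0,0,4,0,0,0,0,0,0,0,0,0,0,0,0,0,0,4,0,0,0,0,0,0],[0,0,0,0,4,0,0,0,0,0,0,0,0,0,0,0,0,4,0,0,0,0,0,0],[0,0,0,0,0,0,4,0,0,0,0,0,0,0,0,0,0,4,0,0,0,0,0,0],[0,0,0,0,0,0,0,4,0,0,0,0,0,0,0,0,0,4,0,0,0,0,0,0],[0,0,0,0,0,0,0,0,4,0,0,0,0,0,0,0,0,4,0,0,0,0,0,0],[0,0,0,0,0,0,0,0,0,4,0,0,0,0,0,0,0,4,0,0,0,0,0,0],[0,0,0,0,0,0,0,0,0,0,4,0,0,0,0,0,0,4,0,0,0,0,0,0],[0,0,0,0,0,0,0,0,0,0,0,4,0,0,0,0,0,4,0,0,0,0,0,0],[0,0,0,0,0,0,0,0,0,0,0,0,4,0,0,0,0,4,0,0,0,0,0,0],[0,0,0,0,0,0,0,0,0,0,0,0,0,4,0,0,0,4,0,0,0,0,0,0],[0,0,0,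0,0,0,0,0,0,0,0,0,0,0,4,0,0,4,0,0,0,0,0,0],[0,0,0,0,0,0,0,0,0,0,0,0,0,0,0,4,0,4,0,0,0,0,0,0],[0,0,0,0,0,0,0,0,0,0,0,0,0,0,0,0,4,4,0,0,0,0,0,0],[4,0,0,0,0,0,0,0,0,0,0,0,0,0,0,0,0,0,4,0,0,0,0,0],[0,4,0,0,0,0,0,0,0,0,0,0,0,0,0,0,0,0,4,0,0,0,0,0],[0,0,4,0,0,0,0,0,0,0,0,0,0,0,0,0,0,0,4,0,0,0,0,0],[0,0,0,0,4,0,0,0,0,0,0,0,0,0,0,0,0,0,4,0,0,0,0,0],[0,0,0,0,0,0,4,0,0,0,0,0,0,0,0,0,0,0,4,0,0,0,0,0],[0,0,0,0,0,0,0,4,0,0,0,0,0,0,0,0,0,0,4,0,0,0,0,0],[0,0,0,0,0,0,0,0,4,0,0,0,0,0,0,0,0,0,4,0,0,0,0,0],[0,0,0,0,0,0,0,0,0,4,0,0,0,0,0,0,0,0,4,0,0,0,0,0],[0,0,0,0,0,0,0,0,0,0,4,0,0,0,0,0,0,0,4,0,0,0,0,0],[0,0,0,0,0,0,0,0,0,0,0,4,0,0,0,0,0,0,4,0,0,0,0,0],[0,0,0,0,0,0,0,0,0,0,0,0,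4,0,0,0,0,0,4,0,0,0,0,0],[0,0,0,0,0,0,0,0,0,0,0,0,0,4,0,0,0,0,4,0,0,0,0,0],[0,0,0,0,0,0,0,0,0,0,0,0,0,0,4,0,0,0,4,0,0,0,0,0],[0,0,0,0,0,0,0,0,0,0,0,0,0,0,0,4,0,0,4,0,0,0,0,0],[0,0,0,0,0,0,0,0,0,0,0,0,0,0,0,0,4,0,4,0,0,0,0,0],[0,0,0,0,0,0,0,0,0,0,0,0,0,0,0,0,0,4,4,0,0,0,0,0],[4,0,0,0,0,0,0,0,0,0,0,0,0,0,0,0,0,0,0,4,0,0,0,0],[0,4,0,0,0,0,0,0,0,0,0,0,0,0,0,0,0,0,0,4,0,0,0,0],[0,0,4,0,0,0,0,0,0,0,0,0,0,0,0,0,0,0,0,4,0,0,0,0],[0,0,0,0,4,0,0,0,0,0,0,0,0,0,0,0,0,0,0,4,0,0,0,0],[0,0,0,0,0,0,4,0,0,0,0,0,0,0,0,0,0,0,0,4,0,0,0,0],[0,0,0,0,0,0,0,4,0,0,0,0,0,0,0,0,0,0,0,4,0,0,0,0],[0,0,0,0,0,0,0,0,4,0,0,0,0,0,0,0,0,0,0,4,0,0,0,0],[0,0,0,0,0,0,0,0,0,4,0,0,0,0,0,0,0,0,0,4,0,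0,0,0],[0,0,0,0,0,0,0,0,0,0,4,0,0,0,0,0,0,0,0,4,0,0,0,0],[0,0,0,0,0,0,0,0,0,0,0,4,0,0,0,0,0,0,0,4,0,0,0,0],[0,0,0,0,0,0,0,0,0,0,0,0,4,0,0,0,0,0,0,4,0,0,0,0],[0,0,0,0,0,0,0,0,0,0,0,0,0,4,0,0,0,0,0,4,0,0,0,0],[0,0,0,0,0,0,0,0,0,0,0,0,0,0,4,0,0,0,0,4,0,0,0,0],[0,0,0,0,0,0,0,0,0,0,0,0,0,0,0,4,0,0,0,4,0,0,0,0],[0,0,0,0,0,0,0,0,0,0,0,0,0,0,0,0,4,0,0,4,0,0,0,0],[0,0,0,0,0,0,0,0,0,0,0,0,0,0,0,0,0,4,0,4,0,0,0,0],[0,0,0,0,0,0,0,0,0,0,0,0,0,0,0,0,0,0,4,4,0,0,0,0],[4,0,0,0,0,0,0,0,0,0,0,0,0,0,0,0,0,0,0,0,4,0,0,0],[0,4,0,0,0,0,0,0,0,0,0,0,0,0,0,0,0,0,0,0,4,0,0,0],[0,0,4,0,0,0,0,0,0,0,0,0,0,0,0,0,0,0,0,0,4,0,0,0],[0,0,0,0,4,0,0,0,0,0,0,0,0,0,0,0,0,0,0,0,4,0,0,0],[0,0,0,0,0,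0,4,0,0,0,0,0,0,0,0,0,0,0,0,0,4,0,0,0],[0,0,0,0,0,0,0,4,0,0,0,0,0,0,0,0,0,0,0,0,4,0,0,0],[0,0,0,0,0,0,0,0,4,0,0,0,0,0,0,0,0,0,0,0,4,0,0,0],[0,0,0,0,0,0,0,0,0,4,0,0,0,0,0,0,0,0,0,0,4,0,0,0],[0,0,0,0,0,0,0,0,0,0,4,0,0,0,0,0,0,0,0,0,4,0,0,0],[0,0,0,0,0,0,0,0,0,0,0,4,0,0,0,0,0,0,0,0,4,0,0,0],[0,0,0,0,0,0,0,0,0,0,0,0,4,0,0,0,0,0,0,0,4,0,0,0],[0,0,0,0,0,0,0,0,0,0,0,0,0,4,0,0,0,0,0,0,4,0,0,0],[0,0,0,0,0,0,0,0,0,0,0,0,0,0,4,0,0,0,0,0,4,0,0,0],[0,0,0,0,0,0,0,0,0,0,0,0,0,0,0,4,0,0,0,0,4,0,0,0],[0,0,0,0,0,0,0,0,0,0,0,0,0,0,0,0,4,0,0,0,4,0,0,0],[0,0,0,0,0,0,0,0,0,0,0,0,0,0,0,0,0,4,0,0,4,0,0,0],[0,0,0,0,0,0,0,0,0,0,0,0,0,0,0,0,0,0,4,0,4,0,0,0],[0,0,0,0,0,0,0,0,0,0,0,0,0,0,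0,0,0,0,0,4,4,0,0,0],[4,0,0,0,0,0,0,0,0,0,0,0,0,0,0,0,0,0,0,0,0,4,0,0],[0,4,0,0,0,0,0,0,0,0,0,0,0,0,0,0,0,0,0,0,0,4,0,0],[0,0,4,0,0,0,0,0,0,0,0,0,0,0,0,0,0,0,0,0,0,4,0,0],[0,0,0,0,4,0,0,0,0,0,0,0,0,0,0,0,0,0,0,0,0,4,0,0],[0,0,0,0,0,0,4,0,0,0,0,0,0,0,0,0,0,0,0,0,0,4,0,0],[0,0,0,0,0,0,0,4,0,0,0,0,0,0,0,0,0,0,0,0,0,4,0,0],[0,0,0,0,0,0,0,0,4,0,0,0,0,0,0,0,0,0,0,0,0,4,0,0],[0,0,0,0,0,0,0,0,0,4,0,0,0,0,0,0,0,0,0,0,0,4,0,0],[0,0,0,0,0,0,0,0,0,0,4,0,0,0,0,0,0,0,0,0,0,4,0,0],[0,0,0,0,0,0,0,0,0,0,0,4,0,0,0,0,0,0,0,0,0,4,0,0],[0,0,0,0,0,0,0,0,0,0,0,0,4,0,0,0,0,0,0,0,0,4,0,0],[0,0,0,0,0,0,0,0,0,0,0,0,0,4,0,0,0,0,0,0,0,4,0,0],[0,0,0,0,0,0,0,0,0,0,0,0,0,0,4,0,0,0,0,0,0,4,0,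0],[0,0,0,0,0,0,0,0,0,0,0,0,0,0,0,4,0,0,0,0,0,4,0,0],[0,0,0,0,0,0,0,0,0,0,0,0,0,0,0,0,4,0,0,0,0,4,0,0],[0,0,0,0,0,0,0,0,0,0,0,0,0,0,0,0,0,4,0,0,0,4,0,0],[0,0,0,0,0,0,0,0,0,0,0,0,0,0,0,0,0,0,4,0,0,4,0,0],[0,0,0,0,0,0,0,0,0,0,0,0,0,0,0,0,0,0,0,4,0,4,0,0],[0,0,0,0,0,0,0,0,0,0,0,0,0,0,0,0,0,0,0,0,4,4,0,0],[4,0,0,0,0,0,0,0,0,0,0,0,0,0,0,0,0,0,0,0,0,0,4,0],[0,4,0,0,0,0,0,0,0,0,0,0,0,0,0,0,0,0,0,0,0,0,4,0],[0,0,4,0,0,0,0,0,0,0,0,0,0,0,0,0,0,0,0,0,0,0,4,0],[0,0,0,0,4,0,0,0,0,0,0,0,0,0,0,0,0,0,0,0,0,0,4,0],[0,0,0,0,0,0,4,0,0,0,0,0,0,0,0,0,0,0,0,0,0,0,4,0],[0,0,0,0,0,0,0,4,0,0,0,0,0,0,0,0,0,0,0,0,0,0,4,0],[0,0,0,0,0,0,0,0,4,0,0,0,0,0,0,0,0,0,0,0,0,0,4,0],[0,0,0,0,0,0,0,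0,0,4,0,0,0,0,0,0,0,0,0,0,0,0,4,0],[0,0,0,0,0,0,0,0,0,0,4,0,0,0,0,0,0,0,0,0,0,0,4,0],[0,0,0,0,0,0,0,0,0,0,0,4,0,0,0,0,0,0,0,0,0,0,4,0],[0,0,0,0,0,0,0,0,0,0,0,0,4,0,0,0,0,0,0,0,0,0,4,0],[0,0,0,0,0,0,0,0,0,0,0,0,0,4,0,0,0,0,0,0,0,0,4,0],[0,0,0,0,0,0,0,0,0,0,0,0,0,0,4,0,0,0,0,0,0,0,4,0],[0,0,0,0,0,0,0,0,0,0,0,0,0,0,0,4,0,0,0,0,0,0,4,0],[0,0,0,0,0,0,0,0,0,0,0,0,0,0,0,0,4,0,0,0,0,0,4,0],[0,0,0,0,0,0,0,0,0,0,0,0,0,0,0,0,0,4,0,0,0,0,4,0],[0,0,0,0,0,0,0,0,0,0,0,0,0,0,0,0,0,0,4,0,0,0,4,0],[0,0,0,0,0,0,0,0,0,0,0,0,0,0,0,0,0,0,0,4,0,0,4,0],[0,0,0,0,0,0,0,0,0,0,0,0,0,0,0,0,0,0,0,0,4,0,4,0],[0,0,0,0,0,0,0,0,0,0,0,0,0,0,0,0,0,0,0,0,0,4,4,0],[4,0,0,0,0,0,0,0,0,0,0,0,0,0,0,0,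0,0,0,0,0,0,0,4],[0,4,0,0,0,0,0,0,0,0,0,0,0,0,0,0,0,0,0,0,0,0,0,4],[0,0,4,0,0,0,0,0,0,0,0,0,0,0,0,0,0,0,0,0,0,0,0,4],[0,0,0,0,4,0,0,0,0,0,0,0,0,0,0,0,0,0,0,0,0,0,0,4],[0,0,0,0,0,0,4,0,0,0,0,0,0,0,0,0,0,0,0,0,0,0,0,4],[0,0,0,0,0,0,0,4,0,0,0,0,0,0,0,0,0,0,0,0,0,0,0,4],[0,0,0,0,0,0,0,0,4,0,0,0,0,0,0,0,0,0,0,0,0,0,0,4],[0,0,0,0,0,0,0,0,0,4,0,0,0,0,0,0,0,0,0,0,0,0,0,4],[0,0,0,0,0,0,0,0,0,0,4,0,0,0,0,0,0,0,0,0,0,0,0,4],[0,0,0,0,0,0,0,0,0,0,0,4,0,0,0,0,0,0,0,0,0,0,0,4],[0,0,0,0,0,0,0,0,0,0,0,0,4,0,0,0,0,0,0,0,0,0,0,4],[0,0,0,0,0,0,0,0,0,0,0,0,0,4,0,0,0,0,0,0,0,0,0,4],[0,0,0,0,0,0,0,0,0,0,0,0,0,0,4,0,0,0,0,0,0,0,0,4],[0,0,0,0,0,0,0,0,0,0,0,0,0,0,0,4,0,0,0,0,0,0,0,4],[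0,0,0,0,0,0,0,0,0,0,0,0,0,0,0,0,4,0,0,0,0,0,0,4],[0,0,0,0,0,0,0,0,0,0,0,0,0,0,0,0,0,4,0,0,0,0,0,4],[0,0,0,0,0,0,0,0,0,0,0,0,0,0,0,0,0,0,4,0,0,0,0,4],[0,0,0,0,0,0,0,0,0,0,0,0,0,0,0,0,0,0,0,4,0,0,0,4],[0,0,0,0,0,0,0,0,0,0,0,0,0,0,0,0,0,0,0,0,4,0,0,4],[0,0,0,0,0,0,0,0,0,0,0,0,0,0,0,0,0,0,0,0,0,4,0,4],[0,0,0,0,0,0,0,0,0,0,0,0,0,0,0,0,0,0,0,0,0,0,4,4]],[[4,0,0,4,0,0,0,0,0,0,0,0,0,0,0,0,0,0,0,0,0,0,0,0],[0,4,0,4,0,0,0,0,0,0,0,0,0,0,0,0,0,0,0,0,0,0,0,0],[0,0,4,4,0,0,0,0,0,0,0,0,0,0,0,0,0,0,0,0,0,0,0,0],[0,0,0,4,4,0,0,0,0,0,0,0,0,0,0,0,0,0,0,0,0,0,0,0],[0,0,0,4,0,0,4,0,0,0,0,0,0,0,0,0,0,0,0,0,0,0,0,0],[0,0,0,4,0,0,0,4,0,0,0,0,0,0,0,0,0,0,0,0,0,0,0,0],[0,0,0,4,0,0,0,0,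4,0,0,0,0,0,0,0,0,0,0,0,0,0,0,0],[0,0,0,4,0,0,0,0,0,4,0,0,0,0,0,0,0,0,0,0,0,0,0,0],[0,0,0,4,0,0,0,0,0,0,4,0,0,0,0,0,0,0,0,0,0,0,0,0],[0,0,0,4,0,0,0,0,0,0,0,4,0,0,0,0,0,0,0,0,0,0,0,0],[0,0,0,4,0,0,0,0,0,0,0,0,4,0,0,0,0,0,0,0,0,0,0,0],[0,0,0,4,0,0,0,0,0,0,0,0,0,4,0,0,0,0,0,0,0,0,0,0],[0,0,0,4,0,0,0,0,0,0,0,0,0,0,4,0,0,0,0,0,0,0,0,0],[0,0,0,4,0,0,0,0,0,0,0,0,0,0,0,4,0,0,0,0,0,0,0,0],[0,0,0,4,0,0,0,0,0,0,0,0,0,0,0,0,4,0,0,0,0,0,0,0],[0,0,0,4,0,0,0,0,0,0,0,0,0,0,0,0,0,4,0,0,0,0,0,0],[0,0,0,4,0,0,0,0,0,0,0,0,0,0,0,0,0,0,4,0,0,0,0,0],[0,0,0,4,0,0,0,0,0,0,0,0,0,0,0,0,0,0,0,4,0,0,0,0],[0,0,0,4,0,0,0,0,0,0,0,0,0,0,0,0,0,0,0,0,4,0,0,0],[0,0,0,4,0,0,0,0,0,0,0,0,0,0,0,0,0,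0,0,0,0,4,0,0],[0,0,0,4,0,0,0,0,0,0,0,0,0,0,0,0,0,0,0,0,0,0,4,0],[0,0,0,4,0,0,0,0,0,0,0,0,0,0,0,0,0,0,0,0,0,0,0,4]],[[4,0,0,-4,0,0,0,0,0,0,0,0,0,0,0,0,0,0,0,0,0,0,0,0],[0,4,0,-4,0,0,0,0,0,0,0,0,0,0,0,0,0,0,0,0,0,0,0,0],[0,0,4,-4,0,0,0,0,0,0,0,0,0,0,0,0,0,0,0,0,0,0,0,0],[0,0,0,-4,4,0,0,0,0,0,0,0,0,0,0,0,0,0,0,0,0,0,0,0],[0,0,0,-4,0,0,4,0,0,0,0,0,0,0,0,0,0,0,0,0,0,0,0,0],[0,0,0,-4,0,0,0,4,0,0,0,0,0,0,0,0,0,0,0,0,0,0,0,0],[0,0,0,-4,0,0,0,0,4,0,0,0,0,0,0,0,0,0,0,0,0,0,0,0],[0,0,0,-4,0,0,0,0,0,4,0,0,0,0,0,0,0,0,0,0,0,0,0,0],[0,0,0,-4,0,0,0,0,0,0,4,0,0,0,0,0,0,0,0,0,0,0,0,0],[0,0,0,-4,0,0,0,0,0,0,0,4,0,0,0,0,0,0,0,0,0,0,0,0],[0,0,0,-4,0,0,0,0,0,0,0,0,4,0,0,0,0,0,0,0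,0,0,0,0],[0,0,0,-4,0,0,0,0,0,0,0,0,0,4,0,0,0,0,0,0,0,0,0,0],[0,0,0,-4,0,0,0,0,0,0,0,0,0,0,4,0,0,0,0,0,0,0,0,0],[0,0,0,-4,0,0,0,0,0,0,0,0,0,0,0,4,0,0,0,0,0,0,0,0],[0,0,0,-4,0,0,0,0,0,0,0,0,0,0,0,0,4,0,0,0,0,0,0,0],[0,0,0,-4,0,0,0,0,0,0,0,0,0,0,0,0,0,4,0,0,0,0,0,0],[0,0,0,-4,0,0,0,0,0,0,0,0,0,0,0,0,0,0,4,0,0,0,0,0],[0,0,0,-4,0,0,0,0,0,0,0,0,0,0,0,0,0,0,0,4,0,0,0,0],[0,0,0,-4,0,0,0,0,0,0,0,0,0,0,0,0,0,0,0,0,4,0,0,0],[0,0,0,-4,0,0,0,0,0,0,0,0,0,0,0,0,0,0,0,0,0,4,0,0],[0,0,0,-4,0,0,0,0,0,0,0,0,0,0,0,0,0,0,0,0,0,0,4,0],[0,0,0,-4,0,0,0,0,0,0,0,0,0,0,0,0,0,0,0,0,0,0,0,4]],[[4,0,0,0,0,4,0,0,0,0,0,0,0,0,0,0,0,0,0,0,0,0,0,0],[0,4,0,0,0,4,0,0,0,0,0,0,0,0,0,0,0,0,0,0,0,0,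0,0],[0,0,4,0,0,4,0,0,0,0,0,0,0,0,0,0,0,0,0,0,0,0,0,0],[0,0,0,0,4,4,0,0,0,0,0,0,0,0,0,0,0,0,0,0,0,0,0,0],[0,0,0,0,0,4,4,0,0,0,0,0,0,0,0,0,0,0,0,0,0,0,0,0],[0,0,0,0,0,4,0,4,0,0,0,0,0,0,0,0,0,0,0,0,0,0,0,0],[0,0,0,0,0,4,0,0,4,0,0,0,0,0,0,0,0,0,0,0,0,0,0,0],[0,0,0,0,0,4,0,0,0,4,0,0,0,0,0,0,0,0,0,0,0,0,0,0],[0,0,0,0,0,4,0,0,0,0,4,0,0,0,0,0,0,0,0,0,0,0,0,0],[0,0,0,0,0,4,0,0,0,0,0,4,0,0,0,0,0,0,0,0,0,0,0,0],[0,0,0,0,0,4,0,0,0,0,0,0,4,0,0,0,0,0,0,0,0,0,0,0],[0,0,0,0,0,4,0,0,0,0,0,0,0,4,0,0,0,0,0,0,0,0,0,0],[0,0,0,0,0,4,0,0,0,0,0,0,0,0,4,0,0,0,0,0,0,0,0,0],[0,0,0,0,0,4,0,0,0,0,0,0,0,0,0,4,0,0,0,0,0,0,0,0],[0,0,0,0,0,4,0,0,0,0,0,0,0,0,0,0,4,0,0,0,0,0,0,0],[0,0,0,0,0,4,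0,0,0,0,0,0,0,0,0,0,0,4,0,0,0,0,0,0],[0,0,0,0,0,4,0,0,0,0,0,0,0,0,0,0,0,0,4,0,0,0,0,0],[0,0,0,0,0,4,0,0,0,0,0,0,0,0,0,0,0,0,0,4,0,0,0,0],[0,0,0,0,0,4,0,0,0,0,0,0,0,0,0,0,0,0,0,0,4,0,0,0],[0,0,0,0,0,4,0,0,0,0,0,0,0,0,0,0,0,0,0,0,0,4,0,0],[0,0,0,0,0,4,0,0,0,0,0,0,0,0,0,0,0,0,0,0,0,0,4,0],[0,0,0,0,0,4,0,0,0,0,0,0,0,0,0,0,0,0,0,0,0,0,0,4]],[[4,0,0,0,0,-4,0,0,0,0,0,0,0,0,0,0,0,0,0,0,0,0,0,0],[0,4,0,0,0,-4,0,0,0,0,0,0,0,0,0,0,0,0,0,0,0,0,0,0],[0,0,4,0,0,-4,0,0,0,0,0,0,0,0,0,0,0,0,0,0,0,0,0,0],[0,0,0,0,4,-4,0,0,0,0,0,0,0,0,0,0,0,0,0,0,0,0,0,0],[0,0,0,0,0,-4,4,0,0,0,0,0,0,0,0,0,0,0,0,0,0,0,0,0],[0,0,0,0,0,-4,0,4,0,0,0,0,0,0,0,0,0,0,0,0,0,0,0,0],[0,0,0,0,0,-4,0,0,4,0,0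,0,0,0,0,0,0,0,0,0,0,0,0,0],[0,0,0,0,0,-4,0,0,0,4,0,0,0,0,0,0,0,0,0,0,0,0,0,0],[0,0,0,0,0,-4,0,0,0,0,4,0,0,0,0,0,0,0,0,0,0,0,0,0],[0,0,0,0,0,-4,0,0,0,0,0,4,0,0,0,0,0,0,0,0,0,0,0,0],[0,0,0,0,0,-4,0,0,0,0,0,0,4,0,0,0,0,0,0,0,0,0,0,0],[0,0,0,0,0,-4,0,0,0,0,0,0,0,4,0,0,0,0,0,0,0,0,0,0],[0,0,0,0,0,-4,0,0,0,0,0,0,0,0,4,0,0,0,0,0,0,0,0,0],[0,0,0,0,0,-4,0,0,0,0,0,0,0,0,0,4,0,0,0,0,0,0,0,0],[0,0,0,0,0,-4,0,0,0,0,0,0,0,0,0,0,4,0,0,0,0,0,0,0],[0,0,0,0,0,-4,0,0,0,0,0,0,0,0,0,0,0,4,0,0,0,0,0,0],[0,0,0,0,0,-4,0,0,0,0,0,0,0,0,0,0,0,0,4,0,0,0,0,0],[0,0,0,0,0,-4,0,0,0,0,0,0,0,0,0,0,0,0,0,4,0,0,0,0],[0,0,0,0,0,-4,0,0,0,0,0,0,0,0,0,0,0,0,0,0,4,0,0,0],[0,0,0,0,0,-4,0,0,0,0,0,0,0,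0,0,0,0,0,0,0,0,4,0,0],[0,0,0,0,0,-4,0,0,0,0,0,0,0,0,0,0,0,0,0,0,0,0,4,0],[0,0,0,0,0,-4,0,0,0,0,0,0,0,0,0,0,0,0,0,0,0,0,0,4]],[[0,0,0,4,0,4,0,0,0,0,0,0,0,0,0,0,0,0,0,0,0,0,0,0]],[[0,0,0,-4,0,4,0,0,0,0,0,0,0,0,0,0,0,0,0,0,0,0,0,0]],[[0,0,0,4,0,-4,0,0,0,0,0,0,0,0,0,0,0,0,0,0,0,0,0,0]],[[0,0,0,-4,0,-4,0,0,0,0,0,0,0,0,0,0,0,0,0,0,0,0,0,0]],[[2,2,2,2,0,0,2,0,0,2,0,2,0,0,0,0,0,0,0,0,0,0,2,0],[2,0,2,2,2,0,0,0,2,2,0,0,0,0,0,0,0,0,0,0,0,2,0,2],[0,2,2,2,0,0,0,2,2,0,0,0,0,0,0,0,0,0,0,0,2,0,2,2],[0,0,2,2,2,0,2,2,0,0,0,2,0,0,0,0,0,0,0,0,2,2,0,0],[0,2,0,2,2,0,2,2,2,2,0,0,0,0,0,0,0,0,0,2,0,0,0,0],[0,0,0,2,0,0,0,2,0,2,0,2,0,0,0,0,0,0,0,2,0,2,2,2],[2,2,0,2,2,0,0,0,0,0,0,2,0,0,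0,0,0,0,0,2,2,0,0,2],[2,0,0,2,0,0,2,0,2,0,0,0,0,0,0,0,0,0,0,2,2,2,2,0],[0,0,0,2,2,0,0,2,2,0,2,2,0,0,0,0,0,0,2,0,0,0,0,2],[0,2,0,2,0,0,2,2,0,0,2,0,0,0,0,0,0,0,2,0,0,2,2,0],[2,0,0,2,2,0,2,0,0,2,2,0,0,0,0,0,0,0,2,0,2,0,0,0],[2,0,2,2,0,0,0,0,0,0,2,0,0,0,0,0,0,0,2,2,0,0,2,2],[0,0,2,2,0,0,2,2,0,2,2,0,0,0,0,0,0,2,0,0,0,0,0,2],[2,0,2,2,0,0,0,0,2,0,2,2,0,0,0,0,0,2,0,0,2,0,0,0],[2,2,0,2,0,0,0,0,0,2,2,0,0,0,0,0,0,2,0,2,0,2,0,0],[0,0,0,2,2,0,0,2,0,0,2,0,0,0,0,0,0,2,0,2,2,0,2,0],[2,2,0,2,2,0,0,0,2,0,0,0,0,0,0,0,0,2,2,0,0,0,2,0],[2,0,0,2,0,0,2,0,0,0,0,2,0,0,0,0,0,2,2,0,0,2,0,2],[0,0,0,2,0,0,0,2,2,2,0,0,0,0,0,0,0,2,2,0,2,2,0,0],[0,2,2,2,0,0,0,2,0,0,0,2,0,0,0,0,0,2,2,2,0,0,0,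0],[0,0,2,2,2,0,2,0,2,0,2,0,0,0,0,0,2,0,0,0,0,0,2,0],[0,2,2,2,0,0,0,0,0,0,2,2,0,0,0,0,2,0,0,0,0,2,0,2],[2,0,0,2,0,0,2,2,0,0,2,2,0,0,0,0,2,0,0,2,0,0,0,0],[0,0,0,2,0,0,0,0,2,2,2,0,0,0,0,0,2,0,0,2,2,0,0,2],[2,2,0,2,0,0,0,2,0,2,0,0,0,0,0,0,2,0,2,0,0,0,0,2],[0,2,0,2,0,0,2,0,2,0,0,2,0,0,0,0,2,0,2,0,2,0,0,0],[0,0,0,2,2,0,0,0,0,0,0,0,0,0,0,0,2,0,2,0,2,2,2,2],[0,0,2,2,0,0,2,0,0,2,0,0,0,0,0,0,2,0,2,2,0,2,0,0],[2,0,2,2,0,0,0,2,0,0,0,0,0,0,0,0,2,2,0,0,0,2,2,0],[0,2,2,2,2,0,0,0,0,2,0,0,0,0,0,0,2,2,0,0,2,0,0,0],[0,2,0,2,0,0,2,0,0,0,0,0,0,0,0,0,2,2,0,2,0,0,2,2],[0,0,0,2,2,0,0,0,2,0,0,2,0,0,0,0,2,2,0,2,0,2,0,0],[0,0,0,2,0,0,0,0,0,2,2,2,0,0,0,0,2,2,2,0,0,0,2,0],[2,0,0,2,0,0,0,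2,2,2,2,0,0,0,0,2,0,0,0,0,0,0,2,0],[0,0,0,2,0,0,2,0,0,0,2,2,0,0,0,2,0,0,0,0,2,0,2,2],[0,2,0,2,2,0,0,0,2,0,2,0,0,0,0,2,0,0,0,0,2,2,0,0],[0,0,2,2,2,0,0,0,0,2,2,2,0,0,0,2,0,0,0,2,0,0,0,0],[0,2,2,2,2,0,2,0,0,0,0,0,0,0,0,2,0,0,2,0,0,0,0,2],[0,0,2,2,0,0,0,0,2,0,0,2,0,0,0,2,0,0,2,0,0,2,2,0],[2,0,0,2,2,0,0,2,0,0,0,0,0,0,0,2,0,0,2,2,0,2,0,0],[0,2,0,2,0,0,0,0,0,2,0,0,0,0,0,2,0,0,2,2,2,0,2,0],[0,2,0,2,0,0,0,0,2,2,0,2,0,0,0,2,0,2,0,0,0,0,0,2],[0,0,0,2,2,0,2,0,0,2,0,0,0,0,0,2,0,2,0,0,0,2,2,0],[2,2,0,2,0,0,2,2,0,0,0,0,0,0,0,2,0,2,0,0,2,0,0,0],[0,0,2,2,0,0,0,0,0,0,0,0,0,0,0,2,0,2,0,2,2,2,0,2],[0,0,0,2,0,0,2,0,2,0,2,0,0,0,0,2,0,2,2,2,0,0,0,0],[0,2,0,2,2,0,0,2,0,0,0,2,0,0,0,2,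2,0,0,0,0,0,2,0],[0,0,0,2,0,0,2,2,2,0,0,0,0,0,0,2,2,0,0,0,0,2,0,2],[2,0,0,2,0,0,0,0,0,2,0,2,0,0,0,2,2,0,0,0,2,2,0,0],[2,2,2,2,0,0,0,0,2,0,0,0,0,0,0,2,2,0,0,2,0,0,0,0],[0,0,2,2,0,0,0,2,0,0,2,0,0,0,0,2,2,0,2,0,2,0,0,0],[2,0,0,2,2,0,0,0,0,0,2,0,0,0,0,2,2,2,0,0,0,0,0,2],[2,0,0,2,2,0,2,2,0,0,0,0,0,0,2,0,0,0,0,0,0,0,2,2],[2,2,0,2,0,0,0,2,2,0,0,2,0,0,2,0,0,0,0,0,0,2,0,0],[0,0,0,2,2,0,0,0,2,2,0,2,0,0,2,0,0,0,0,0,2,0,2,0],[0,2,0,2,0,0,2,0,0,2,0,0,0,0,2,0,0,0,0,0,2,2,0,2],[0,0,2,2,0,0,2,0,2,0,0,2,0,0,2,0,0,0,0,2,0,0,0,2],[0,2,2,2,2,0,0,0,0,0,0,0,0,0,2,0,0,0,0,2,0,2,2,0],[2,0,2,2,0,0,0,2,0,2,0,0,0,0,2,0,0,0,0,2,2,0,0,0],[0,2,2,2,0,0,0,0,2,2,2,0,0,0,2,0,0,0,2,0,0,0,0,0],[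0,0,0,2,0,0,0,0,0,0,2,2,0,0,2,0,0,0,2,2,2,2,0,0],[0,2,0,2,2,0,2,0,0,0,2,2,0,0,2,0,0,2,0,0,0,0,0,0],[0,0,0,2,0,0,0,0,2,0,2,0,0,0,2,0,0,2,0,0,0,2,2,2],[0,0,2,2,0,0,2,0,0,0,0,0,0,0,2,0,0,2,2,0,2,0,2,0],[0,0,0,2,2,0,0,0,0,2,0,0,0,0,2,0,0,2,2,2,0,0,0,2],[0,0,0,2,2,0,0,2,0,2,2,0,0,0,2,0,2,0,0,0,0,2,0,0],[2,2,0,2,0,0,0,0,0,0,2,0,0,0,2,0,2,0,0,0,2,0,2,0],[2,0,2,2,2,0,0,0,0,0,0,2,0,0,2,0,2,0,2,0,0,0,0,0],[0,0,0,2,0,0,0,2,2,0,0,0,0,0,2,0,2,0,2,2,0,0,2,0],[2,0,0,2,0,0,2,0,2,2,0,0,0,0,2,0,2,2,0,0,0,0,0,0],[0,0,0,2,0,0,0,2,0,0,0,2,0,0,2,0,2,2,0,0,2,0,0,2],[2,0,2,2,0,0,2,0,0,0,2,0,0,0,2,2,0,0,0,0,0,2,0,0],[0,2,0,2,0,0,0,2,0,0,2,0,0,0,2,2,0,0,0,2,0,0,0,2],[0,0,0,2,0,0,2,2,0,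2,0,2,0,0,2,2,0,0,2,0,0,0,0,0],[2,0,0,2,0,0,0,0,2,0,0,0,0,0,2,2,0,0,2,0,2,0,0,2],[0,0,2,2,2,0,0,2,2,0,0,0,0,0,2,2,0,2,0,0,0,0,0,0],[2,0,0,2,0,0,0,0,0,0,0,2,0,0,2,2,0,2,0,2,0,0,2,0],[0,0,2,2,0,0,0,0,0,2,0,0,0,0,2,2,2,0,0,0,0,0,2,2],[0,0,0,2,2,0,2,0,0,0,0,0,0,0,2,2,2,0,0,2,2,0,0,0],[0,2,0,2,0,0,0,0,0,0,0,0,0,0,2,2,2,2,2,0,0,2,0,0],[2,2,0,2,0,0,2,0,2,0,2,0,0,2,0,0,0,0,0,0,0,0,0,2],[2,0,0,2,2,0,0,0,0,0,2,2,0,2,0,0,0,0,0,0,0,2,2,0],[0,2,0,2,0,0,0,2,0,2,2,2,0,2,0,0,0,0,0,0,2,0,0,0],[0,0,2,2,0,0,0,2,2,0,2,0,0,2,0,0,0,0,0,2,0,2,0,0],[0,0,2,2,2,0,0,2,0,2,0,0,0,2,0,0,0,0,2,0,0,0,2,0],[2,2,2,2,0,0,0,0,0,0,0,0,0,2,0,0,0,0,2,0,2,2,0,0],[2,0,0,2,0,0,0,0,2,2,0,2,0,2,0,0,0,0,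2,2,0,0,0,0],[0,0,0,2,0,0,2,2,0,0,0,0,0,2,0,0,0,0,2,2,2,0,0,2],[0,0,0,2,0,0,2,2,2,0,0,2,0,2,0,0,0,2,0,0,0,0,2,0],[0,2,0,2,2,0,0,2,0,0,0,0,0,2,0,0,0,2,0,0,0,2,0,2],[2,0,0,2,0,0,0,0,0,2,0,0,0,2,0,0,0,2,0,0,2,0,2,2],[2,0,2,2,2,0,2,0,0,0,0,0,0,2,0,0,0,2,0,2,0,0,0,0],[0,0,0,2,2,0,2,0,0,2,0,2,0,2,0,0,2,0,0,0,0,0,0,2],[0,2,0,2,0,0,0,0,2,2,0,0,0,2,0,0,2,0,0,0,0,2,2,0],[2,0,0,2,2,0,0,2,2,0,0,0,0,2,0,0,2,0,0,0,2,0,0,0],[0,0,2,2,0,0,0,0,0,0,0,2,0,2,0,0,2,0,0,2,2,0,2,0],[0,2,0,2,2,0,0,0,0,0,2,0,0,2,0,0,2,0,2,2,0,0,0,0],[0,0,0,2,0,0,2,0,0,0,2,0,0,2,0,0,2,2,0,0,2,2,0,0],[0,0,2,2,0,0,0,0,2,0,0,0,0,2,0,0,2,2,2,0,0,0,0,2],[2,0,2,2,0,0,0,2,0,0,0,2,0,2,0,2,0,0,0,0,0,0,0,2],[0,0,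2,2,0,0,2,0,2,2,0,0,0,2,0,2,0,0,0,0,2,0,0,0],[0,0,0,2,2,0,0,0,2,0,0,0,0,2,0,2,0,0,0,2,0,0,2,2],[0,2,0,2,0,0,2,0,0,0,0,2,0,2,0,2,0,0,0,2,0,2,0,0],[0,0,0,2,0,0,0,0,0,2,2,0,0,2,0,2,0,0,2,0,0,2,0,2],[0,2,2,2,0,0,0,0,0,0,2,0,0,2,0,2,0,2,0,0,0,0,2,0],[0,0,0,2,2,0,0,0,0,0,0,2,0,2,0,2,0,2,2,0,2,0,0,0],[2,0,0,2,0,0,2,0,0,0,0,0,0,2,0,2,2,0,2,0,0,0,2,0],[0,0,0,2,0,0,0,2,0,2,0,0,0,2,0,2,2,2,0,2,0,0,0,0],[0,0,2,2,2,0,0,0,0,0,2,0,0,2,2,0,0,0,0,0,2,0,0,2],[0,0,0,2,0,0,2,0,0,2,2,0,0,2,2,0,0,0,0,2,0,0,2,0],[0,2,0,2,0,0,0,0,0,0,0,2,0,2,2,0,0,0,2,0,0,0,2,2],[0,0,0,2,2,0,2,0,2,0,0,0,0,2,2,0,0,0,2,0,0,2,0,0],[0,0,2,2,0,0,0,0,0,2,0,2,0,2,2,0,0,2,0,0,0,2,0,0],[0,2,0,2,0,0,0,0,2,0,0,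0,0,2,2,0,0,2,0,2,2,0,0,0],[2,0,0,2,0,0,0,2,0,0,2,0,0,2,2,0,0,2,2,0,0,0,0,0],[0,2,2,2,0,0,2,2,0,0,0,0,0,2,2,0,2,0,0,0,0,0,0,0],[2,0,0,2,0,0,0,0,0,0,0,0,0,2,2,0,2,0,0,2,0,2,0,2],[2,2,0,2,2,0,0,0,0,2,0,0,0,2,2,2,0,0,0,0,0,0,0,0],[0,0,0,2,0,0,0,2,0,0,0,0,0,2,2,2,0,0,0,0,2,2,2,0],[0,0,0,2,0,0,0,0,2,0,2,2,0,2,2,2,2,0,0,0,0,0,0,0],[2,2,2,2,2,0,0,2,0,0,2,0,2,0,0,0,0,0,0,0,0,0,0,0],[0,0,2,2,0,0,0,0,0,2,2,0,2,0,0,0,0,0,0,0,2,2,2,0],[0,2,0,2,0,0,0,0,2,0,2,2,2,0,0,0,0,0,0,2,0,0,2,0],[0,0,0,2,2,0,2,0,0,0,2,0,2,0,0,0,0,0,0,2,0,2,0,2],[0,0,0,2,0,0,2,0,2,2,0,0,2,0,0,0,0,0,2,0,0,0,2,2],[0,2,0,2,2,0,0,0,0,2,0,2,2,0,0,0,0,0,2,0,0,2,0,0],[2,0,0,2,0,0,0,2,0,0,0,2,2,0,0,0,0,0,2,0,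2,0,2,0],[0,0,2,2,2,0,0,0,2,0,0,0,2,0,0,0,0,0,2,2,2,0,0,0],[0,0,2,2,2,0,0,0,0,0,0,2,2,0,0,0,0,2,0,0,0,0,2,2],[0,2,2,2,0,0,2,0,2,0,0,0,2,0,0,0,0,2,0,0,0,2,0,0],[2,0,0,2,0,0,0,2,2,0,0,0,2,0,0,0,0,2,0,2,0,0,0,2],[0,0,0,2,0,0,2,0,0,2,0,2,2,0,0,0,0,2,0,2,2,0,0,0],[0,2,0,2,0,0,0,0,0,0,2,0,2,0,0,0,0,2,2,0,2,0,0,2],[0,0,2,2,0,0,0,2,2,2,0,2,2,0,0,0,2,0,0,0,0,0,0,0],[2,0,2,2,0,0,2,0,0,0,0,0,2,0,0,0,2,0,0,0,2,0,0,2],[2,0,0,2,2,0,0,0,0,2,0,0,2,0,0,0,2,0,0,2,0,0,2,0],[0,2,0,2,0,0,0,2,0,0,0,0,2,0,0,0,2,0,0,2,2,2,0,0],[2,0,0,2,0,0,0,0,2,0,2,0,2,0,0,0,2,0,2,0,0,2,0,0],[0,0,0,2,2,0,2,2,0,0,0,0,2,0,0,0,2,2,2,0,0,0,0,0],[2,0,0,2,2,0,2,0,2,0,0,2,2,0,0,2,0,0,0,0,0,0,0,0],[2,2,0,2,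0,0,0,0,0,0,0,0,2,0,0,2,0,0,0,0,0,2,2,2],[0,0,0,2,2,0,0,2,0,2,0,0,2,0,0,2,0,0,0,0,2,0,0,2],[0,0,2,2,0,0,2,2,0,0,0,0,2,0,0,2,0,0,0,2,0,0,2,0],[0,0,0,2,0,0,0,2,0,0,2,2,2,0,0,2,0,2,0,0,0,2,0,0],[2,0,2,2,0,0,0,0,0,2,0,0,2,0,0,2,0,2,2,0,0,0,0,0],[0,2,0,2,0,0,2,0,0,2,2,0,2,0,0,2,2,0,0,0,0,0,0,0],[0,0,0,2,0,0,0,0,0,0,0,2,2,0,0,2,2,0,2,2,0,0,0,2],[0,0,0,2,0,0,0,0,2,0,0,0,2,0,0,2,2,2,0,0,2,0,2,0],[2,0,0,2,0,0,0,0,0,2,2,2,2,0,2,0,0,0,0,0,0,0,0,2],[0,0,0,2,0,0,2,2,2,0,2,0,2,0,2,0,0,0,0,0,2,0,0,0],[0,0,2,2,0,0,0,2,0,0,0,0,2,0,2,0,0,0,2,0,0,2,0,2],[2,2,0,2,0,0,2,0,0,0,0,0,2,0,2,0,0,0,2,2,0,0,0,0],[0,2,0,2,0,0,0,2,0,2,0,0,2,0,2,0,0,2,0,0,0,0,2,0],[2,0,0,2,2,0,0,0,0,0,0,0,2,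0,2,0,0,2,0,0,2,2,0,0],[0,2,0,2,2,0,0,0,2,0,0,0,2,0,2,0,2,0,0,0,0,0,0,2],[0,0,0,2,0,0,2,0,0,0,0,2,2,0,2,0,2,0,0,0,0,2,2,0],[0,0,2,2,0,0,0,0,0,0,2,0,2,0,2,0,2,2,0,2,0,0,0,0],[0,2,2,2,0,0,0,0,0,0,0,2,2,0,2,2,0,0,0,0,2,0,0,0],[0,0,0,2,0,0,0,0,2,2,0,0,2,0,2,2,0,0,0,2,0,2,0,0],[0,0,0,2,2,0,0,0,0,0,2,0,2,0,2,2,0,0,2,0,0,0,2,0],[2,0,0,2,0,0,2,2,0,2,0,0,2,2,0,0,0,0,0,0,0,2,0,0],[0,2,0,2,2,0,2,0,0,0,0,0,2,2,0,0,0,0,0,0,2,0,2,0],[0,0,0,2,0,0,0,0,2,0,0,2,2,2,0,0,0,0,0,0,2,2,0,2],[0,2,2,2,0,0,0,0,0,2,0,0,2,2,0,0,0,0,0,2,0,0,0,2],[0,0,2,2,0,0,2,0,0,0,2,2,2,2,0,0,0,0,2,0,0,0,0,0],[0,0,0,2,2,0,0,0,2,2,2,0,2,2,0,0,0,2,0,0,0,0,0,0],[0,0,0,2,0,0,0,0,0,0,0,0,2,2,0,0,0,2,2,2,0,2,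2,0],[0,0,0,2,0,0,0,2,0,0,2,0,2,2,0,0,2,0,0,0,0,0,2,2],[2,2,0,2,0,0,0,0,0,0,0,2,2,2,0,0,2,2,0,0,0,0,0,0],[2,0,0,2,0,0,0,0,0,0,2,0,2,2,0,2,0,0,0,2,2,0,0,0],[0,2,0,2,0,0,0,2,2,0,0,0,2,2,0,2,0,0,2,0,0,0,0,0],[0,0,2,2,2,0,0,0,0,0,0,0,2,2,0,2,2,0,0,0,0,2,0,0],[2,0,2,2,0,0,0,0,2,0,0,0,2,2,2,0,0,0,0,0,0,0,2,0],[0,0,0,2,2,0,0,2,0,0,0,2,2,2,2,0,0,0,0,2,0,0,0,0],[0,0,0,2,0,0,0,0,0,2,0,0,2,2,2,0,2,0,2,0,2,0,0,0],[0,0,0,2,0,0,2,0,0,0,0,0,2,2,2,2,0,2,0,0,0,0,0,2]],[[2,2,2,-2,0,0,2,0,0,2,0,2,0,0,0,0,0,0,0,0,0,0,-2,0],[2,0,2,-2,2,0,0,0,2,2,0,0,0,0,0,0,0,0,0,0,0,2,0,-2],[0,2,2,-2,0,0,0,2,2,0,0,0,0,0,0,0,0,0,0,0,2,0,2,-2],[0,0,2,-2,2,0,2,2,0,0,0,2,0,0,0,0,0,0,0,0,2,-2,0,0],[0,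2,0,-2,2,0,2,2,2,2,0,0,0,0,0,0,0,0,0,-2,0,0,0,0],[0,0,0,-2,0,0,0,2,0,2,0,2,0,0,0,0,0,0,0,2,0,2,2,-2],[2,2,0,-2,2,0,0,0,0,0,0,2,0,0,0,0,0,0,0,2,2,0,0,-2],[2,0,0,-2,0,0,2,0,2,0,0,0,0,0,0,0,0,0,0,2,2,2,-2,0],[0,0,0,-2,2,0,0,2,2,0,2,2,0,0,0,0,0,0,2,0,0,0,0,-2],[0,2,0,-2,0,0,2,2,0,0,2,0,0,0,0,0,0,0,2,0,0,2,-2,0],[2,0,0,-2,2,0,2,0,0,2,2,0,0,0,0,0,0,0,2,0,-2,0,0,0],[2,0,2,-2,0,0,0,0,0,0,2,0,0,0,0,0,0,0,2,2,0,0,2,-2],[0,0,2,-2,0,0,2,2,0,2,2,0,0,0,0,0,0,2,0,0,0,0,0,-2],[2,0,2,-2,0,0,0,0,2,0,2,2,0,0,0,0,0,2,0,0,-2,0,0,0],[2,2,0,-2,0,0,0,0,0,2,2,0,0,0,0,0,0,2,0,2,0,-2,0,0],[0,0,0,-2,2,0,0,2,0,0,2,0,0,0,0,0,0,2,0,2,2,0,-2,0],[2,2,0,-2,2,0,0,0,2,0,0,0,0,0,0,0,0,2,2,0,0,0,-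2,0],[2,0,0,-2,0,0,2,0,0,0,0,2,0,0,0,0,0,2,2,0,0,2,0,-2],[0,0,0,-2,0,0,0,2,2,2,0,0,0,0,0,0,0,2,2,0,2,-2,0,0],[0,2,2,-2,0,0,0,2,0,0,0,2,0,0,0,0,0,2,2,-2,0,0,0,0],[0,0,2,-2,2,0,2,0,2,0,2,0,0,0,0,0,2,0,0,0,0,0,-2,0],[0,2,2,-2,0,0,0,0,0,0,2,2,0,0,0,0,2,0,0,0,0,2,0,-2],[2,0,0,-2,0,0,2,2,0,0,2,2,0,0,0,0,2,0,0,-2,0,0,0,0],[0,0,0,-2,0,0,0,0,2,2,2,0,0,0,0,0,2,0,0,2,2,0,0,-2],[2,2,0,-2,0,0,0,2,0,2,0,0,0,0,0,0,2,0,2,0,0,0,0,-2],[0,2,0,-2,0,0,2,0,2,0,0,2,0,0,0,0,2,0,2,0,-2,0,0,0],[0,0,0,-2,2,0,0,0,0,0,0,0,0,0,0,0,2,0,2,0,2,2,2,-2],[0,0,2,-2,0,0,2,0,0,2,0,0,0,0,0,0,2,0,2,2,0,-2,0,0],[2,0,2,-2,0,0,0,2,0,0,0,0,0,0,0,0,2,2,0,0,0,2,-2,0],[0,2,2,-2,2,0,0,0,0,2,0,0,0,0,0,0,2,2,0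,0,-2,0,0,0],[0,2,0,-2,0,0,2,0,0,0,0,0,0,0,0,0,2,2,0,2,0,0,2,-2],[0,0,0,-2,2,0,0,0,2,0,0,2,0,0,0,0,2,2,0,2,0,-2,0,0],[0,0,0,-2,0,0,0,0,0,2,2,2,0,0,0,0,2,2,2,0,0,0,-2,0],[2,0,0,-2,0,0,0,2,2,2,2,0,0,0,0,2,0,0,0,0,0,0,-2,0],[0,0,0,-2,0,0,2,0,0,0,2,2,0,0,0,2,0,0,0,0,2,0,2,-2],[0,2,0,-2,2,0,0,0,2,0,2,0,0,0,0,2,0,0,0,0,2,-2,0,0],[0,0,2,-2,2,0,0,0,0,2,2,2,0,0,0,2,0,0,0,-2,0,0,0,0],[0,2,2,-2,2,0,2,0,0,0,0,0,0,0,0,2,0,0,2,0,0,0,0,-2],[0,0,2,-2,0,0,0,0,2,0,0,2,0,0,0,2,0,0,2,0,0,2,-2,0],[2,0,0,-2,2,0,0,2,0,0,0,0,0,0,0,2,0,0,2,2,0,-2,0,0],[0,2,0,-2,0,0,0,0,0,2,0,0,0,0,0,2,0,0,2,2,2,0,-2,0],[0,2,0,-2,0,0,0,0,2,2,0,2,0,0,0,2,0,2,0,0,0,0,0,-2],[0,0,0,-2,2,0,2,0,0,2,0,0,0,0,0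,2,0,2,0,0,0,2,-2,0],[2,2,0,-2,0,0,2,2,0,0,0,0,0,0,0,2,0,2,0,0,-2,0,0,0],[0,0,2,-2,0,0,0,0,0,0,0,0,0,0,0,2,0,2,0,2,2,2,0,-2],[0,0,0,-2,0,0,2,0,2,0,2,0,0,0,0,2,0,2,2,-2,0,0,0,0],[0,2,0,-2,2,0,0,2,0,0,0,2,0,0,0,2,2,0,0,0,0,0,-2,0],[0,0,0,-2,0,0,2,2,2,0,0,0,0,0,0,2,2,0,0,0,0,2,0,-2],[2,0,0,-2,0,0,0,0,0,2,0,2,0,0,0,2,2,0,0,0,2,-2,0,0],[2,2,2,-2,0,0,0,0,2,0,0,0,0,0,0,2,2,0,0,-2,0,0,0,0],[0,0,2,-2,0,0,0,2,0,0,2,0,0,0,0,2,2,0,2,0,-2,0,0,0],[2,0,0,-2,2,0,0,0,0,0,2,0,0,0,0,2,2,2,0,0,0,0,0,-2],[2,0,0,-2,2,0,2,2,0,0,0,0,0,0,2,0,0,0,0,0,0,0,2,-2],[2,2,0,-2,0,0,0,2,2,0,0,2,0,0,2,0,0,0,0,0,0,-2,0,0],[0,0,0,-2,2,0,0,0,2,2,0,2,0,0,2,0,0,0,0,0,2,0,-2,0],[0,2,0,-2,0,0,2,0,0,2,0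,0,0,0,2,0,0,0,0,0,2,2,0,-2],[0,0,2,-2,0,0,2,0,2,0,0,2,0,0,2,0,0,0,0,2,0,0,0,-2],[0,2,2,-2,2,0,0,0,0,0,0,0,0,0,2,0,0,0,0,2,0,2,-2,0],[2,0,2,-2,0,0,0,2,0,2,0,0,0,0,2,0,0,0,0,2,-2,0,0,0],[0,2,2,-2,0,0,0,0,2,2,2,0,0,0,2,0,0,0,-2,0,0,0,0,0],[0,0,0,-2,0,0,0,0,0,0,2,2,0,0,2,0,0,0,2,2,2,-2,0,0],[0,2,0,-2,2,0,2,0,0,0,2,2,0,0,2,0,0,-2,0,0,0,0,0,0],[0,0,0,-2,0,0,0,0,2,0,2,0,0,0,2,0,0,2,0,0,0,2,2,-2],[0,0,2,-2,0,0,2,0,0,0,0,0,0,0,2,0,0,2,2,0,2,0,-2,0],[0,0,0,-2,2,0,0,0,0,2,0,0,0,0,2,0,0,2,2,2,0,0,0,-2],[0,0,0,-2,2,0,0,2,0,2,2,0,0,0,2,0,2,0,0,0,0,-2,0,0],[2,2,0,-2,0,0,0,0,0,0,2,0,0,0,2,0,2,0,0,0,2,0,-2,0],[2,0,2,-2,2,0,0,0,0,0,0,2,0,0,2,0,2,0,-2,0,0,0,0,0],[0,0,0,-2,0,0,0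,2,2,0,0,0,0,0,2,0,2,0,2,2,0,0,-2,0],[2,0,0,-2,0,0,2,0,2,2,0,0,0,0,2,0,2,-2,0,0,0,0,0,0],[0,0,0,-2,0,0,0,2,0,0,0,2,0,0,2,0,2,2,0,0,2,0,0,-2],[2,0,2,-2,0,0,2,0,0,0,2,0,0,0,2,2,0,0,0,0,0,-2,0,0],[0,2,0,-2,0,0,0,2,0,0,2,0,0,0,2,2,0,0,0,2,0,0,0,-2],[0,0,0,-2,0,0,2,2,0,2,0,2,0,0,2,2,0,0,-2,0,0,0,0,0],[2,0,0,-2,0,0,0,0,2,0,0,0,0,0,2,2,0,0,2,0,2,0,0,-2],[0,0,2,-2,2,0,0,2,2,0,0,0,0,0,2,2,0,-2,0,0,0,0,0,0],[2,0,0,-2,0,0,0,0,0,0,0,2,0,0,2,2,0,2,0,2,0,0,-2,0],[0,0,2,-2,0,0,0,0,0,2,0,0,0,0,2,2,2,0,0,0,0,0,2,-2],[0,0,0,-2,2,0,2,0,0,0,0,0,0,0,2,2,2,0,0,2,-2,0,0,0],[0,2,0,-2,0,0,0,0,0,0,0,0,0,0,2,2,2,2,2,0,0,-2,0,0],[2,2,0,-2,0,0,2,0,2,0,2,0,0,2,0,0,0,0,0,0,0,0,0,-2],[2,0,0,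-2,2,0,0,0,0,0,2,2,0,2,0,0,0,0,0,0,0,2,-2,0],[0,2,0,-2,0,0,0,2,0,2,2,2,0,2,0,0,0,0,0,0,-2,0,0,0],[0,0,2,-2,0,0,0,2,2,0,2,0,0,2,0,0,0,0,0,2,0,-2,0,0],[0,0,2,-2,2,0,0,2,0,2,0,0,0,2,0,0,0,0,2,0,0,0,-2,0],[2,2,2,-2,0,0,0,0,0,0,0,0,0,2,0,0,0,0,2,0,2,-2,0,0],[2,0,0,-2,0,0,0,0,2,2,0,2,0,2,0,0,0,0,2,-2,0,0,0,0],[0,0,0,-2,0,0,2,2,0,0,0,0,0,2,0,0,0,0,2,2,2,0,0,-2],[0,0,0,-2,0,0,2,2,2,0,0,2,0,2,0,0,0,2,0,0,0,0,-2,0],[0,2,0,-2,2,0,0,2,0,0,0,0,0,2,0,0,0,2,0,0,0,2,0,-2],[2,0,0,-2,0,0,0,0,0,2,0,0,0,2,0,0,0,2,0,0,2,0,2,-2],[2,0,2,-2,2,0,2,0,0,0,0,0,0,2,0,0,0,2,0,-2,0,0,0,0],[0,0,0,-2,2,0,2,0,0,2,0,2,0,2,0,0,2,0,0,0,0,0,0,-2],[0,2,0,-2,0,0,0,0,2,2,0,0,0,2,0,0,2,0,0,0,0,2,-2,0]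,[2,0,0,-2,2,0,0,2,2,0,0,0,0,2,0,0,2,0,0,0,-2,0,0,0],[0,0,2,-2,0,0,0,0,0,0,0,2,0,2,0,0,2,0,0,2,2,0,-2,0],[0,2,0,-2,2,0,0,0,0,0,2,0,0,2,0,0,2,0,2,-2,0,0,0,0],[0,0,0,-2,0,0,2,0,0,0,2,0,0,2,0,0,2,2,0,0,2,-2,0,0],[0,0,2,-2,0,0,0,0,2,0,0,0,0,2,0,0,2,2,2,0,0,0,0,-2],[2,0,2,-2,0,0,0,2,0,0,0,2,0,2,0,2,0,0,0,0,0,0,0,-2],[0,0,2,-2,0,0,2,0,2,2,0,0,0,2,0,2,0,0,0,0,-2,0,0,0],[0,0,0,-2,2,0,0,0,2,0,0,0,0,2,0,2,0,0,0,2,0,0,2,-2],[0,2,0,-2,0,0,2,0,0,0,0,2,0,2,0,2,0,0,0,2,0,-2,0,0],[0,0,0,-2,0,0,0,0,0,2,2,0,0,2,0,2,0,0,2,0,0,2,0,-2],[0,2,2,-2,0,0,0,0,0,0,2,0,0,2,0,2,0,2,0,0,0,0,-2,0],[0,0,0,-2,2,0,0,0,0,0,0,2,0,2,0,2,0,2,2,0,-2,0,0,0],[2,0,0,-2,0,0,2,0,0,0,0,0,0,2,0,2,2,0,2,0,0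,0,-2,0],[0,0,0,-2,0,0,0,2,0,2,0,0,0,2,0,2,2,2,0,-2,0,0,0,0],[0,0,2,-2,2,0,0,0,0,0,2,0,0,2,2,0,0,0,0,0,2,0,0,-2],[0,0,0,-2,0,0,2,0,0,2,2,0,0,2,2,0,0,0,0,2,0,0,-2,0],[0,2,0,-2,0,0,0,0,0,0,0,2,0,2,2,0,0,0,2,0,0,0,2,-2],[0,0,0,-2,2,0,2,0,2,0,0,0,0,2,2,0,0,0,2,0,0,-2,0,0],[0,0,2,-2,0,0,0,0,0,2,0,2,0,2,2,0,0,2,0,0,0,-2,0,0],[0,2,0,-2,0,0,0,0,2,0,0,0,0,2,2,0,0,2,0,2,-2,0,0,0],[2,0,0,-2,0,0,0,2,0,0,2,0,0,2,2,0,0,2,-2,0,0,0,0,0],[0,2,2,-2,0,0,2,2,0,0,0,0,0,2,2,0,-2,0,0,0,0,0,0,0],[2,0,0,-2,0,0,0,0,0,0,0,0,0,2,2,0,2,0,0,2,0,2,0,-2],[2,2,0,-2,2,0,0,0,0,2,0,0,0,2,2,-2,0,0,0,0,0,0,0,0],[0,0,0,-2,0,0,0,2,0,0,0,0,0,2,2,2,0,0,0,0,2,2,-2,0],[0,0,0,-2,0,0,0,0,2,0,2,2,0,2,2,2,-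2,0,0,0,0,0,0,0],[2,2,2,-2,2,0,0,2,0,0,2,0,-2,0,0,0,0,0,0,0,0,0,0,0],[0,0,2,-2,0,0,0,0,0,2,2,0,2,0,0,0,0,0,0,0,2,2,-2,0],[0,2,0,-2,0,0,0,0,2,0,2,2,2,0,0,0,0,0,0,2,0,0,-2,0],[0,0,0,-2,2,0,2,0,0,0,2,0,2,0,0,0,0,0,0,2,0,2,0,-2],[0,0,0,-2,0,0,2,0,2,2,0,0,2,0,0,0,0,0,2,0,0,0,2,-2],[0,2,0,-2,2,0,0,0,0,2,0,2,2,0,0,0,0,0,2,0,0,-2,0,0],[2,0,0,-2,0,0,0,2,0,0,0,2,2,0,0,0,0,0,2,0,2,0,-2,0],[0,0,2,-2,2,0,0,0,2,0,0,0,2,0,0,0,0,0,2,2,-2,0,0,0],[0,0,2,-2,2,0,0,0,0,0,0,2,2,0,0,0,0,2,0,0,0,0,2,-2],[0,2,2,-2,0,0,2,0,2,0,0,0,2,0,0,0,0,2,0,0,0,-2,0,0],[2,0,0,-2,0,0,0,2,2,0,0,0,2,0,0,0,0,2,0,2,0,0,0,-2],[0,0,0,-2,0,0,2,0,0,2,0,2,2,0,0,0,0,2,0,2,-2,0,0,0],[0,2,0,-2,0,0,0,0,0,0,2,0,2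,0,0,0,0,2,2,0,2,0,0,-2],[0,0,2,-2,0,0,0,2,2,2,0,2,2,0,0,0,-2,0,0,0,0,0,0,0],[2,0,2,-2,0,0,2,0,0,0,0,0,2,0,0,0,2,0,0,0,2,0,0,-2],[2,0,0,-2,2,0,0,0,0,2,0,0,2,0,0,0,2,0,0,2,0,0,-2,0],[0,2,0,-2,0,0,0,2,0,0,0,0,2,0,0,0,2,0,0,2,2,-2,0,0],[2,0,0,-2,0,0,0,0,2,0,2,0,2,0,0,0,2,0,2,0,0,-2,0,0],[0,0,0,-2,2,0,2,2,0,0,0,0,2,0,0,0,2,2,-2,0,0,0,0,0],[2,0,0,-2,2,0,2,0,2,0,0,2,2,0,0,-2,0,0,0,0,0,0,0,0],[2,2,0,-2,0,0,0,0,0,0,0,0,2,0,0,2,0,0,0,0,0,2,2,-2],[0,0,0,-2,2,0,0,2,0,2,0,0,2,0,0,2,0,0,0,0,2,0,0,-2],[0,0,2,-2,0,0,2,2,0,0,0,0,2,0,0,2,0,0,0,2,0,0,-2,0],[0,0,0,-2,0,0,0,2,0,0,2,2,2,0,0,2,0,2,0,0,0,-2,0,0],[2,0,2,-2,0,0,0,0,0,2,0,0,2,0,0,2,0,2,-2,0,0,0,0,0],[0,2,0,-2,0,0,2,0,0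,2,2,0,2,0,0,2,-2,0,0,0,0,0,0,0],[0,0,0,-2,0,0,0,0,0,0,0,2,2,0,0,2,2,0,2,2,0,0,0,-2],[0,0,0,-2,0,0,0,0,2,0,0,0,2,0,0,2,2,2,0,0,2,0,-2,0],[2,0,0,-2,0,0,0,0,0,2,2,2,2,0,2,0,0,0,0,0,0,0,0,-2],[0,0,0,-2,0,0,2,2,2,0,2,0,2,0,2,0,0,0,0,0,-2,0,0,0],[0,0,2,-2,0,0,0,2,0,0,0,0,2,0,2,0,0,0,2,0,0,2,0,-2],[2,2,0,-2,0,0,2,0,0,0,0,0,2,0,2,0,0,0,2,-2,0,0,0,0],[0,2,0,-2,0,0,0,2,0,2,0,0,2,0,2,0,0,2,0,0,0,0,-2,0],[2,0,0,-2,2,0,0,0,0,0,0,0,2,0,2,0,0,2,0,0,2,-2,0,0],[0,2,0,-2,2,0,0,0,2,0,0,0,2,0,2,0,2,0,0,0,0,0,0,-2],[0,0,0,-2,0,0,2,0,0,0,0,2,2,0,2,0,2,0,0,0,0,2,-2,0],[0,0,2,-2,0,0,0,0,0,0,2,0,2,0,2,0,2,2,0,-2,0,0,0,0],[0,2,2,-2,0,0,0,0,0,0,0,2,2,0,2,2,0,0,0,0,-2,0,0,0],[0,0,0,-2,0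,0,0,0,2,2,0,0,2,0,2,2,0,0,0,2,0,-2,0,0],[0,0,0,-2,2,0,0,0,0,0,2,0,2,0,2,2,0,0,2,0,0,0,-2,0],[2,0,0,-2,0,0,2,2,0,2,0,0,2,2,0,0,0,0,0,0,0,-2,0,0],[0,2,0,-2,2,0,2,0,0,0,0,0,2,2,0,0,0,0,0,0,2,0,-2,0],[0,0,0,-2,0,0,0,0,2,0,0,2,2,2,0,0,0,0,0,0,2,2,0,-2],[0,2,2,-2,0,0,0,0,0,2,0,0,2,2,0,0,0,0,0,2,0,0,0,-2],[0,0,2,-2,0,0,2,0,0,0,2,2,2,2,0,0,0,0,-2,0,0,0,0,0],[0,0,0,-2,2,0,0,0,2,2,2,0,2,2,0,0,0,-2,0,0,0,0,0,0],[0,0,0,-2,0,0,0,0,0,0,0,0,2,2,0,0,0,2,2,2,0,2,-2,0],[0,0,0,-2,0,0,0,2,0,0,2,0,2,2,0,0,2,0,0,0,0,0,2,-2],[2,2,0,-2,0,0,0,0,0,0,0,2,2,2,0,0,2,-2,0,0,0,0,0,0],[2,0,0,-2,0,0,0,0,0,0,2,0,2,2,0,2,0,0,0,2,-2,0,0,0],[0,2,0,-2,0,0,0,2,2,0,0,0,2,2,0,2,0,0,-2,0,0,0,0,0],[0,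0,2,-2,2,0,0,0,0,0,0,0,2,2,0,2,2,0,0,0,0,-2,0,0],[2,0,2,-2,0,0,0,0,2,0,0,0,2,2,2,0,0,0,0,0,0,0,-2,0],[0,0,0,-2,2,0,0,2,0,0,0,2,2,2,2,0,0,0,0,-2,0,0,0,0],[0,0,0,-2,0,0,0,0,0,2,0,0,2,2,2,0,2,0,2,0,-2,0,0,0],[0,0,0,-2,0,0,2,0,0,0,0,0,2,2,2,2,0,2,0,0,0,0,0,-2]],[[0,2,0,2,2,2,0,0,0,2,2,0,0,0,0,0,0,0,0,0,0,0,2,2],[0,0,0,2,0,2,2,0,2,2,2,2,0,0,0,0,0,0,0,0,0,2,0,0],[2,0,0,2,0,2,0,2,0,0,2,0,0,0,0,0,0,0,0,0,2,2,0,2],[0,2,2,2,0,2,2,0,0,0,2,0,0,0,0,0,0,0,0,2,2,0,0,0],[2,0,2,2,0,2,2,2,2,0,0,0,0,0,0,0,0,0,2,0,0,0,0,0],[0,0,2,2,0,2,0,0,0,2,0,2,0,0,0,0,0,0,2,0,2,0,0,2],[0,0,0,2,2,2,2,0,0,0,0,2,0,0,0,0,0,0,2,2,0,0,2,0],[0,2,0,2,0,2,0,0,2,0,0,0,0,0,0,0,0,0,2,2,0,2,0,2],[2,0,0,2,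2,2,0,2,0,2,0,2,0,0,0,0,0,2,0,0,0,0,0,0],[0,0,0,2,2,2,2,0,2,0,0,0,0,0,0,0,0,2,0,0,2,0,0,2],[0,2,0,2,0,2,0,0,0,0,0,2,0,0,0,0,0,2,0,0,2,2,2,0],[0,0,2,2,0,2,0,0,2,2,0,0,0,0,0,0,0,2,0,2,0,0,2,0],[0,0,2,2,2,2,0,0,0,0,2,0,0,0,0,0,0,2,2,0,0,2,0,0],[2,0,0,2,0,2,0,0,2,0,0,2,0,0,0,0,2,0,0,0,0,0,2,2],[2,2,0,2,2,2,2,0,0,0,0,0,0,0,0,0,2,0,0,0,0,2,0,0],[0,0,0,2,0,2,2,2,0,2,0,0,0,0,0,0,2,0,0,0,2,0,2,0],[0,0,2,2,2,2,0,2,0,0,0,0,0,0,0,0,2,0,0,2,0,0,0,2],[0,2,0,2,0,2,0,2,2,0,2,0,0,0,0,0,2,2,0,0,0,0,0,0],[2,0,0,2,0,2,0,0,0,0,0,0,0,0,0,0,2,2,2,2,2,0,0,0],[0,2,2,2,0,2,0,2,0,2,0,0,0,0,0,2,0,0,0,0,0,2,0,0],[2,0,2,2,2,2,0,0,0,0,0,0,0,0,0,2,0,0,0,0,2,0,2,0],[2,0,0,2,0,2,2,0,0,2,0,0,0,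0,0,2,0,0,0,2,0,0,0,2],[0,0,0,2,0,2,0,2,2,0,0,2,0,0,0,2,0,0,0,2,2,0,0,0],[2,2,0,2,0,2,0,0,0,0,2,2,0,0,0,2,0,0,2,0,0,0,0,0],[0,0,0,2,0,2,0,2,0,0,0,0,0,0,0,2,0,2,2,0,0,0,2,2],[0,0,0,2,0,2,0,0,0,0,2,0,0,0,0,2,2,0,0,2,0,2,2,0],[0,0,0,2,2,2,0,0,2,2,0,0,0,0,0,2,2,0,2,0,0,0,0,0],[0,0,2,2,0,2,2,0,0,0,0,2,0,0,0,2,2,2,0,0,0,0,0,0],[0,0,2,2,0,2,0,2,0,0,2,2,0,0,2,0,0,0,0,0,0,0,2,0],[2,0,0,2,2,2,0,0,2,0,2,0,0,0,2,0,0,0,0,2,0,0,0,0],[2,0,0,2,0,2,0,0,0,2,0,0,0,0,2,0,0,0,2,0,0,2,2,0],[0,2,0,2,2,2,0,2,0,0,0,0,0,0,2,0,0,0,2,0,2,0,0,0],[2,2,2,2,0,2,0,0,0,0,0,0,0,0,2,0,0,2,0,0,0,0,0,2],[0,0,0,2,0,2,2,2,0,0,0,0,0,0,2,0,0,2,0,2,0,2,0,0],[0,0,2,2,0,2,0,0,2,0,0,0,0,0,2,0,2,0,0,0,2,2,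0,0],[0,2,0,2,0,2,0,0,0,2,0,2,0,0,2,0,2,0,0,2,0,0,0,0],[0,0,0,2,0,2,2,0,0,0,2,0,0,0,2,0,2,0,2,0,0,0,0,2],[0,2,0,2,0,2,2,0,2,0,0,0,0,0,2,2,0,0,0,0,0,0,2,0],[0,0,0,2,2,2,0,0,0,0,0,2,0,0,2,2,0,0,0,0,0,2,0,2],[0,0,0,2,0,2,0,0,0,2,2,0,0,0,2,2,0,2,0,0,2,0,0,0],[0,2,2,2,2,2,0,0,2,0,0,2,0,2,0,0,0,0,0,0,0,0,0,0],[0,0,2,2,0,2,2,0,0,0,0,0,0,2,0,0,0,0,0,0,0,2,2,2],[2,2,0,2,0,2,0,2,0,0,0,0,0,2,0,0,0,0,0,2,0,0,2,0],[0,0,0,2,2,2,0,0,0,2,0,0,0,2,0,0,0,0,0,2,2,2,0,0],[0,0,0,2,0,2,0,0,2,0,2,0,0,2,0,0,0,0,2,0,2,0,2,0],[0,0,0,2,0,2,0,0,0,0,2,2,0,2,0,0,0,2,0,2,0,0,0,2],[0,2,0,2,0,2,2,0,0,2,0,0,0,2,0,0,0,2,2,0,0,0,0,0],[2,0,2,2,0,2,0,0,0,2,2,0,0,2,0,0,2,0,0,0,0,0,0,0],[0,0,0,2,0,2,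0,2,0,0,0,2,0,2,0,0,2,0,2,0,0,2,0,0],[0,0,0,2,2,2,2,2,0,0,2,0,0,2,0,2,0,0,0,0,0,0,0,0],[2,0,0,2,0,2,0,0,2,0,0,0,0,2,0,2,0,2,0,0,0,2,0,0],[0,2,0,2,0,2,0,0,0,0,0,0,0,2,0,2,2,0,0,0,2,0,0,2],[0,0,0,2,0,2,0,2,2,2,0,0,0,2,2,0,0,0,0,0,0,0,0,2],[2,0,0,2,0,2,2,0,0,0,0,2,0,2,2,0,0,0,0,0,2,0,0,0],[0,0,0,2,2,2,0,0,0,0,0,0,0,2,2,0,2,2,0,0,0,0,2,0],[0,0,2,2,0,2,0,0,0,0,0,0,0,2,2,2,0,0,2,2,0,0,0,0],[0,2,0,2,0,2,2,2,0,0,0,2,2,0,0,0,0,0,0,0,0,0,0,2],[0,0,0,2,2,2,0,2,2,0,0,0,2,0,0,0,0,0,0,0,0,2,2,0],[2,2,0,2,0,2,0,0,2,2,0,0,2,0,0,0,0,0,0,0,2,0,0,0],[2,0,2,2,0,2,0,0,0,0,0,2,2,0,0,0,0,0,0,2,0,2,0,0],[0,0,0,2,0,2,0,2,0,2,2,0,2,0,0,0,0,0,2,2,0,0,0,0],[2,0,0,2,0,2,2,0,0,0,2,0,2,0,0,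0,0,2,0,0,0,0,2,0],[0,0,0,2,2,2,0,0,0,0,2,2,2,0,0,0,2,0,0,0,2,0,0,0],[0,2,2,2,0,2,0,0,0,0,0,0,2,0,0,0,2,0,2,0,0,0,2,0],[0,0,0,2,0,2,0,0,0,2,0,0,2,0,0,0,2,2,0,0,0,2,0,2],[0,0,2,2,0,2,0,0,2,0,2,0,2,0,0,2,0,0,0,0,0,0,0,2],[0,0,0,2,0,2,2,0,0,0,0,0,2,0,0,2,0,0,2,0,2,2,0,0],[0,2,0,2,2,2,0,0,0,0,0,0,2,0,0,2,0,2,0,2,0,0,0,0],[0,0,2,2,2,2,2,0,0,2,0,0,2,0,2,0,0,0,0,0,0,0,0,0],[0,0,0,2,0,2,0,0,0,0,0,0,2,0,2,0,0,0,0,2,2,0,2,2],[0,0,0,2,0,2,0,0,2,0,0,2,2,0,2,0,0,2,2,0,0,0,0,0],[2,0,0,2,0,2,0,2,0,0,0,0,2,0,2,2,2,0,0,0,0,0,0,0],[2,0,0,2,2,2,0,0,0,0,0,0,2,2,0,0,0,0,2,0,0,0,0,2],[0,0,2,2,0,2,0,2,0,0,0,0,2,2,0,0,0,2,0,0,2,0,0,0],[0,0,0,2,0,2,2,0,2,0,0,0,2,2,0,0,2,0,0,2,0,0,0,0]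,[0,0,0,2,0,2,0,0,0,2,0,2,2,2,0,2,0,0,0,0,0,0,2,0],[0,2,0,2,0,2,0,0,0,0,2,0,2,2,2,0,0,0,0,0,0,2,0,0]],[[0,2,0,-2,2,2,0,0,0,2,2,0,0,0,0,0,0,0,0,0,0,0,2,-2],[0,0,0,-2,0,2,2,0,2,2,2,2,0,0,0,0,0,0,0,0,0,-2,0,0],[2,0,0,-2,0,2,0,2,0,0,2,0,0,0,0,0,0,0,0,0,2,2,0,-2],[0,2,2,-2,0,2,2,0,0,0,2,0,0,0,0,0,0,0,0,2,-2,0,0,0],[2,0,2,-2,0,2,2,2,2,0,0,0,0,0,0,0,0,0,-2,0,0,0,0,0],[0,0,2,-2,0,2,0,0,0,2,0,2,0,0,0,0,0,0,2,0,2,0,0,-2],[0,0,0,-2,2,2,2,0,0,0,0,2,0,0,0,0,0,0,2,2,0,0,-2,0],[0,2,0,-2,0,2,0,0,2,0,0,0,0,0,0,0,0,0,2,2,0,2,0,-2],[2,0,0,-2,2,2,0,2,0,2,0,2,0,0,0,0,0,-2,0,0,0,0,0,0],[0,0,0,-2,2,2,2,0,2,0,0,0,0,0,0,0,0,2,0,0,2,0,0,-2],[0,2,0,-2,0,2,0,0,0,0,0,2,0,0,0,0,0,2,0,0,2,2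,-2,0],[0,0,2,-2,0,2,0,0,2,2,0,0,0,0,0,0,0,2,0,2,0,0,-2,0],[0,0,2,-2,2,2,0,0,0,0,2,0,0,0,0,0,0,2,2,0,0,-2,0,0],[2,0,0,-2,0,2,0,0,2,0,0,2,0,0,0,0,2,0,0,0,0,0,2,-2],[2,2,0,-2,2,2,2,0,0,0,0,0,0,0,0,0,2,0,0,0,0,-2,0,0],[0,0,0,-2,0,2,2,2,0,2,0,0,0,0,0,0,2,0,0,0,2,0,-2,0],[0,0,2,-2,2,2,0,2,0,0,0,0,0,0,0,0,2,0,0,2,0,0,0,-2],[0,2,0,-2,0,2,0,2,2,0,2,0,0,0,0,0,2,-2,0,0,0,0,0,0],[2,0,0,-2,0,2,0,0,0,0,0,0,0,0,0,0,2,2,2,2,-2,0,0,0],[0,2,2,-2,0,2,0,2,0,2,0,0,0,0,0,2,0,0,0,0,0,-2,0,0],[2,0,2,-2,2,2,0,0,0,0,0,0,0,0,0,2,0,0,0,0,2,0,-2,0],[2,0,0,-2,0,2,2,0,0,2,0,0,0,0,0,2,0,0,0,2,0,0,0,-2],[0,0,0,-2,0,2,0,2,2,0,0,2,0,0,0,2,0,0,0,2,-2,0,0,0],[2,2,0,-2,0,2,0,0,0,0,2,2,0,0,0,2,0,0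,-2,0,0,0,0,0],[0,0,0,-2,0,2,0,2,0,0,0,0,0,0,0,2,0,2,2,0,0,0,2,-2],[0,0,0,-2,0,2,0,0,0,0,2,0,0,0,0,2,2,0,0,2,0,2,-2,0],[0,0,0,-2,2,2,0,0,2,2,0,0,0,0,0,2,2,0,-2,0,0,0,0,0],[0,0,2,-2,0,2,2,0,0,0,0,2,0,0,0,2,2,-2,0,0,0,0,0,0],[0,0,2,-2,0,2,0,2,0,0,2,2,0,0,2,0,0,0,0,0,0,0,-2,0],[2,0,0,-2,2,2,0,0,2,0,2,0,0,0,2,0,0,0,0,-2,0,0,0,0],[2,0,0,-2,0,2,0,0,0,2,0,0,0,0,2,0,0,0,2,0,0,2,-2,0],[0,2,0,-2,2,2,0,2,0,0,0,0,0,0,2,0,0,0,2,0,-2,0,0,0],[2,2,2,-2,0,2,0,0,0,0,0,0,0,0,2,0,0,2,0,0,0,0,0,-2],[0,0,0,-2,0,2,2,2,0,0,0,0,0,0,2,0,0,2,0,2,0,-2,0,0],[0,0,2,-2,0,2,0,0,2,0,0,0,0,0,2,0,2,0,0,0,2,-2,0,0],[0,2,0,-2,0,2,0,0,0,2,0,2,0,0,2,0,2,0,0,-2,0,0,0,0],[0,0,0,-2,0,2,2,0,0,0,2,0,0,0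,2,0,2,0,2,0,0,0,0,-2],[0,2,0,-2,0,2,2,0,2,0,0,0,0,0,2,2,0,0,0,0,0,0,-2,0],[0,0,0,-2,2,2,0,0,0,0,0,2,0,0,2,2,0,0,0,0,0,2,0,-2],[0,0,0,-2,0,2,0,0,0,2,2,0,0,0,2,2,0,2,0,0,-2,0,0,0],[0,2,2,-2,2,2,0,0,2,0,0,2,0,-2,0,0,0,0,0,0,0,0,0,0],[0,0,2,-2,0,2,2,0,0,0,0,0,0,2,0,0,0,0,0,0,0,2,2,-2],[2,2,0,-2,0,2,0,2,0,0,0,0,0,2,0,0,0,0,0,2,0,0,-2,0],[0,0,0,-2,2,2,0,0,0,2,0,0,0,2,0,0,0,0,0,2,2,-2,0,0],[0,0,0,-2,0,2,0,0,2,0,2,0,0,2,0,0,0,0,2,0,2,0,-2,0],[0,0,0,-2,0,2,0,0,0,0,2,2,0,2,0,0,0,2,0,2,0,0,0,-2],[0,2,0,-2,0,2,2,0,0,2,0,0,0,2,0,0,0,2,-2,0,0,0,0,0],[2,0,2,-2,0,2,0,0,0,2,2,0,0,2,0,0,-2,0,0,0,0,0,0,0],[0,0,0,-2,0,2,0,2,0,0,0,2,0,2,0,0,2,0,2,0,0,-2,0,0],[0,0,0,-2,2,2,2,2,0,0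,2,0,0,2,0,-2,0,0,0,0,0,0,0,0],[2,0,0,-2,0,2,0,0,2,0,0,0,0,2,0,2,0,2,0,0,0,-2,0,0],[0,2,0,-2,0,2,0,0,0,0,0,0,0,2,0,2,2,0,0,0,2,0,0,-2],[0,0,0,-2,0,2,0,2,2,2,0,0,0,2,2,0,0,0,0,0,0,0,0,-2],[2,0,0,-2,0,2,2,0,0,0,0,2,0,2,2,0,0,0,0,0,-2,0,0,0],[0,0,0,-2,2,2,0,0,0,0,0,0,0,2,2,0,2,2,0,0,0,0,-2,0],[0,0,2,-2,0,2,0,0,0,0,0,0,0,2,2,2,0,0,2,-2,0,0,0,0],[0,2,0,-2,0,2,2,2,0,0,0,2,2,0,0,0,0,0,0,0,0,0,0,-2],[0,0,0,-2,2,2,0,2,2,0,0,0,2,0,0,0,0,0,0,0,0,2,-2,0],[2,2,0,-2,0,2,0,0,2,2,0,0,2,0,0,0,0,0,0,0,-2,0,0,0],[2,0,2,-2,0,2,0,0,0,0,0,2,2,0,0,0,0,0,0,2,0,-2,0,0],[0,0,0,-2,0,2,0,2,0,2,2,0,2,0,0,0,0,0,2,-2,0,0,0,0],[2,0,0,-2,0,2,2,0,0,0,2,0,2,0,0,0,0,2,0,0,0,0,-2,0],[0,0,0,-2,2,2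,0,0,0,0,2,2,2,0,0,0,2,0,0,0,-2,0,0,0],[0,2,2,-2,0,2,0,0,0,0,0,0,2,0,0,0,2,0,2,0,0,0,-2,0],[0,0,0,-2,0,2,0,0,0,2,0,0,2,0,0,0,2,2,0,0,0,2,0,-2],[0,0,2,-2,0,2,0,0,2,0,2,0,2,0,0,2,0,0,0,0,0,0,0,-2],[0,0,0,-2,0,2,2,0,0,0,0,0,2,0,0,2,0,0,2,0,2,-2,0,0],[0,2,0,-2,2,2,0,0,0,0,0,0,2,0,0,2,0,2,0,-2,0,0,0,0],[0,0,2,-2,2,2,2,0,0,2,0,0,2,0,-2,0,0,0,0,0,0,0,0,0],[0,0,0,-2,0,2,0,0,0,0,0,0,2,0,2,0,0,0,0,2,2,0,2,-2],[0,0,0,-2,0,2,0,0,2,0,0,2,2,0,2,0,0,2,-2,0,0,0,0,0],[2,0,0,-2,0,2,0,2,0,0,0,0,2,0,2,2,-2,0,0,0,0,0,0,0],[2,0,0,-2,2,2,0,0,0,0,0,0,2,2,0,0,0,0,2,0,0,0,0,-2],[0,0,2,-2,0,2,0,2,0,0,0,0,2,2,0,0,0,2,0,0,-2,0,0,0],[0,0,0,-2,0,2,2,0,2,0,0,0,2,2,0,0,2,0,0,-2,0,0,0,0],[0,0,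0,-2,0,2,0,0,0,2,0,2,2,2,0,2,0,0,0,0,0,0,-2,0],[0,2,0,-2,0,2,0,0,0,0,2,0,2,2,2,0,0,0,0,0,0,-2,0,0]],[[0,2,0,2,2,-2,0,0,0,2,2,0,0,0,0,0,0,0,0,0,0,0,2,-2],[0,0,0,2,0,-2,2,0,2,2,2,2,0,0,0,0,0,0,0,0,0,-2,0,0],[2,0,0,2,0,-2,0,2,0,0,2,0,0,0,0,0,0,0,0,0,2,2,0,-2],[0,2,2,2,0,-2,2,0,0,0,2,0,0,0,0,0,0,0,0,2,-2,0,0,0],[2,0,2,2,0,-2,2,2,2,0,0,0,0,0,0,0,0,0,-2,0,0,0,0,0],[0,0,2,2,0,-2,0,0,0,2,0,2,0,0,0,0,0,0,2,0,2,0,0,-2],[0,0,0,2,2,-2,2,0,0,0,0,2,0,0,0,0,0,0,2,2,0,0,-2,0],[0,2,0,2,0,-2,0,0,2,0,0,0,0,0,0,0,0,0,2,2,0,2,0,-2],[2,0,0,2,2,-2,0,2,0,2,0,2,0,0,0,0,0,-2,0,0,0,0,0,0],[0,0,0,2,2,-2,2,0,2,0,0,0,0,0,0,0,0,2,0,0,2,0,0,-2],[0,2,0,2,0,-2,0,0,0,0,0,2,0,0,0,0,0,2,0,0,2,2,-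2,0],[0,0,2,2,0,-2,0,0,2,2,0,0,0,0,0,0,0,2,0,2,0,0,-2,0],[0,0,2,2,2,-2,0,0,0,0,2,0,0,0,0,0,0,2,2,0,0,-2,0,0],[2,0,0,2,0,-2,0,0,2,0,0,2,0,0,0,0,2,0,0,0,0,0,2,-2],[2,2,0,2,2,-2,2,0,0,0,0,0,0,0,0,0,2,0,0,0,0,-2,0,0],[0,0,0,2,0,-2,2,2,0,2,0,0,0,0,0,0,2,0,0,0,2,0,-2,0],[0,0,2,2,2,-2,0,2,0,0,0,0,0,0,0,0,2,0,0,2,0,0,0,-2],[0,2,0,2,0,-2,0,2,2,0,2,0,0,0,0,0,2,-2,0,0,0,0,0,0],[2,0,0,2,0,-2,0,0,0,0,0,0,0,0,0,0,2,2,2,2,-2,0,0,0],[0,2,2,2,0,-2,0,2,0,2,0,0,0,0,0,2,0,0,0,0,0,-2,0,0],[2,0,2,2,2,-2,0,0,0,0,0,0,0,0,0,2,0,0,0,0,2,0,-2,0],[2,0,0,2,0,-2,2,0,0,2,0,0,0,0,0,2,0,0,0,2,0,0,0,-2],[0,0,0,2,0,-2,0,2,2,0,0,2,0,0,0,2,0,0,0,2,-2,0,0,0],[2,2,0,2,0,-2,0,0,0,0,2,2,0,0,0,2,0,0,-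2,0,0,0,0,0],[0,0,0,2,0,-2,0,2,0,0,0,0,0,0,0,2,0,2,2,0,0,0,2,-2],[0,0,0,2,0,-2,0,0,0,0,2,0,0,0,0,2,2,0,0,2,0,2,-2,0],[0,0,0,2,2,-2,0,0,2,2,0,0,0,0,0,2,2,0,-2,0,0,0,0,0],[0,0,2,2,0,-2,2,0,0,0,0,2,0,0,0,2,2,-2,0,0,0,0,0,0],[0,0,2,2,0,-2,0,2,0,0,2,2,0,0,2,0,0,0,0,0,0,0,-2,0],[2,0,0,2,2,-2,0,0,2,0,2,0,0,0,2,0,0,0,0,-2,0,0,0,0],[2,0,0,2,0,-2,0,0,0,2,0,0,0,0,2,0,0,0,2,0,0,2,-2,0],[0,2,0,2,2,-2,0,2,0,0,0,0,0,0,2,0,0,0,2,0,-2,0,0,0],[2,2,2,2,0,-2,0,0,0,0,0,0,0,0,2,0,0,2,0,0,0,0,0,-2],[0,0,0,2,0,-2,2,2,0,0,0,0,0,0,2,0,0,2,0,2,0,-2,0,0],[0,0,2,2,0,-2,0,0,2,0,0,0,0,0,2,0,2,0,0,0,2,-2,0,0],[0,2,0,2,0,-2,0,0,0,2,0,2,0,0,2,0,2,0,0,-2,0,0,0,0],[0,0,0,2,0,-2,2,0,0,0,2,0,0,0,2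,0,2,0,2,0,0,0,0,-2],[0,2,0,2,0,-2,2,0,2,0,0,0,0,0,2,2,0,0,0,0,0,0,-2,0],[0,0,0,2,2,-2,0,0,0,0,0,2,0,0,2,2,0,0,0,0,0,2,0,-2],[0,0,0,2,0,-2,0,0,0,2,2,0,0,0,2,2,0,2,0,0,-2,0,0,0],[0,2,2,2,2,-2,0,0,2,0,0,2,0,-2,0,0,0,0,0,0,0,0,0,0],[0,0,2,2,0,-2,2,0,0,0,0,0,0,2,0,0,0,0,0,0,0,2,2,-2],[2,2,0,2,0,-2,0,2,0,0,0,0,0,2,0,0,0,0,0,2,0,0,-2,0],[0,0,0,2,2,-2,0,0,0,2,0,0,0,2,0,0,0,0,0,2,2,-2,0,0],[0,0,0,2,0,-2,0,0,2,0,2,0,0,2,0,0,0,0,2,0,2,0,-2,0],[0,0,0,2,0,-2,0,0,0,0,2,2,0,2,0,0,0,2,0,2,0,0,0,-2],[0,2,0,2,0,-2,2,0,0,2,0,0,0,2,0,0,0,2,-2,0,0,0,0,0],[2,0,2,2,0,-2,0,0,0,2,2,0,0,2,0,0,-2,0,0,0,0,0,0,0],[0,0,0,2,0,-2,0,2,0,0,0,2,0,2,0,0,2,0,2,0,0,-2,0,0],[0,0,0,2,2,-2,2,2,0,0,2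,0,0,2,0,-2,0,0,0,0,0,0,0,0],[2,0,0,2,0,-2,0,0,2,0,0,0,0,2,0,2,0,2,0,0,0,-2,0,0],[0,2,0,2,0,-2,0,0,0,0,0,0,0,2,0,2,2,0,0,0,2,0,0,-2],[0,0,0,2,0,-2,0,2,2,2,0,0,0,2,2,0,0,0,0,0,0,0,0,-2],[2,0,0,2,0,-2,2,0,0,0,0,2,0,2,2,0,0,0,0,0,-2,0,0,0],[0,0,0,2,2,-2,0,0,0,0,0,0,0,2,2,0,2,2,0,0,0,0,-2,0],[0,0,2,2,0,-2,0,0,0,0,0,0,0,2,2,2,0,0,2,-2,0,0,0,0],[0,2,0,2,0,-2,2,2,0,0,0,2,2,0,0,0,0,0,0,0,0,0,0,-2],[0,0,0,2,2,-2,0,2,2,0,0,0,2,0,0,0,0,0,0,0,0,2,-2,0],[2,2,0,2,0,-2,0,0,2,2,0,0,2,0,0,0,0,0,0,0,-2,0,0,0],[2,0,2,2,0,-2,0,0,0,0,0,2,2,0,0,0,0,0,0,2,0,-2,0,0],[0,0,0,2,0,-2,0,2,0,2,2,0,2,0,0,0,0,0,2,-2,0,0,0,0],[2,0,0,2,0,-2,2,0,0,0,2,0,2,0,0,0,0,2,0,0,0,0,-2,0],[0,0,0,2,2,-2,0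,0,0,0,2,2,2,0,0,0,2,0,0,0,-2,0,0,0],[0,2,2,2,0,-2,0,0,0,0,0,0,2,0,0,0,2,0,2,0,0,0,-2,0],[0,0,0,2,0,-2,0,0,0,2,0,0,2,0,0,0,2,2,0,0,0,2,0,-2],[0,0,2,2,0,-2,0,0,2,0,2,0,2,0,0,2,0,0,0,0,0,0,0,-2],[0,0,0,2,0,-2,2,0,0,0,0,0,2,0,0,2,0,0,2,0,2,-2,0,0],[0,2,0,2,2,-2,0,0,0,0,0,0,2,0,0,2,0,2,0,-2,0,0,0,0],[0,0,2,2,2,-2,2,0,0,2,0,0,2,0,-2,0,0,0,0,0,0,0,0,0],[0,0,0,2,0,-2,0,0,0,0,0,0,2,0,2,0,0,0,0,2,2,0,2,-2],[0,0,0,2,0,-2,0,0,2,0,0,2,2,0,2,0,0,2,-2,0,0,0,0,0],[2,0,0,2,0,-2,0,2,0,0,0,0,2,0,2,2,-2,0,0,0,0,0,0,0],[2,0,0,2,2,-2,0,0,0,0,0,0,2,2,0,0,0,0,2,0,0,0,0,-2],[0,0,2,2,0,-2,0,2,0,0,0,0,2,2,0,0,0,2,0,0,-2,0,0,0],[0,0,0,2,0,-2,2,0,2,0,0,0,2,2,0,0,2,0,0,-2,0,0,0,0],[0,0,0,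2,0,-2,0,0,0,2,0,2,2,2,0,2,0,0,0,0,0,0,-2,0],[0,2,0,2,0,-2,0,0,0,0,2,0,2,2,2,0,0,0,0,0,0,-2,0,0]],[[0,2,0,-2,2,-2,0,0,0,2,2,0,0,0,0,0,0,0,0,0,0,0,2,2],[0,0,0,-2,0,-2,2,0,2,2,2,2,0,0,0,0,0,0,0,0,0,2,0,0],[2,0,0,-2,0,-2,0,2,0,0,2,0,0,0,0,0,0,0,0,0,2,2,0,2],[0,2,2,-2,0,-2,2,0,0,0,2,0,0,0,0,0,0,0,0,2,2,0,0,0],[2,0,2,-2,0,-2,2,2,2,0,0,0,0,0,0,0,0,0,2,0,0,0,0,0],[0,0,2,-2,0,-2,0,0,0,2,0,2,0,0,0,0,0,0,2,0,2,0,0,2],[0,0,0,-2,2,-2,2,0,0,0,0,2,0,0,0,0,0,0,2,2,0,0,2,0],[0,2,0,-2,0,-2,0,0,2,0,0,0,0,0,0,0,0,0,2,2,0,2,0,2],[2,0,0,-2,2,-2,0,2,0,2,0,2,0,0,0,0,0,2,0,0,0,0,0,0],[0,0,0,-2,2,-2,2,0,2,0,0,0,0,0,0,0,0,2,0,0,2,0,0,2],[0,2,0,-2,0,-2,0,0,0,0,0,2,0,0,0,0,0,2,0,0,2,2,2,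0],[0,0,2,-2,0,-2,0,0,2,2,0,0,0,0,0,0,0,2,0,2,0,0,2,0],[0,0,2,-2,2,-2,0,0,0,0,2,0,0,0,0,0,0,2,2,0,0,2,0,0],[2,0,0,-2,0,-2,0,0,2,0,0,2,0,0,0,0,2,0,0,0,0,0,2,2],[2,2,0,-2,2,-2,2,0,0,0,0,0,0,0,0,0,2,0,0,0,0,2,0,0],[0,0,0,-2,0,-2,2,2,0,2,0,0,0,0,0,0,2,0,0,0,2,0,2,0],[0,0,2,-2,2,-2,0,2,0,0,0,0,0,0,0,0,2,0,0,2,0,0,0,2],[0,2,0,-2,0,-2,0,2,2,0,2,0,0,0,0,0,2,2,0,0,0,0,0,0],[2,0,0,-2,0,-2,0,0,0,0,0,0,0,0,0,0,2,2,2,2,2,0,0,0],[0,2,2,-2,0,-2,0,2,0,2,0,0,0,0,0,2,0,0,0,0,0,2,0,0],[2,0,2,-2,2,-2,0,0,0,0,0,0,0,0,0,2,0,0,0,0,2,0,2,0],[2,0,0,-2,0,-2,2,0,0,2,0,0,0,0,0,2,0,0,0,2,0,0,0,2],[0,0,0,-2,0,-2,0,2,2,0,0,2,0,0,0,2,0,0,0,2,2,0,0,0],[2,2,0,-2,0,-2,0,0,0,0,2,2,0,0,0,2,0,0,2,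0,0,0,0,0],[0,0,0,-2,0,-2,0,2,0,0,0,0,0,0,0,2,0,2,2,0,0,0,2,2],[0,0,0,-2,0,-2,0,0,0,0,2,0,0,0,0,2,2,0,0,2,0,2,2,0],[0,0,0,-2,2,-2,0,0,2,2,0,0,0,0,0,2,2,0,2,0,0,0,0,0],[0,0,2,-2,0,-2,2,0,0,0,0,2,0,0,0,2,2,2,0,0,0,0,0,0],[0,0,2,-2,0,-2,0,2,0,0,2,2,0,0,2,0,0,0,0,0,0,0,2,0],[2,0,0,-2,2,-2,0,0,2,0,2,0,0,0,2,0,0,0,0,2,0,0,0,0],[2,0,0,-2,0,-2,0,0,0,2,0,0,0,0,2,0,0,0,2,0,0,2,2,0],[0,2,0,-2,2,-2,0,2,0,0,0,0,0,0,2,0,0,0,2,0,2,0,0,0],[2,2,2,-2,0,-2,0,0,0,0,0,0,0,0,2,0,0,2,0,0,0,0,0,2],[0,0,0,-2,0,-2,2,2,0,0,0,0,0,0,2,0,0,2,0,2,0,2,0,0],[0,0,2,-2,0,-2,0,0,2,0,0,0,0,0,2,0,2,0,0,0,2,2,0,0],[0,2,0,-2,0,-2,0,0,0,2,0,2,0,0,2,0,2,0,0,2,0,0,0,0],[0,0,0,-2,0,-2,2,0,0,0,2,0,0,0,2,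0,2,0,2,0,0,0,0,2],[0,2,0,-2,0,-2,2,0,2,0,0,0,0,0,2,2,0,0,0,0,0,0,2,0],[0,0,0,-2,2,-2,0,0,0,0,0,2,0,0,2,2,0,0,0,0,0,2,0,2],[0,0,0,-2,0,-2,0,0,0,2,2,0,0,0,2,2,0,2,0,0,2,0,0,0],[0,2,2,-2,2,-2,0,0,2,0,0,2,0,2,0,0,0,0,0,0,0,0,0,0],[0,0,2,-2,0,-2,2,0,0,0,0,0,0,2,0,0,0,0,0,0,0,2,2,2],[2,2,0,-2,0,-2,0,2,0,0,0,0,0,2,0,0,0,0,0,2,0,0,2,0],[0,0,0,-2,2,-2,0,0,0,2,0,0,0,2,0,0,0,0,0,2,2,2,0,0],[0,0,0,-2,0,-2,0,0,2,0,2,0,0,2,0,0,0,0,2,0,2,0,2,0],[0,0,0,-2,0,-2,0,0,0,0,2,2,0,2,0,0,0,2,0,2,0,0,0,2],[0,2,0,-2,0,-2,2,0,0,2,0,0,0,2,0,0,0,2,2,0,0,0,0,0],[2,0,2,-2,0,-2,0,0,0,2,2,0,0,2,0,0,2,0,0,0,0,0,0,0],[0,0,0,-2,0,-2,0,2,0,0,0,2,0,2,0,0,2,0,2,0,0,2,0,0],[0,0,0,-2,2,-2,2,2,0,0,2,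0,0,2,0,2,0,0,0,0,0,0,0,0],[2,0,0,-2,0,-2,0,0,2,0,0,0,0,2,0,2,0,2,0,0,0,2,0,0],[0,2,0,-2,0,-2,0,0,0,0,0,0,0,2,0,2,2,0,0,0,2,0,0,2],[0,0,0,-2,0,-2,0,2,2,2,0,0,0,2,2,0,0,0,0,0,0,0,0,2],[2,0,0,-2,0,-2,2,0,0,0,0,2,0,2,2,0,0,0,0,0,2,0,0,0],[0,0,0,-2,2,-2,0,0,0,0,0,0,0,2,2,0,2,2,0,0,0,0,2,0],[0,0,2,-2,0,-2,0,0,0,0,0,0,0,2,2,2,0,0,2,2,0,0,0,0],[0,2,0,-2,0,-2,2,2,0,0,0,2,2,0,0,0,0,0,0,0,0,0,0,2],[0,0,0,-2,2,-2,0,2,2,0,0,0,2,0,0,0,0,0,0,0,0,2,2,0],[2,2,0,-2,0,-2,0,0,2,2,0,0,2,0,0,0,0,0,0,0,2,0,0,0],[2,0,2,-2,0,-2,0,0,0,0,0,2,2,0,0,0,0,0,0,2,0,2,0,0],[0,0,0,-2,0,-2,0,2,0,2,2,0,2,0,0,0,0,0,2,2,0,0,0,0],[2,0,0,-2,0,-2,2,0,0,0,2,0,2,0,0,0,0,2,0,0,0,0,2,0],[0,0,0,-2,2,-2,0,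0,0,0,2,2,2,0,0,0,2,0,0,0,2,0,0,0],[0,2,2,-2,0,-2,0,0,0,0,0,0,2,0,0,0,2,0,2,0,0,0,2,0],[0,0,0,-2,0,-2,0,0,0,2,0,0,2,0,0,0,2,2,0,0,0,2,0,2],[0,0,2,-2,0,-2,0,0,2,0,2,0,2,0,0,2,0,0,0,0,0,0,0,2],[0,0,0,-2,0,-2,2,0,0,0,0,0,2,0,0,2,0,0,2,0,2,2,0,0],[0,2,0,-2,2,-2,0,0,0,0,0,0,2,0,0,2,0,2,0,2,0,0,0,0],[0,0,2,-2,2,-2,2,0,0,2,0,0,2,0,2,0,0,0,0,0,0,0,0,0],[0,0,0,-2,0,-2,0,0,0,0,0,0,2,0,2,0,0,0,0,2,2,0,2,2],[0,0,0,-2,0,-2,0,0,2,0,0,2,2,0,2,0,0,2,2,0,0,0,0,0],[2,0,0,-2,0,-2,0,2,0,0,0,0,2,0,2,2,2,0,0,0,0,0,0,0],[2,0,0,-2,2,-2,0,0,0,0,0,0,2,2,0,0,0,0,2,0,0,0,0,2],[0,0,2,-2,0,-2,0,2,0,0,0,0,2,2,0,0,0,2,0,0,2,0,0,0],[0,0,0,-2,0,-2,2,0,2,0,0,0,2,2,0,0,2,0,0,2,0,0,0,0],[0,0,0,-2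,0,-2,0,0,0,2,0,2,2,2,0,2,0,0,0,0,0,0,2,0],[0,2,0,-2,0,-2,0,0,0,0,2,0,2,2,2,0,0,0,0,0,0,2,0,0]],[[2,0,2,0,2,2,2,0,0,0,2,2,0,0,0,0,0,0,0,0,0,0,0,2],[2,2,2,0,0,2,0,0,2,0,2,0,0,0,0,0,0,0,0,0,0,2,2,0],[0,0,2,0,2,2,0,2,2,2,2,0,0,0,0,0,0,0,0,0,2,0,0,0],[0,0,0,0,0,2,2,2,2,0,2,0,0,0,0,0,0,0,0,2,0,0,2,2],[0,2,0,0,2,2,0,2,0,0,2,2,0,0,0,0,0,0,0,2,0,2,0,0],[2,0,0,0,0,2,0,0,0,2,2,2,0,0,0,0,0,0,0,2,2,0,2,0],[0,2,0,0,0,2,0,2,2,2,0,2,0,0,0,0,0,0,2,0,0,0,2,0],[0,0,0,0,2,2,2,2,0,2,0,0,0,0,0,0,0,0,2,0,0,2,0,2],[2,2,0,0,0,2,2,0,0,0,0,0,0,0,0,0,0,0,2,0,2,0,2,2],[2,0,0,0,2,2,0,0,2,0,0,2,0,0,0,0,0,0,2,0,2,2,0,0],[2,2,2,0,2,2,0,0,0,2,0,0,0,0,0,0,0,0,2,2,0,0,0,0],[0,0,2,0,0,2,0,2,0,0,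0,0,0,0,0,0,0,0,2,2,2,2,2,0],[0,2,2,0,2,2,2,2,0,0,0,0,0,0,0,0,0,2,0,0,0,0,2,0],[0,0,2,0,0,2,0,2,2,0,0,2,0,0,0,0,0,2,0,0,0,2,0,2],[2,0,2,0,0,2,2,0,0,2,0,0,0,0,0,0,0,2,0,0,2,2,0,0],[2,2,0,0,0,2,2,0,2,0,0,2,0,0,0,0,0,2,0,2,0,0,0,0],[2,0,0,0,2,2,0,0,0,0,0,0,0,0,0,0,0,2,0,2,0,2,2,2],[0,2,0,0,0,2,0,2,0,2,0,0,0,0,0,0,0,2,0,2,2,0,0,2],[2,0,0,0,0,2,0,0,2,2,2,0,0,0,0,0,0,2,2,0,0,0,0,2],[0,0,0,0,0,2,2,2,0,0,2,2,0,0,0,0,0,2,2,0,2,0,0,0],[0,2,2,0,0,2,2,0,2,2,0,0,0,0,0,0,2,0,0,0,0,0,0,2],[0,0,2,0,2,2,0,0,0,2,0,2,0,0,0,0,2,0,0,0,0,2,2,0],[2,2,2,0,0,2,0,2,0,0,0,2,0,0,0,0,2,0,0,0,2,0,0,0],[2,0,0,0,0,2,0,2,2,2,0,0,0,0,0,0,2,0,0,2,0,2,0,0],[0,2,0,0,2,2,0,0,2,0,0,0,0,0,0,0,2,0,0,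2,2,0,2,0],[0,0,0,0,0,2,2,0,0,0,0,2,0,0,0,0,2,0,0,2,2,2,0,2],[2,0,0,0,2,2,0,2,0,0,2,0,0,0,0,0,2,0,2,0,0,0,2,0],[0,2,0,0,0,2,0,0,0,2,2,0,0,0,0,0,2,0,2,0,2,2,0,0],[0,0,2,0,0,2,0,0,2,0,2,2,0,0,0,0,2,0,2,2,0,0,0,0],[0,0,2,0,0,2,0,0,0,0,2,0,0,0,0,0,2,2,0,0,2,0,2,2],[0,0,0,0,2,2,2,0,0,2,2,0,0,0,0,0,2,2,0,2,0,0,0,0],[0,2,0,0,2,2,0,0,0,0,0,2,0,0,0,0,2,2,2,0,0,0,0,2],[0,0,0,0,0,2,2,0,2,0,0,0,0,0,0,0,2,2,2,0,0,2,2,0],[2,2,0,0,2,2,0,2,2,0,0,0,0,0,0,2,0,0,0,0,0,0,0,2],[2,0,0,0,0,2,2,2,0,0,0,2,0,0,0,2,0,0,0,0,0,2,2,0],[0,2,0,0,2,2,2,0,0,2,0,2,0,0,0,2,0,0,0,0,2,0,0,0],[0,0,0,0,0,2,0,0,2,2,0,0,0,0,0,2,0,0,0,0,2,2,2,2],[0,2,2,0,0,2,0,0,0,0,0,2,0,0,0,2,0,0,0,2,0,0,2,2],[0,0,2,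0,2,2,2,0,2,0,0,0,0,0,0,2,0,0,0,2,0,2,0,0],[0,0,2,0,0,2,2,0,0,2,2,0,0,0,0,2,0,0,2,0,0,0,2,0],[0,0,0,0,2,2,0,0,0,0,2,0,0,0,0,2,0,0,2,2,2,0,0,2],[0,0,0,0,2,2,0,0,2,0,2,2,0,0,0,2,0,2,0,0,0,0,2,0],[0,2,0,0,0,2,2,0,0,0,2,0,0,0,0,2,0,2,0,0,0,2,0,2],[2,0,2,0,0,2,0,2,0,0,2,0,0,0,0,2,0,2,0,2,0,0,0,0],[0,2,2,0,0,2,0,0,2,0,0,0,0,0,0,2,0,2,2,0,2,0,0,0],[0,0,0,0,0,2,0,0,0,2,0,2,0,0,0,2,0,2,2,2,0,2,0,0],[0,0,0,0,0,2,0,2,0,2,2,2,0,0,0,2,2,0,0,0,0,0,0,2],[2,0,0,0,0,2,2,0,2,0,2,0,0,0,0,2,2,0,0,0,2,0,0,0],[2,0,2,0,0,2,0,0,0,0,0,0,0,0,0,2,2,0,2,0,0,2,0,2],[0,2,0,0,0,2,2,2,0,0,0,0,0,0,0,2,2,0,2,2,0,0,0,0],[2,2,0,0,0,2,0,0,0,2,0,0,0,0,0,2,2,2,0,0,0,0,2,0],[0,0,0,0,2,2,0,2,0,0,0,0,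0,0,0,2,2,2,0,0,2,2,0,0],[2,2,0,0,0,2,2,2,0,2,2,0,0,0,2,0,0,0,0,0,0,0,0,0],[0,2,0,0,0,2,0,0,2,0,2,2,0,0,2,0,0,0,0,0,2,0,0,2],[0,0,0,0,2,2,2,0,0,0,2,0,0,0,2,0,0,0,0,0,2,2,2,0],[0,0,2,0,0,2,0,0,0,2,2,0,0,0,2,0,0,0,0,2,0,2,0,2],[0,0,2,0,2,2,0,0,2,0,0,0,0,0,2,0,0,0,2,0,0,0,2,2],[0,2,2,0,0,2,2,0,0,0,0,2,0,0,2,0,0,0,2,0,0,2,0,0],[2,0,0,0,0,2,0,2,0,0,0,2,0,0,2,0,0,0,2,2,0,0,0,2],[0,0,0,0,0,2,2,0,2,2,0,0,0,0,2,0,0,0,2,2,2,0,0,0],[0,0,0,0,0,2,2,0,0,2,0,2,0,0,2,0,0,2,0,0,0,0,2,2],[0,2,0,0,2,2,0,0,2,2,0,0,0,0,2,0,0,2,0,0,0,2,0,0],[2,0,0,0,0,2,0,2,2,0,0,0,0,0,2,0,0,2,0,0,2,0,2,0],[0,0,2,0,2,2,0,0,0,0,0,2,0,0,2,0,0,2,0,2,2,0,0,0],[0,2,0,0,0,2,0,0,0,0,2,0,0,0,2,0,0,2,2,2,0,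0,2,0],[0,0,0,0,2,2,2,2,2,0,0,2,0,0,2,0,2,0,0,0,0,0,0,0],[0,2,0,0,0,2,0,2,0,0,0,0,0,0,2,0,2,0,0,0,0,2,2,2],[2,0,0,0,2,2,0,0,0,2,0,0,0,0,2,0,2,0,0,0,2,0,0,2],[2,0,2,0,0,2,2,0,0,0,0,0,0,0,2,0,2,0,0,2,0,0,2,0],[2,0,0,0,0,2,0,0,0,0,2,2,0,0,2,0,2,2,0,0,0,2,0,0],[0,0,2,0,0,2,0,2,0,2,0,0,0,0,2,0,2,2,2,0,0,0,0,0],[2,0,2,0,0,2,0,0,2,2,0,2,0,0,2,2,0,0,0,0,0,0,0,0],[0,0,2,0,0,2,2,2,0,0,0,0,0,0,2,2,0,0,0,0,2,0,0,2],[0,0,0,0,2,2,0,2,0,2,0,0,0,0,2,2,0,0,0,2,0,0,2,0],[2,2,0,0,0,2,0,0,0,0,0,0,0,0,2,2,0,0,0,2,2,2,0,0],[0,0,0,0,0,2,0,2,2,0,2,0,0,0,2,2,0,0,2,0,0,2,0,0],[2,0,0,0,2,2,2,0,0,0,0,0,0,0,2,2,0,2,2,0,0,0,0,0],[0,2,2,0,2,2,0,0,0,0,2,0,0,0,2,2,2,0,0,0,0,0,0,0],[0,0,0,0,0,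2,0,0,0,0,0,2,0,0,2,2,2,0,2,0,2,0,2,0],[0,0,0,0,0,2,0,0,2,0,0,0,0,0,2,2,2,2,0,2,0,0,0,2],[2,0,0,0,2,2,2,0,2,2,0,0,0,2,0,0,0,0,0,0,0,0,2,0],[2,2,0,0,0,2,0,0,0,2,0,2,0,2,0,0,0,0,0,0,0,2,0,2],[0,0,0,0,2,2,0,2,0,0,0,2,0,2,0,0,0,0,0,0,2,0,2,2],[0,2,0,0,0,2,2,2,2,0,0,0,0,2,0,0,0,0,0,0,2,2,0,0],[0,0,2,0,0,2,2,2,0,2,0,2,0,2,0,0,0,0,0,2,0,0,0,0],[2,0,2,0,0,2,0,0,2,0,0,0,0,2,0,0,0,0,0,2,2,0,0,2],[0,2,2,0,0,2,0,2,0,0,2,0,0,2,0,0,0,0,2,0,0,0,0,2],[2,0,0,0,0,2,2,0,0,0,2,0,0,2,0,0,0,0,2,2,0,2,0,0],[0,0,0,0,0,2,0,2,0,2,2,0,0,2,0,0,0,2,0,0,0,2,2,0],[2,2,0,0,2,2,0,0,0,0,2,0,0,2,0,0,0,2,0,0,2,0,0,0],[2,0,2,0,0,2,0,0,0,0,0,2,0,2,0,0,0,2,2,0,0,0,2,0],[0,0,0,0,2,2,0,2,2,0,0,0,0,2,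0,0,0,2,2,2,0,0,0,0],[0,2,0,0,0,2,2,0,0,0,2,2,0,2,0,0,2,0,0,0,0,0,2,0],[0,0,0,0,2,2,0,0,2,0,2,0,0,2,0,0,2,0,0,0,0,2,0,2],[0,0,2,0,2,2,2,0,0,0,0,0,0,2,0,0,2,0,2,0,2,0,0,0],[0,0,0,0,0,2,0,0,0,2,0,0,0,2,0,0,2,0,2,2,0,0,2,2],[2,0,0,0,0,2,2,2,0,0,0,0,0,2,0,0,2,2,0,0,0,0,0,2],[0,0,0,0,0,2,0,0,2,2,0,2,0,2,0,0,2,2,0,0,2,0,0,0],[0,2,2,0,0,2,0,0,0,0,0,0,0,2,0,0,2,2,0,2,0,2,0,0],[0,0,2,0,0,2,0,0,0,0,2,2,0,2,0,2,0,0,0,0,2,2,0,0],[0,2,0,0,0,2,0,0,2,2,2,0,0,2,0,2,0,0,0,2,0,0,0,0],[0,0,0,0,0,2,2,0,2,0,0,2,0,2,0,2,0,0,2,0,0,0,0,2],[0,2,0,0,2,2,0,0,0,0,0,0,0,2,0,2,0,0,2,0,0,2,2,0],[2,0,0,0,0,2,0,2,0,2,0,0,0,2,0,2,0,0,2,0,2,0,0,0],[0,0,2,0,2,2,0,0,0,2,0,0,0,2,0,2,0,2,0,0,0,0,0,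2],[0,0,0,0,0,2,2,0,0,0,0,0,0,2,0,2,0,2,0,2,2,0,2,0],[0,0,2,0,0,2,0,2,2,0,0,0,0,2,0,2,2,0,0,0,0,0,2,0],[2,0,0,0,2,2,0,0,0,0,0,2,0,2,0,2,2,0,0,2,0,0,0,0],[2,0,2,0,2,2,0,2,0,0,0,0,0,2,2,0,0,0,0,0,0,2,0,0],[0,2,2,0,0,2,0,0,0,2,0,0,0,2,2,0,0,0,0,0,2,0,2,0],[0,2,0,0,2,2,2,0,0,0,0,0,0,2,2,0,0,0,0,2,0,0,0,2],[0,0,0,0,0,2,0,0,2,0,0,2,0,2,2,0,0,0,0,2,0,2,2,0],[0,0,0,0,2,2,0,0,0,2,2,2,0,2,2,0,0,0,2,0,0,0,0,0],[0,0,2,0,0,2,2,0,2,0,2,0,0,2,2,0,0,2,0,0,0,0,0,0],[0,0,0,0,0,2,0,0,0,0,0,0,0,2,2,0,0,2,2,0,2,2,0,2],[0,0,0,0,0,2,0,2,0,0,2,0,0,2,2,0,2,0,0,2,2,0,0,0],[2,2,0,0,0,2,0,0,2,0,0,0,0,2,2,0,2,0,2,0,0,0,0,0],[2,0,0,0,0,2,0,0,0,0,2,0,0,2,2,2,0,0,0,0,0,0,2,2],[0,2,0,0,0,2,0,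2,0,0,0,2,0,2,2,2,0,2,0,0,0,0,0,0],[0,0,0,0,0,2,2,0,0,2,0,0,0,2,2,2,2,0,0,0,0,2,0,0],[2,0,2,0,0,2,0,2,0,2,0,0,2,0,0,0,0,0,0,0,0,0,2,2],[0,0,2,0,0,2,2,0,2,0,0,2,2,0,0,0,0,0,0,0,2,0,2,0],[0,2,2,0,2,2,0,0,0,0,0,0,2,0,0,0,0,0,0,0,2,2,0,2],[0,0,0,0,2,2,0,0,2,2,0,2,2,0,0,0,0,0,0,2,0,0,0,2],[0,2,0,0,0,2,2,0,0,2,0,0,2,0,0,0,0,0,0,2,0,2,2,0],[2,0,0,0,2,2,2,2,0,0,0,0,2,0,0,0,0,0,0,2,2,0,0,0],[0,2,0,0,2,2,2,0,2,0,2,0,2,0,0,0,0,0,2,0,0,0,0,0],[0,0,0,0,0,2,0,0,0,0,2,2,2,0,0,0,0,0,2,0,0,2,2,2],[0,2,2,0,0,2,0,0,0,2,2,2,2,0,0,0,0,2,0,0,0,0,0,0],[0,0,0,0,0,2,0,0,2,0,2,0,2,0,0,0,0,2,0,2,2,2,0,0],[2,2,0,0,0,2,0,2,0,0,0,0,2,0,0,0,0,2,2,0,0,2,0,0],[0,0,0,0,2,2,0,0,0,2,0,0,2,0,0,0,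0,2,2,0,2,0,2,0],[0,0,2,0,0,2,2,0,0,0,0,0,2,0,0,0,0,2,2,2,0,0,0,2],[0,0,2,0,0,2,2,2,0,0,2,0,2,0,0,0,2,0,0,0,0,2,0,0],[2,2,0,0,0,2,0,0,0,0,2,0,2,0,0,0,2,0,0,2,0,0,0,2],[2,0,0,0,0,2,2,0,0,2,0,2,2,0,0,0,2,0,2,0,0,0,0,0],[0,0,0,0,0,2,0,2,2,0,0,0,2,0,0,0,2,0,2,0,2,0,0,2],[2,0,2,0,2,2,0,0,2,0,0,0,2,0,0,0,2,2,0,0,0,0,0,0],[0,0,0,0,0,2,0,2,0,0,0,2,2,0,0,0,2,2,0,2,0,0,2,0],[2,0,0,0,2,2,0,0,0,2,2,0,2,0,0,2,0,0,0,0,0,2,0,0],[0,2,0,0,0,2,0,2,0,0,2,0,2,0,0,2,0,0,0,0,2,0,2,0],[0,0,2,0,2,2,0,2,0,0,0,2,2,0,0,2,0,0,2,0,0,0,0,0],[2,0,0,0,0,2,0,0,2,0,0,0,2,0,0,2,0,0,2,2,0,0,2,0],[0,0,0,0,0,2,2,2,2,2,0,0,2,0,0,2,0,2,0,0,0,0,0,0],[2,0,0,0,0,2,0,0,0,0,0,2,2,0,0,2,0,2,0,0,2,0,0,2],[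0,0,0,0,2,2,2,0,0,0,0,0,2,0,0,2,2,0,0,0,0,0,2,2],[0,2,0,0,0,2,0,0,2,0,0,2,2,0,0,2,2,0,0,0,0,2,0,0],[0,0,2,0,0,2,0,0,0,2,0,0,2,0,0,2,2,0,0,2,2,0,0,0],[2,2,0,0,2,2,0,0,0,0,0,2,2,0,2,0,0,0,0,0,0,0,2,0],[2,0,0,0,0,2,2,0,2,0,0,0,2,0,2,0,0,0,0,0,0,2,0,2],[0,0,0,0,0,2,0,2,0,2,0,2,2,0,2,0,0,0,0,0,2,2,0,0],[0,2,2,0,0,2,0,2,2,0,0,0,2,0,2,0,0,0,0,2,0,0,0,0],[2,0,2,0,0,2,0,0,0,0,2,0,2,0,2,0,0,0,2,0,2,0,0,0],[0,0,0,0,2,2,0,2,0,0,2,0,2,0,2,0,0,2,0,0,0,0,0,2],[0,0,0,0,0,2,0,0,2,2,2,0,2,0,2,0,2,0,0,0,0,0,2,0],[0,0,0,0,2,2,0,0,0,0,0,0,2,0,2,0,2,0,2,2,0,2,0,0],[0,2,0,0,0,2,2,0,0,0,0,0,2,0,2,0,2,2,0,0,2,0,0,0],[0,0,0,0,0,2,2,0,0,0,2,2,2,0,2,2,0,0,0,2,0,0,0,0],[0,2,0,0,0,2,0,0,0,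2,0,0,2,0,2,2,0,0,2,0,0,0,0,2],[0,0,2,0,0,2,0,0,0,0,0,0,2,0,2,2,0,2,0,0,0,2,2,0],[2,0,0,0,0,2,0,2,2,0,2,2,2,2,0,0,0,0,0,0,0,0,0,0],[0,0,0,0,0,2,2,0,0,2,2,0,2,2,0,0,0,0,0,0,2,0,0,2],[0,0,2,0,2,2,0,0,0,0,2,0,2,2,0,0,0,0,0,2,0,0,2,0],[0,0,2,0,0,2,0,0,2,2,0,0,2,2,0,0,0,0,2,0,0,2,0,0],[0,2,0,0,0,2,0,0,0,0,0,2,2,2,0,0,0,0,2,2,2,0,0,0],[0,2,0,0,0,2,0,0,2,0,0,0,2,2,0,0,0,2,0,0,0,0,2,2],[0,0,0,0,2,2,2,0,0,0,0,2,2,2,0,0,0,2,0,0,0,2,0,0],[0,2,0,0,2,2,0,2,0,2,0,0,2,2,0,0,2,0,0,0,0,0,0,0],[2,0,0,0,0,2,0,0,0,0,0,0,2,2,0,0,2,0,0,0,2,2,2,0],[2,2,2,0,0,2,2,0,0,0,0,0,2,2,0,2,0,0,0,0,0,0,0,0],[0,0,0,0,0,2,0,2,0,0,0,0,2,2,0,2,0,0,0,2,0,2,0,2],[0,0,0,0,0,2,0,0,0,0,2,0,2,2,0,2,2,2,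2,0,0,0,0,0],[0,0,0,0,0,2,2,2,0,0,0,0,2,2,2,0,0,0,2,0,0,0,2,0],[2,0,0,0,0,2,0,0,0,2,0,0,2,2,2,0,0,2,0,2,0,0,0,0],[0,0,2,0,0,2,0,0,0,0,0,2,2,2,2,0,2,0,0,0,0,0,0,2],[0,0,0,0,2,2,0,0,2,0,0,0,2,2,2,2,0,0,0,0,2,0,0,0]],[[2,0,2,0,2,-2,2,0,0,0,2,2,0,0,0,0,0,0,0,0,0,0,0,-2],[2,2,2,0,0,-2,0,0,2,0,2,0,0,0,0,0,0,0,0,0,0,2,-2,0],[0,0,2,0,2,-2,0,2,2,2,2,0,0,0,0,0,0,0,0,0,-2,0,0,0],[0,0,0,0,0,-2,2,2,2,0,2,0,0,0,0,0,0,0,0,2,0,0,2,-2],[0,2,0,0,2,-2,0,2,0,0,2,2,0,0,0,0,0,0,0,2,0,-2,0,0],[2,0,0,0,0,-2,0,0,0,2,2,2,0,0,0,0,0,0,0,2,2,0,-2,0],[0,2,0,0,0,-2,0,2,2,2,0,2,0,0,0,0,0,0,2,0,0,0,-2,0],[0,0,0,0,2,-2,2,2,0,2,0,0,0,0,0,0,0,0,2,0,0,2,0,-2],[2,2,0,0,0,-2,2,0,0,0,0,0,0,0,0,0,0,0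,2,0,2,0,2,-2],[2,0,0,0,2,-2,0,0,2,0,0,2,0,0,0,0,0,0,2,0,2,-2,0,0],[2,2,2,0,2,-2,0,0,0,2,0,0,0,0,0,0,0,0,2,-2,0,0,0,0],[0,0,2,0,0,-2,0,2,0,0,0,0,0,0,0,0,0,0,2,2,2,2,-2,0],[0,2,2,0,2,-2,2,2,0,0,0,0,0,0,0,0,0,2,0,0,0,0,-2,0],[0,0,2,0,0,-2,0,2,2,0,0,2,0,0,0,0,0,2,0,0,0,2,0,-2],[2,0,2,0,0,-2,2,0,0,2,0,0,0,0,0,0,0,2,0,0,2,-2,0,0],[2,2,0,0,0,-2,2,0,2,0,0,2,0,0,0,0,0,2,0,-2,0,0,0,0],[2,0,0,0,2,-2,0,0,0,0,0,0,0,0,0,0,0,2,0,2,0,2,2,-2],[0,2,0,0,0,-2,0,2,0,2,0,0,0,0,0,0,0,2,0,2,2,0,0,-2],[2,0,0,0,0,-2,0,0,2,2,2,0,0,0,0,0,0,2,2,0,0,0,0,-2],[0,0,0,0,0,-2,2,2,0,0,2,2,0,0,0,0,0,2,2,0,-2,0,0,0],[0,2,2,0,0,-2,2,0,2,2,0,0,0,0,0,0,2,0,0,0,0,0,0,-2],[0,0,2,0,2,-2,0,0,0,2,0,2,0,0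,0,0,2,0,0,0,0,2,-2,0],[2,2,2,0,0,-2,0,2,0,0,0,2,0,0,0,0,2,0,0,0,-2,0,0,0],[2,0,0,0,0,-2,0,2,2,2,0,0,0,0,0,0,2,0,0,2,0,-2,0,0],[0,2,0,0,2,-2,0,0,2,0,0,0,0,0,0,0,2,0,0,2,2,0,-2,0],[0,0,0,0,0,-2,2,0,0,0,0,2,0,0,0,0,2,0,0,2,2,2,0,-2],[2,0,0,0,2,-2,0,2,0,0,2,0,0,0,0,0,2,0,2,0,0,0,-2,0],[0,2,0,0,0,-2,0,0,0,2,2,0,0,0,0,0,2,0,2,0,2,-2,0,0],[0,0,2,0,0,-2,0,0,2,0,2,2,0,0,0,0,2,0,2,-2,0,0,0,0],[0,0,2,0,0,-2,0,0,0,0,2,0,0,0,0,0,2,2,0,0,2,0,2,-2],[0,0,0,0,2,-2,2,0,0,2,2,0,0,0,0,0,2,2,0,-2,0,0,0,0],[0,2,0,0,2,-2,0,0,0,0,0,2,0,0,0,0,2,2,2,0,0,0,0,-2],[0,0,0,0,0,-2,2,0,2,0,0,0,0,0,0,0,2,2,2,0,0,2,-2,0],[2,2,0,0,2,-2,0,2,2,0,0,0,0,0,0,2,0,0,0,0,0,0,0,-2],[2,0,0,0,0,-2,2,2,0,0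,0,2,0,0,0,2,0,0,0,0,0,2,-2,0],[0,2,0,0,2,-2,2,0,0,2,0,2,0,0,0,2,0,0,0,0,-2,0,0,0],[0,0,0,0,0,-2,0,0,2,2,0,0,0,0,0,2,0,0,0,0,2,2,2,-2],[0,2,2,0,0,-2,0,0,0,0,0,2,0,0,0,2,0,0,0,2,0,0,2,-2],[0,0,2,0,2,-2,2,0,2,0,0,0,0,0,0,2,0,0,0,2,0,-2,0,0],[0,0,2,0,0,-2,2,0,0,2,2,0,0,0,0,2,0,0,2,0,0,0,-2,0],[0,0,0,0,2,-2,0,0,0,0,2,0,0,0,0,2,0,0,2,2,2,0,0,-2],[0,0,0,0,2,-2,0,0,2,0,2,2,0,0,0,2,0,2,0,0,0,0,-2,0],[0,2,0,0,0,-2,2,0,0,0,2,0,0,0,0,2,0,2,0,0,0,2,0,-2],[2,0,2,0,0,-2,0,2,0,0,2,0,0,0,0,2,0,2,0,-2,0,0,0,0],[0,2,2,0,0,-2,0,0,2,0,0,0,0,0,0,2,0,2,2,0,-2,0,0,0],[0,0,0,0,0,-2,0,0,0,2,0,2,0,0,0,2,0,2,2,2,0,-2,0,0],[0,0,0,0,0,-2,0,2,0,2,2,2,0,0,0,2,2,0,0,0,0,0,0,-2],[2,0,0,0,0,-2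,2,0,2,0,2,0,0,0,0,2,2,0,0,0,-2,0,0,0],[2,0,2,0,0,-2,0,0,0,0,0,0,0,0,0,2,2,0,2,0,0,2,0,-2],[0,2,0,0,0,-2,2,2,0,0,0,0,0,0,0,2,2,0,2,-2,0,0,0,0],[2,2,0,0,0,-2,0,0,0,2,0,0,0,0,0,2,2,2,0,0,0,0,-2,0],[0,0,0,0,2,-2,0,2,0,0,0,0,0,0,0,2,2,2,0,0,2,-2,0,0],[2,2,0,0,0,-2,2,2,0,2,2,0,0,0,-2,0,0,0,0,0,0,0,0,0],[0,2,0,0,0,-2,0,0,2,0,2,2,0,0,2,0,0,0,0,0,2,0,0,-2],[0,0,0,0,2,-2,2,0,0,0,2,0,0,0,2,0,0,0,0,0,2,2,-2,0],[0,0,2,0,0,-2,0,0,0,2,2,0,0,0,2,0,0,0,0,2,0,2,0,-2],[0,0,2,0,2,-2,0,0,2,0,0,0,0,0,2,0,0,0,2,0,0,0,2,-2],[0,2,2,0,0,-2,2,0,0,0,0,2,0,0,2,0,0,0,2,0,0,-2,0,0],[2,0,0,0,0,-2,0,2,0,0,0,2,0,0,2,0,0,0,2,2,0,0,0,-2],[0,0,0,0,0,-2,2,0,2,2,0,0,0,0,2,0,0,0,2,2,-2,0,0,0],[0,0,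0,0,0,-2,2,0,0,2,0,2,0,0,2,0,0,2,0,0,0,0,2,-2],[0,2,0,0,2,-2,0,0,2,2,0,0,0,0,2,0,0,2,0,0,0,-2,0,0],[2,0,0,0,0,-2,0,2,2,0,0,0,0,0,2,0,0,2,0,0,2,0,-2,0],[0,0,2,0,2,-2,0,0,0,0,0,2,0,0,2,0,0,2,0,2,-2,0,0,0],[0,2,0,0,0,-2,0,0,0,0,2,0,0,0,2,0,0,2,2,2,0,0,-2,0],[0,0,0,0,2,-2,2,2,2,0,0,2,0,0,2,0,-2,0,0,0,0,0,0,0],[0,2,0,0,0,-2,0,2,0,0,0,0,0,0,2,0,2,0,0,0,0,2,2,-2],[2,0,0,0,2,-2,0,0,0,2,0,0,0,0,2,0,2,0,0,0,2,0,0,-2],[2,0,2,0,0,-2,2,0,0,0,0,0,0,0,2,0,2,0,0,2,0,0,-2,0],[2,0,0,0,0,-2,0,0,0,0,2,2,0,0,2,0,2,2,0,0,0,-2,0,0],[0,0,2,0,0,-2,0,2,0,2,0,0,0,0,2,0,2,2,-2,0,0,0,0,0],[2,0,2,0,0,-2,0,0,2,2,0,2,0,0,2,-2,0,0,0,0,0,0,0,0],[0,0,2,0,0,-2,2,2,0,0,0,0,0,0,2,2,0,0,0,0,2,0,0,-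2],[0,0,0,0,2,-2,0,2,0,2,0,0,0,0,2,2,0,0,0,2,0,0,-2,0],[2,2,0,0,0,-2,0,0,0,0,0,0,0,0,2,2,0,0,0,2,2,-2,0,0],[0,0,0,0,0,-2,0,2,2,0,2,0,0,0,2,2,0,0,2,0,0,-2,0,0],[2,0,0,0,2,-2,2,0,0,0,0,0,0,0,2,2,0,2,-2,0,0,0,0,0],[0,2,2,0,2,-2,0,0,0,0,2,0,0,0,2,2,-2,0,0,0,0,0,0,0],[0,0,0,0,0,-2,0,0,0,0,0,2,0,0,2,2,2,0,2,0,2,0,-2,0],[0,0,0,0,0,-2,0,0,2,0,0,0,0,0,2,2,2,2,0,2,0,0,0,-2],[2,0,0,0,2,-2,2,0,2,2,0,0,0,2,0,0,0,0,0,0,0,0,-2,0],[2,2,0,0,0,-2,0,0,0,2,0,2,0,2,0,0,0,0,0,0,0,2,0,-2],[0,0,0,0,2,-2,0,2,0,0,0,2,0,2,0,0,0,0,0,0,2,0,2,-2],[0,2,0,0,0,-2,2,2,2,0,0,0,0,2,0,0,0,0,0,0,2,-2,0,0],[0,0,2,0,0,-2,2,2,0,2,0,2,0,2,0,0,0,0,0,-2,0,0,0,0],[2,0,2,0,0,-2,0,0,2,0,0,0,0,2,0,0,0,0,0,2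,2,0,0,-2],[0,2,2,0,0,-2,0,2,0,0,2,0,0,2,0,0,0,0,2,0,0,0,0,-2],[2,0,0,0,0,-2,2,0,0,0,2,0,0,2,0,0,0,0,2,2,0,-2,0,0],[0,0,0,0,0,-2,0,2,0,2,2,0,0,2,0,0,0,2,0,0,0,2,-2,0],[2,2,0,0,2,-2,0,0,0,0,2,0,0,2,0,0,0,2,0,0,-2,0,0,0],[2,0,2,0,0,-2,0,0,0,0,0,2,0,2,0,0,0,2,2,0,0,0,-2,0],[0,0,0,0,2,-2,0,2,2,0,0,0,0,2,0,0,0,2,2,-2,0,0,0,0],[0,2,0,0,0,-2,2,0,0,0,2,2,0,2,0,0,2,0,0,0,0,0,-2,0],[0,0,0,0,2,-2,0,0,2,0,2,0,0,2,0,0,2,0,0,0,0,2,0,-2],[0,0,2,0,2,-2,2,0,0,0,0,0,0,2,0,0,2,0,2,0,-2,0,0,0],[0,0,0,0,0,-2,0,0,0,2,0,0,0,2,0,0,2,0,2,2,0,0,2,-2],[2,0,0,0,0,-2,2,2,0,0,0,0,0,2,0,0,2,2,0,0,0,0,0,-2],[0,0,0,0,0,-2,0,0,2,2,0,2,0,2,0,0,2,2,0,0,-2,0,0,0],[0,2,2,0,0,-2,0,0,0,0,0,0,0,2,0,0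,2,2,0,2,0,-2,0,0],[0,0,2,0,0,-2,0,0,0,0,2,2,0,2,0,2,0,0,0,0,2,-2,0,0],[0,2,0,0,0,-2,0,0,2,2,2,0,0,2,0,2,0,0,0,-2,0,0,0,0],[0,0,0,0,0,-2,2,0,2,0,0,2,0,2,0,2,0,0,2,0,0,0,0,-2],[0,2,0,0,2,-2,0,0,0,0,0,0,0,2,0,2,0,0,2,0,0,2,-2,0],[2,0,0,0,0,-2,0,2,0,2,0,0,0,2,0,2,0,0,2,0,-2,0,0,0],[0,0,2,0,2,-2,0,0,0,2,0,0,0,2,0,2,0,2,0,0,0,0,0,-2],[0,0,0,0,0,-2,2,0,0,0,0,0,0,2,0,2,0,2,0,2,2,0,-2,0],[0,0,2,0,0,-2,0,2,2,0,0,0,0,2,0,2,2,0,0,0,0,0,-2,0],[2,0,0,0,2,-2,0,0,0,0,0,2,0,2,0,2,2,0,0,-2,0,0,0,0],[2,0,2,0,2,-2,0,2,0,0,0,0,0,2,2,0,0,0,0,0,0,-2,0,0],[0,2,2,0,0,-2,0,0,0,2,0,0,0,2,2,0,0,0,0,0,2,0,-2,0],[0,2,0,0,2,-2,2,0,0,0,0,0,0,2,2,0,0,0,0,2,0,0,0,-2],[0,0,0,0,0,-2,0,0,2,0,0,2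,0,2,2,0,0,0,0,2,0,2,-2,0],[0,0,0,0,2,-2,0,0,0,2,2,2,0,2,2,0,0,0,-2,0,0,0,0,0],[0,0,2,0,0,-2,2,0,2,0,2,0,0,2,2,0,0,-2,0,0,0,0,0,0],[0,0,0,0,0,-2,0,0,0,0,0,0,0,2,2,0,0,2,2,0,2,2,0,-2],[0,0,0,0,0,-2,0,2,0,0,2,0,0,2,2,0,2,0,0,2,-2,0,0,0],[2,2,0,0,0,-2,0,0,2,0,0,0,0,2,2,0,2,0,-2,0,0,0,0,0],[2,0,0,0,0,-2,0,0,0,0,2,0,0,2,2,2,0,0,0,0,0,0,2,-2],[0,2,0,0,0,-2,0,2,0,0,0,2,0,2,2,2,0,-2,0,0,0,0,0,0],[0,0,0,0,0,-2,2,0,0,2,0,0,0,2,2,2,2,0,0,0,0,-2,0,0],[2,0,2,0,0,-2,0,2,0,2,0,0,2,0,0,0,0,0,0,0,0,0,2,-2],[0,0,2,0,0,-2,2,0,2,0,0,2,2,0,0,0,0,0,0,0,2,0,-2,0],[0,2,2,0,2,-2,0,0,0,0,0,0,2,0,0,0,0,0,0,0,2,2,0,-2],[0,0,0,0,2,-2,0,0,2,2,0,2,2,0,0,0,0,0,0,2,0,0,0,-2],[0,2,0,0,0,-2,2,0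,0,2,0,0,2,0,0,0,0,0,0,2,0,2,-2,0],[2,0,0,0,2,-2,2,2,0,0,0,0,2,0,0,0,0,0,0,2,-2,0,0,0],[0,2,0,0,2,-2,2,0,2,0,2,0,2,0,0,0,0,0,-2,0,0,0,0,0],[0,0,0,0,0,-2,0,0,0,0,2,2,2,0,0,0,0,0,2,0,0,2,2,-2],[0,2,2,0,0,-2,0,0,0,2,2,2,2,0,0,0,0,-2,0,0,0,0,0,0],[0,0,0,0,0,-2,0,0,2,0,2,0,2,0,0,0,0,2,0,2,2,-2,0,0],[2,2,0,0,0,-2,0,2,0,0,0,0,2,0,0,0,0,2,2,0,0,-2,0,0],[0,0,0,0,2,-2,0,0,0,2,0,0,2,0,0,0,0,2,2,0,2,0,-2,0],[0,0,2,0,0,-2,2,0,0,0,0,0,2,0,0,0,0,2,2,2,0,0,0,-2],[0,0,2,0,0,-2,2,2,0,0,2,0,2,0,0,0,2,0,0,0,0,-2,0,0],[2,2,0,0,0,-2,0,0,0,0,2,0,2,0,0,0,2,0,0,2,0,0,0,-2],[2,0,0,0,0,-2,2,0,0,2,0,2,2,0,0,0,2,0,-2,0,0,0,0,0],[0,0,0,0,0,-2,0,2,2,0,0,0,2,0,0,0,2,0,2,0,2,0,0,-2],[2,0,2,0,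2,-2,0,0,2,0,0,0,2,0,0,0,2,-2,0,0,0,0,0,0],[0,0,0,0,0,-2,0,2,0,0,0,2,2,0,0,0,2,2,0,2,0,0,-2,0],[2,0,0,0,2,-2,0,0,0,2,2,0,2,0,0,2,0,0,0,0,0,-2,0,0],[0,2,0,0,0,-2,0,2,0,0,2,0,2,0,0,2,0,0,0,0,2,0,-2,0],[0,0,2,0,2,-2,0,2,0,0,0,2,2,0,0,2,0,0,-2,0,0,0,0,0],[2,0,0,0,0,-2,0,0,2,0,0,0,2,0,0,2,0,0,2,2,0,0,-2,0],[0,0,0,0,0,-2,2,2,2,2,0,0,2,0,0,2,0,-2,0,0,0,0,0,0],[2,0,0,0,0,-2,0,0,0,0,0,2,2,0,0,2,0,2,0,0,2,0,0,-2],[0,0,0,0,2,-2,2,0,0,0,0,0,2,0,0,2,2,0,0,0,0,0,2,-2],[0,2,0,0,0,-2,0,0,2,0,0,2,2,0,0,2,2,0,0,0,0,-2,0,0],[0,0,2,0,0,-2,0,0,0,2,0,0,2,0,0,2,2,0,0,2,-2,0,0,0],[2,2,0,0,2,-2,0,0,0,0,0,2,2,0,2,0,0,0,0,0,0,0,-2,0],[2,0,0,0,0,-2,2,0,2,0,0,0,2,0,2,0,0,0,0,0,0,2,0,-2],[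0,0,0,0,0,-2,0,2,0,2,0,2,2,0,2,0,0,0,0,0,2,-2,0,0],[0,2,2,0,0,-2,0,2,2,0,0,0,2,0,2,0,0,0,0,-2,0,0,0,0],[2,0,2,0,0,-2,0,0,0,0,2,0,2,0,2,0,0,0,2,0,-2,0,0,0],[0,0,0,0,2,-2,0,2,0,0,2,0,2,0,2,0,0,2,0,0,0,0,0,-2],[0,0,0,0,0,-2,0,0,2,2,2,0,2,0,2,0,2,0,0,0,0,0,-2,0],[0,0,0,0,2,-2,0,0,0,0,0,0,2,0,2,0,2,0,2,2,0,-2,0,0],[0,2,0,0,0,-2,2,0,0,0,0,0,2,0,2,0,2,2,0,0,-2,0,0,0],[0,0,0,0,0,-2,2,0,0,0,2,2,2,0,2,2,0,0,0,-2,0,0,0,0],[0,2,0,0,0,-2,0,0,0,2,0,0,2,0,2,2,0,0,2,0,0,0,0,-2],[0,0,2,0,0,-2,0,0,0,0,0,0,2,0,2,2,0,2,0,0,0,2,-2,0],[2,0,0,0,0,-2,0,2,2,0,2,2,2,-2,0,0,0,0,0,0,0,0,0,0],[0,0,0,0,0,-2,2,0,0,2,2,0,2,2,0,0,0,0,0,0,2,0,0,-2],[0,0,2,0,2,-2,0,0,0,0,2,0,2,2,0,0,0,0,0,2,0,0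,-2,0],[0,0,2,0,0,-2,0,0,2,2,0,0,2,2,0,0,0,0,2,0,0,-2,0,0],[0,2,0,0,0,-2,0,0,0,0,0,2,2,2,0,0,0,0,2,2,-2,0,0,0],[0,2,0,0,0,-2,0,0,2,0,0,0,2,2,0,0,0,2,0,0,0,0,2,-2],[0,0,0,0,2,-2,2,0,0,0,0,2,2,2,0,0,0,2,0,0,0,-2,0,0],[0,2,0,0,2,-2,0,2,0,2,0,0,2,2,0,0,-2,0,0,0,0,0,0,0],[2,0,0,0,0,-2,0,0,0,0,0,0,2,2,0,0,2,0,0,0,2,2,-2,0],[2,2,2,0,0,-2,2,0,0,0,0,0,2,2,0,-2,0,0,0,0,0,0,0,0],[0,0,0,0,0,-2,0,2,0,0,0,0,2,2,0,2,0,0,0,2,0,2,0,-2],[0,0,0,0,0,-2,0,0,0,0,2,0,2,2,0,2,2,2,-2,0,0,0,0,0],[0,0,0,0,0,-2,2,2,0,0,0,0,2,2,2,0,0,0,2,0,0,0,-2,0],[2,0,0,0,0,-2,0,0,0,2,0,0,2,2,2,0,0,2,0,-2,0,0,0,0],[0,0,2,0,0,-2,0,0,0,0,0,2,2,2,2,0,2,0,0,0,0,0,0,-2],[0,0,0,0,2,-2,0,0,2,0,0,0,2,2,2,2,0,0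,0,0,-2,0,0,0]],[[0,2,0,0,2,0,2,0,2,0,0,2,0,0,0,0,0,0,0,0,0,2,2,2],[2,0,0,0,0,0,2,2,2,2,0,2,0,0,0,0,0,0,0,0,2,0,0,2],[2,2,0,0,2,0,0,2,0,2,0,0,0,0,0,0,0,0,0,0,2,2,2,0],[2,0,2,0,2,0,0,2,2,0,0,2,0,0,0,0,0,0,0,2,0,0,2,0],[2,2,2,0,0,0,2,2,0,0,0,0,0,0,0,0,0,0,0,2,0,2,0,2],[0,0,2,0,2,0,2,0,0,2,0,0,0,0,0,0,0,0,0,2,2,0,2,2],[0,2,2,0,0,0,0,0,2,2,0,2,0,0,0,0,0,0,0,2,2,2,0,0],[2,0,2,0,0,0,0,2,0,2,2,2,0,0,0,0,0,0,2,0,0,2,0,0],[0,2,2,0,2,0,0,0,0,0,2,2,0,0,0,0,0,0,2,0,2,0,2,0],[0,0,2,0,0,0,2,0,2,0,2,0,0,0,0,0,0,0,2,0,2,2,0,2],[0,2,0,0,0,0,2,0,0,2,2,2,0,0,0,0,0,0,2,2,0,0,0,2],[0,0,0,0,2,0,0,0,2,2,2,0,0,0,0,0,0,0,2,2,0,2,2,0],[2,2,0,0,0,0,0,2,2,0,2,0,0,0,0,0,0,0,2,2,2,0,0,0],[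2,2,0,0,0,0,0,2,0,0,2,2,0,0,0,0,0,2,0,0,0,0,2,2],[2,0,0,0,2,0,2,2,2,0,2,0,0,0,0,0,0,2,0,0,0,2,0,0],[0,2,0,0,0,0,2,0,2,2,2,0,0,0,0,0,0,2,0,0,2,0,2,0],[0,0,0,0,2,0,0,0,0,2,2,2,0,0,0,0,0,2,0,0,2,2,0,2],[0,2,2,0,2,0,0,0,2,0,2,0,0,0,0,0,0,2,0,2,0,0,0,2],[0,0,2,0,0,0,2,0,0,0,2,2,0,0,0,0,0,2,0,2,0,2,2,0],[0,0,2,0,2,0,2,0,2,2,0,2,0,0,0,0,0,2,2,0,0,0,0,0],[0,2,2,0,0,0,0,0,0,2,0,0,0,0,0,0,0,2,2,0,0,2,2,2],[2,0,2,0,2,0,0,2,0,0,0,0,0,0,0,0,0,2,2,0,2,0,0,2],[2,0,0,0,0,0,2,2,0,2,0,0,0,0,0,0,0,2,2,2,0,0,2,0],[0,0,0,0,0,0,0,0,2,0,0,2,0,0,0,0,0,2,2,2,2,0,2,2],[0,2,0,0,2,0,2,0,0,0,0,0,0,0,0,0,0,2,2,2,2,2,0,0],[2,2,0,0,2,0,0,0,2,2,2,2,0,0,0,0,2,0,0,0,0,0,0,0],[2,0,0,0,0,0,2,0,0,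2,2,0,0,0,0,0,2,0,0,0,0,2,2,2],[0,2,0,0,2,0,2,2,0,0,2,0,0,0,0,0,2,0,0,0,2,0,0,2],[0,0,0,0,0,0,0,2,2,0,2,2,0,0,0,0,2,0,0,0,2,2,2,0],[0,2,2,0,0,0,0,2,0,2,2,0,0,0,0,0,2,0,0,2,0,0,2,0],[2,0,2,0,2,0,0,0,0,0,2,0,0,0,0,0,2,0,0,2,2,2,0,0],[0,0,2,0,0,0,2,2,0,0,0,2,0,0,0,0,2,0,2,0,0,0,2,2],[0,2,2,0,2,0,0,2,2,0,0,0,0,0,0,0,2,0,2,0,0,2,0,0],[2,0,2,0,0,0,0,0,2,2,0,0,0,0,0,0,2,0,2,0,2,0,2,0],[2,0,0,0,2,0,2,0,2,0,0,0,0,0,0,0,2,0,2,2,0,0,0,2],[2,2,0,0,0,0,0,0,0,0,0,2,0,0,0,0,2,0,2,2,0,2,2,0],[0,0,0,0,2,0,0,2,0,2,0,2,0,0,0,0,2,0,2,2,2,0,0,0],[0,0,0,0,2,0,0,2,2,2,0,0,0,0,0,0,2,2,0,0,0,0,2,2],[0,2,0,0,0,0,2,2,0,2,0,2,0,0,0,0,2,2,0,0,0,2,0,0],[2,0,0,0,2,0,2,0,0,0,0,2,0,0,0,0,2,2,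0,0,2,0,2,0],[2,2,0,0,0,0,0,0,2,0,0,0,0,0,0,0,2,2,0,0,2,2,0,2],[2,0,2,0,0,0,0,0,0,2,0,2,0,0,0,0,2,2,0,2,0,0,0,2],[0,0,2,0,0,0,2,2,2,0,0,0,0,0,0,0,2,2,0,2,2,0,0,0],[2,2,2,0,0,0,2,0,0,0,2,0,0,0,0,0,2,2,2,0,0,0,0,0],[0,0,0,0,0,0,0,2,0,0,2,0,0,0,0,0,2,2,2,2,0,2,0,2],[0,2,2,0,0,0,2,2,2,0,2,2,0,0,0,2,0,0,0,0,0,0,0,0],[0,0,2,0,2,0,0,2,0,0,2,0,0,0,0,2,0,0,0,0,0,2,2,2],[2,2,2,0,0,0,0,0,0,2,2,0,0,0,0,2,0,0,0,0,2,0,0,2],[2,2,0,0,2,0,2,0,0,0,2,0,0,0,0,2,0,0,0,2,0,0,2,0],[2,0,0,0,0,0,0,0,2,0,2,2,0,0,0,2,0,0,0,2,0,2,0,2],[0,0,0,0,0,0,2,2,0,2,2,0,0,0,0,2,0,0,0,2,2,2,0,0],[2,0,0,0,2,0,0,0,0,2,0,2,0,0,0,2,0,0,2,0,0,0,2,2],[2,2,0,0,0,0,2,0,2,2,0,0,0,0,0,2,0,0,2,0,0,2,0,0],[0,0,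0,0,2,0,2,2,2,0,0,0,0,0,0,2,0,0,2,0,2,0,2,0],[0,2,0,0,0,0,0,2,0,0,0,2,0,0,0,2,0,0,2,0,2,2,0,2],[0,0,2,0,0,0,0,2,2,2,0,0,0,0,0,2,0,0,2,2,0,0,0,2],[2,0,2,0,0,0,2,0,0,0,0,2,0,0,0,2,0,0,2,2,2,0,0,0],[2,0,2,0,0,0,2,0,2,0,0,0,0,0,0,2,0,2,0,0,0,0,2,2],[2,2,2,0,2,0,0,0,0,0,0,2,0,0,0,2,0,2,0,0,0,2,0,0],[0,0,2,0,0,0,0,2,0,2,0,2,0,0,0,2,0,2,0,0,2,0,2,0],[0,0,0,0,2,0,2,2,0,0,0,2,0,0,0,2,0,2,0,2,0,0,0,2],[0,2,0,0,0,0,0,2,2,0,0,0,0,0,0,2,0,2,0,2,0,2,2,0],[2,0,0,0,2,0,0,0,2,2,0,0,0,0,0,2,0,2,0,2,2,0,0,0],[0,2,0,0,2,0,0,2,0,2,2,0,0,0,0,2,0,2,2,0,0,0,0,0],[2,0,0,0,0,0,0,0,0,0,2,0,0,0,0,2,0,2,2,0,2,2,2,0],[2,0,2,0,2,0,2,2,0,2,0,0,0,0,0,2,2,0,0,0,0,0,0,0],[0,0,2,0,2,0,0,0,2,0,0,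2,0,0,0,2,2,0,0,0,2,0,0,2],[0,2,2,0,0,0,2,0,0,0,0,0,0,0,0,2,2,0,0,0,2,2,2,0],[0,0,0,0,0,0,2,0,2,2,0,2,0,0,0,2,2,0,0,2,0,0,2,0],[0,2,0,0,2,0,0,0,0,2,0,0,0,0,0,2,2,0,0,2,0,2,0,2],[2,0,0,0,0,0,0,2,0,0,0,0,0,0,0,2,2,0,0,2,2,0,2,2],[0,2,0,0,0,0,0,0,2,0,2,0,0,0,0,2,2,0,2,0,0,0,2,2],[0,0,0,0,2,0,2,0,0,0,2,2,0,0,0,2,2,0,2,0,0,2,0,0],[0,0,2,0,0,0,0,0,2,2,2,0,0,0,0,2,2,2,0,0,0,2,0,0],[0,2,0,0,0,0,0,0,0,0,2,2,0,0,0,2,2,2,0,2,2,0,0,0],[2,0,0,0,0,0,0,2,2,0,0,2,0,0,0,2,2,2,2,0,0,0,0,0],[0,0,0,0,0,0,2,0,0,2,0,0,0,0,0,2,2,2,2,0,2,0,0,2],[0,0,2,0,2,0,0,0,0,0,0,0,0,0,0,2,2,2,2,2,0,0,2,0],[0,2,2,0,2,0,0,2,0,2,0,2,0,0,2,0,0,0,0,0,0,0,0,2],[0,0,2,0,0,0,2,2,2,2,0,0,0,0,2,0,0,0,0,0,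0,2,2,0],[2,2,2,0,2,0,2,0,2,0,0,0,0,0,2,0,0,0,0,0,2,0,0,0],[2,0,2,0,0,0,0,0,0,0,0,2,0,0,2,0,0,0,0,0,2,2,2,2],[2,2,0,0,0,0,0,0,2,2,0,0,0,0,2,0,0,0,0,2,0,0,2,2],[2,0,0,0,2,0,2,0,0,2,0,2,0,0,2,0,0,0,0,2,0,2,0,0],[0,2,0,0,0,0,2,2,0,0,0,2,0,0,2,0,0,0,0,2,2,0,2,0],[0,0,0,0,2,0,0,2,2,0,0,0,0,0,2,0,0,0,0,2,2,2,0,2],[2,0,0,0,0,0,2,0,2,0,2,2,0,0,2,0,0,0,2,0,0,0,2,0],[2,2,0,0,2,0,0,0,0,0,2,0,0,0,2,0,0,0,2,0,0,2,0,2],[0,0,0,0,0,0,0,2,0,2,2,0,0,0,2,0,0,0,2,0,2,0,2,2],[0,0,2,0,2,0,2,2,0,0,2,0,0,0,2,0,0,0,2,2,0,0,0,0],[2,0,2,0,2,0,0,0,0,2,2,0,0,0,2,0,0,2,0,0,0,0,2,0],[0,2,2,0,0,0,0,2,0,0,2,0,0,0,2,0,0,2,0,0,2,2,0,0],[0,0,0,0,0,0,0,2,2,2,2,2,0,0,2,0,0,2,0,2,0,0,0,0],[2,0,0,0,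0,0,2,0,0,0,2,0,0,0,2,0,0,2,0,2,2,0,0,2],[0,2,0,0,0,0,2,2,2,0,0,0,0,0,2,0,0,2,2,0,0,0,0,2],[0,0,0,0,2,0,0,2,0,0,0,2,0,0,2,0,0,2,2,0,0,2,2,0],[2,2,0,0,0,0,0,0,0,2,0,2,0,0,2,0,0,2,2,0,2,0,0,0],[2,0,2,0,0,0,0,0,2,0,0,0,0,0,2,0,0,2,2,2,0,2,0,0],[2,0,2,0,0,0,0,2,2,0,2,0,0,0,2,0,2,0,0,0,0,0,0,2],[0,0,2,0,0,0,2,0,0,2,2,2,0,0,2,0,2,0,0,0,2,0,0,0],[0,0,0,0,2,0,0,0,0,0,2,2,0,0,2,0,2,0,0,2,0,0,2,2],[0,2,0,0,0,0,2,0,2,0,2,0,0,0,2,0,2,0,0,2,0,2,0,0],[0,2,0,0,2,0,2,0,0,2,0,0,0,0,2,0,2,0,2,0,0,0,2,0],[0,0,0,0,0,0,0,0,2,2,0,2,0,0,2,0,2,0,2,0,0,2,0,2],[2,0,0,0,0,0,2,2,0,0,0,0,0,0,2,0,2,0,2,0,2,2,0,0],[0,2,2,0,0,0,0,0,0,0,0,0,0,0,2,0,2,0,2,2,2,0,0,2],[0,2,2,0,0,0,0,0,2,0,0,2,0,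0,2,0,2,2,0,0,0,0,2,0],[0,0,2,0,2,0,2,0,0,0,0,0,0,0,2,0,2,2,0,0,0,2,0,2],[2,2,0,0,2,0,0,2,0,0,0,0,0,0,2,0,2,2,0,2,0,0,0,0],[0,0,0,0,0,0,0,0,0,2,0,0,0,0,2,0,2,2,0,2,2,2,2,0],[0,0,0,0,2,0,0,0,2,0,2,0,0,0,2,0,2,2,2,0,2,0,0,0],[0,0,0,0,2,0,2,0,2,2,2,0,0,0,2,2,0,0,0,0,0,0,0,2],[0,2,0,0,0,0,0,0,0,2,2,2,0,0,2,2,0,0,0,0,0,2,2,0],[2,0,0,0,2,0,0,2,0,0,2,2,0,0,2,2,0,0,0,0,2,0,0,0],[0,0,2,0,0,0,0,0,2,0,2,0,0,0,2,2,0,0,0,2,2,0,2,0],[2,2,2,0,0,0,0,2,0,0,0,0,0,0,2,2,0,0,2,0,0,0,2,0],[0,0,2,0,2,0,0,0,0,2,0,0,0,0,2,2,0,0,2,0,2,2,0,0],[0,2,0,0,2,0,0,0,2,0,0,2,0,0,2,2,0,0,2,2,0,0,0,0],[0,0,0,0,0,0,2,0,0,0,0,0,0,0,2,2,0,0,2,2,0,2,2,2],[2,0,0,0,0,0,0,2,0,2,0,0,0,0,2,2,0,2,0,0,0,2,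0,2],[0,2,0,0,2,0,0,0,0,0,0,0,0,0,2,2,0,2,0,0,2,0,2,2],[0,0,0,0,0,0,2,0,2,0,0,2,0,0,2,2,0,2,0,0,2,2,0,0],[0,2,2,0,0,0,2,0,0,2,0,0,0,0,2,2,0,2,0,2,0,0,0,0],[0,0,2,0,0,0,0,0,0,0,2,2,0,0,2,2,0,2,2,0,0,0,0,2],[2,2,0,0,0,0,2,0,0,0,0,2,0,0,2,2,2,0,0,0,0,0,0,2],[2,0,0,0,2,0,0,0,2,0,0,0,0,0,2,2,2,0,0,0,0,2,2,0],[0,2,0,0,0,0,0,2,2,2,0,0,0,0,2,2,2,0,0,0,2,0,0,0],[0,0,2,0,0,0,0,2,0,0,0,2,0,0,2,2,2,0,0,2,0,2,0,0],[2,0,0,0,0,0,0,0,0,2,2,0,0,0,2,2,2,0,2,2,0,0,0,0],[0,0,0,0,0,0,2,2,0,0,2,0,0,0,2,2,2,2,0,0,0,0,2,0],[0,0,2,0,0,0,0,0,2,2,2,2,0,2,0,0,0,0,0,0,0,0,2,2],[0,2,2,0,2,0,2,0,0,2,2,0,0,2,0,0,0,0,0,0,0,2,0,0],[2,0,2,0,0,0,2,2,0,0,2,0,0,2,0,0,0,0,0,0,2,0,2,0],[2,0,0,0,2,0,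0,2,0,2,2,0,0,2,0,0,0,0,0,2,0,0,0,2],[0,0,0,0,2,0,2,0,2,0,2,2,0,2,0,0,0,0,0,2,2,0,0,0],[0,2,0,0,0,0,0,0,0,0,2,0,0,2,0,0,0,0,0,2,2,2,2,2],[2,2,0,0,2,0,2,2,0,0,0,2,0,2,0,0,0,0,2,0,0,0,0,0],[2,0,0,0,0,0,0,2,2,0,0,0,0,2,0,0,0,0,2,0,0,2,2,2],[0,2,0,0,2,0,0,0,2,2,0,0,0,2,0,0,0,0,2,0,2,0,0,2],[0,0,0,0,0,0,2,0,0,2,0,2,0,2,0,0,0,0,2,0,2,2,2,0],[0,2,2,0,0,0,2,0,2,0,0,0,0,2,0,0,0,0,2,2,0,0,2,0],[0,0,2,0,2,0,0,0,0,0,0,2,0,2,0,0,0,0,2,2,0,2,0,2],[2,2,2,0,0,0,0,2,2,2,0,0,0,2,0,0,0,2,0,0,0,0,0,0],[0,2,2,0,0,0,2,0,0,0,0,2,0,2,0,0,0,2,0,0,2,0,0,2],[0,0,2,0,2,0,0,0,2,0,0,0,0,2,0,0,0,2,0,0,2,2,2,0],[0,2,0,0,2,0,0,0,0,2,0,2,0,2,0,0,0,2,0,2,0,0,2,0],[0,0,0,0,0,0,2,0,2,2,0,0,0,2,0,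0,0,2,0,2,0,2,0,2],[2,0,0,0,0,0,0,2,0,0,0,2,0,2,0,0,0,2,0,2,2,2,0,0],[0,0,0,0,2,0,2,0,0,0,2,0,0,2,0,0,0,2,2,0,0,0,2,2],[0,2,0,0,0,0,0,0,2,0,2,2,0,2,0,0,0,2,2,0,0,2,0,0],[0,0,2,0,0,0,0,0,0,2,2,0,0,2,0,0,0,2,2,2,2,0,0,0],[2,2,2,0,2,0,0,0,0,0,0,0,0,2,0,0,2,0,0,0,0,0,2,2],[2,0,2,0,0,0,2,0,2,0,0,2,0,2,0,0,2,0,0,0,0,2,0,0],[0,0,2,0,0,0,0,2,0,2,0,0,0,2,0,0,2,0,0,0,2,2,0,2],[0,2,0,0,0,0,0,2,2,0,0,2,0,2,0,0,2,0,0,2,0,0,0,2],[0,0,0,0,2,0,2,2,0,0,0,0,0,2,0,0,2,0,0,2,0,2,2,0],[2,2,0,0,0,0,2,0,0,2,0,0,0,2,0,0,2,0,0,2,2,0,0,0],[0,0,0,0,0,0,2,2,2,2,2,0,0,2,0,0,2,0,2,0,0,0,0,0],[2,0,0,0,0,0,0,0,0,0,2,2,0,2,0,0,2,0,2,0,2,0,0,2],[0,0,2,0,2,0,0,2,0,0,2,2,0,2,0,0,2,2,0,0,0,0,0,0]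,[2,0,0,0,0,0,0,0,2,0,2,0,0,2,0,0,2,2,0,2,0,0,2,0],[2,0,0,0,2,0,0,0,0,2,0,0,0,2,0,0,2,2,2,0,0,2,0,0],[0,2,0,0,0,0,0,2,0,0,0,0,0,2,0,0,2,2,2,0,2,0,2,0],[0,2,0,0,0,0,2,2,0,2,0,0,0,2,0,2,0,0,0,0,0,0,2,2],[0,0,0,0,2,0,0,2,2,2,0,2,0,2,0,2,0,0,0,0,0,2,0,0],[2,2,0,0,0,0,0,0,2,0,0,2,0,2,0,2,0,0,0,0,2,0,2,0],[2,0,0,0,2,0,2,0,0,0,0,0,0,2,0,2,0,0,0,0,2,2,0,2],[2,0,2,0,0,0,0,0,0,2,0,0,0,2,0,2,0,0,0,2,0,2,2,0],[0,2,2,0,2,0,0,2,0,0,0,0,0,2,0,2,0,0,0,2,2,0,0,0],[2,0,2,0,2,0,0,0,2,0,2,0,0,2,0,2,0,0,2,0,0,0,0,0],[0,0,0,0,0,0,0,2,0,0,2,2,0,2,0,2,0,0,2,2,0,0,2,0],[2,0,0,0,0,0,2,0,0,2,2,2,0,2,0,2,0,2,0,0,0,0,0,0],[0,0,0,0,0,0,0,2,2,0,2,0,0,2,0,2,0,2,0,0,2,0,0,2],[0,0,2,0,0,0,2,2,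0,0,0,0,0,2,0,2,0,2,2,0,0,2,0,0],[2,2,0,0,0,0,0,0,0,0,0,0,0,2,0,2,0,2,2,2,0,0,0,2],[2,2,0,0,0,0,0,2,0,0,2,0,0,2,0,2,2,0,0,0,0,2,0,0],[0,0,0,0,2,0,0,0,0,2,2,0,0,2,0,2,2,0,0,0,2,0,2,0],[0,0,2,0,0,0,2,0,0,0,2,0,0,2,0,2,2,0,0,2,0,0,0,2],[0,2,2,0,0,0,0,0,0,2,0,2,0,2,0,2,2,0,2,0,0,0,0,0],[0,0,0,0,0,0,0,0,2,0,0,0,0,2,0,2,2,0,2,2,2,2,0,0],[0,2,0,0,2,0,2,0,2,0,0,0,0,2,0,2,2,2,0,0,0,0,0,0],[0,0,0,0,0,0,0,0,0,0,0,2,0,2,0,2,2,2,0,0,0,2,2,2],[0,2,0,0,2,0,0,2,2,0,2,0,0,2,2,0,0,0,0,0,0,0,2,0],[0,0,0,0,0,0,2,2,0,0,2,2,0,2,2,0,0,0,0,0,0,2,0,2],[2,0,0,0,0,0,0,0,2,2,2,0,0,2,2,0,0,0,0,0,2,2,0,0],[2,2,2,0,0,0,0,0,0,0,2,2,0,2,2,0,0,0,0,2,0,0,0,0],[2,0,2,0,0,0,2,0,0,2,0,0,0,2,2,0,0,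0,2,0,0,0,0,2],[0,0,2,0,0,0,0,2,2,0,0,2,0,2,2,0,0,0,2,0,2,0,0,0],[0,2,0,0,0,0,0,2,0,2,0,0,0,2,2,0,0,0,2,2,0,2,0,0],[2,0,0,0,2,0,0,0,0,0,0,0,0,2,2,0,0,0,2,2,2,0,2,0],[2,0,0,0,2,0,0,0,2,0,0,2,0,2,2,0,0,2,0,0,0,0,0,2],[2,2,0,0,0,0,2,0,0,0,0,0,0,2,2,0,0,2,0,0,0,2,2,0],[0,0,0,0,2,0,2,2,0,2,0,0,0,2,2,0,0,2,0,0,2,0,0,0],[0,0,2,0,0,0,0,2,0,0,0,0,0,2,2,0,0,2,0,2,0,0,2,2],[2,0,0,0,0,0,0,2,0,2,0,2,0,2,2,0,2,0,0,0,0,0,2,0],[0,0,0,0,0,0,2,0,2,0,0,0,0,2,2,0,2,0,0,0,2,0,2,2],[0,2,0,0,2,0,0,0,0,0,0,2,0,2,2,0,2,0,0,0,2,2,0,0],[0,0,2,0,2,0,0,0,2,2,0,0,0,2,2,0,2,0,0,2,0,0,0,0],[0,0,2,0,0,0,0,0,0,0,2,0,0,2,2,0,2,0,2,0,0,2,2,0],[0,2,0,0,0,0,0,0,0,2,2,0,0,2,2,0,2,2,0,0,0,0,0,2],[0,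0,0,0,0,0,2,0,0,0,0,2,0,2,2,0,2,2,2,2,0,0,0,0],[0,0,2,0,2,0,2,0,0,0,0,2,0,2,2,2,0,0,0,0,0,0,2,0],[0,2,2,0,0,0,0,0,2,0,0,0,0,2,2,2,0,0,0,0,0,2,0,2],[2,0,0,0,0,0,2,2,2,0,0,0,0,2,2,2,0,0,0,2,0,0,0,0],[0,0,0,0,0,0,0,0,0,2,0,2,0,2,2,2,0,0,0,2,2,0,0,2],[0,2,0,0,0,0,2,0,0,0,2,0,0,2,2,2,0,0,2,0,2,0,0,0],[0,0,0,0,2,0,0,0,0,0,2,0,0,2,2,2,0,2,0,2,0,2,0,0],[0,0,0,0,0,0,0,0,2,2,0,0,0,2,2,2,0,2,2,0,0,0,2,0],[0,0,0,0,2,0,0,2,0,0,0,0,0,2,2,2,2,0,2,0,0,0,0,2],[2,0,2,0,0,0,0,0,0,0,0,0,0,2,2,2,2,2,0,0,2,0,0,0],[0,0,0,0,2,0,2,2,0,2,2,2,2,0,0,0,0,0,0,0,0,0,2,0],[0,2,0,0,0,0,0,2,2,2,2,0,2,0,0,0,0,0,0,0,0,2,0,2],[2,0,0,0,2,0,0,0,2,0,2,0,2,0,0,0,0,0,0,0,2,0,2,2],[2,2,0,0,0,0,2,0,0,0,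2,2,2,0,0,0,0,0,0,0,2,2,0,0],[2,0,2,0,0,0,2,0,2,2,2,0,2,0,0,0,0,0,0,2,0,0,0,0],[0,0,2,0,0,0,0,2,0,0,2,2,2,0,0,0,0,0,0,2,2,0,0,2],[2,2,2,0,0,0,0,0,2,0,0,2,2,0,0,0,0,0,2,0,0,0,0,2],[2,0,2,0,2,0,2,0,0,0,0,0,2,0,0,0,0,0,2,0,0,2,2,0],[0,2,2,0,0,0,2,2,0,2,0,0,2,0,0,0,0,0,2,0,2,0,0,0],[0,2,0,0,2,0,0,2,0,0,0,0,2,0,0,0,0,0,2,2,0,0,2,2],[0,0,0,0,0,0,2,2,2,0,0,2,2,0,0,0,0,0,2,2,0,2,0,0],[2,0,0,0,0,0,0,0,0,2,0,0,2,0,0,0,0,0,2,2,2,2,0,2],[2,2,0,0,2,0,2,0,0,2,0,0,2,0,0,0,0,2,0,0,0,0,0,2],[2,0,0,0,0,0,0,0,2,2,0,2,2,0,0,0,0,2,0,0,0,2,2,0],[0,2,0,0,2,0,0,2,2,0,0,2,2,0,0,0,0,2,0,0,2,0,0,0],[0,0,0,0,0,0,2,2,0,0,0,0,2,0,0,0,0,2,0,0,2,2,2,2],[0,0,2,0,2,0,0,2,0,2,0,0,2,0,0,0,0,2,0,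2,0,2,0,0],[2,2,2,0,0,0,0,0,0,0,0,0,2,0,0,0,0,2,0,2,2,0,2,0],[0,0,2,0,0,0,0,2,2,0,2,0,2,0,0,0,0,2,2,0,0,0,2,0],[2,0,0,0,2,0,0,0,0,0,2,2,2,0,0,0,0,2,2,2,0,0,0,0],[2,2,0,0,0,0,2,2,2,0,0,0,2,0,0,0,2,0,0,0,0,0,2,0],[2,0,0,0,2,0,0,2,0,0,0,2,2,0,0,0,2,0,0,0,0,2,0,2],[0,2,0,0,0,0,0,0,0,2,0,2,2,0,0,0,2,0,0,0,2,0,2,2],[0,0,0,0,2,0,2,0,2,2,0,0,2,0,0,0,2,0,0,0,2,2,0,0],[0,2,2,0,2,0,2,0,0,0,0,2,2,0,0,0,2,0,0,2,0,0,0,0],[0,0,2,0,0,0,0,0,2,0,0,0,2,0,0,0,2,0,0,2,0,2,2,2],[0,0,2,0,2,0,0,0,0,2,2,0,2,0,0,0,2,0,2,0,0,0,0,2],[0,0,0,0,0,0,2,0,0,0,2,0,2,0,0,0,2,0,2,2,2,0,2,0],[0,0,0,0,0,0,2,0,2,0,2,2,2,0,0,0,2,2,0,0,0,0,0,2],[0,2,0,0,2,0,0,0,0,0,2,0,2,0,0,0,2,2,0,0,0,2,2,0],[2,0,0,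0,0,0,0,2,0,2,2,0,2,0,0,0,2,2,0,0,2,0,0,0],[0,0,2,0,0,0,0,0,0,0,0,2,2,0,0,0,2,2,2,0,2,2,0,0],[0,2,0,0,0,0,0,0,2,2,0,0,2,0,0,0,2,2,2,2,0,0,0,0],[0,2,2,0,2,0,0,0,2,2,0,0,2,0,0,2,0,0,0,0,0,0,2,0],[0,0,2,0,0,0,2,0,0,2,0,2,2,0,0,2,0,0,0,0,0,2,0,2],[2,0,2,0,0,0,0,2,2,0,0,0,2,0,0,2,0,0,0,0,2,2,0,0],[2,2,0,0,0,0,0,2,0,2,0,2,2,0,0,2,0,0,0,2,0,0,0,0],[0,2,0,0,0,0,2,0,2,0,0,0,2,0,0,2,0,0,0,2,2,0,0,2],[0,0,0,0,2,0,0,0,0,0,0,2,2,0,0,2,0,0,0,2,2,2,2,0],[2,0,0,0,0,0,2,2,0,0,2,0,2,0,0,2,0,0,2,0,0,0,0,2],[0,0,0,0,0,0,0,0,2,2,2,2,2,0,0,2,0,0,2,0,2,0,0,0],[0,2,2,0,0,0,0,0,0,0,2,0,2,0,0,2,0,0,2,2,0,2,0,0],[0,0,2,0,2,0,2,0,0,0,2,0,2,0,0,2,0,2,0,0,2,0,0,0],[0,0,0,0,0,0,0,0,0,2,2,0,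2,0,0,2,0,2,0,2,0,0,2,2],[0,2,0,0,0,0,2,0,0,0,0,2,2,0,0,2,0,2,2,0,0,0,2,0],[0,0,0,0,2,0,0,0,2,0,0,0,2,0,0,2,0,2,2,0,0,2,0,2],[2,0,2,0,0,0,0,0,0,0,2,2,2,0,0,2,2,0,0,0,0,0,2,0],[0,0,0,0,2,0,0,2,2,0,2,0,2,0,0,2,2,0,0,2,0,0,0,0],[0,0,0,0,0,0,0,2,0,2,0,0,2,0,0,2,2,0,2,0,0,2,2,0],[2,2,0,0,2,0,0,0,0,0,0,0,2,0,0,2,2,0,2,0,2,0,0,0],[0,2,2,0,0,0,0,2,0,0,0,0,2,0,0,2,2,2,0,0,0,0,0,2],[2,0,0,0,0,0,2,0,0,0,0,0,2,0,0,2,2,2,0,2,0,2,0,0],[0,2,2,0,0,0,2,0,0,0,2,0,2,0,2,0,0,0,0,0,0,0,2,2],[0,0,2,0,2,0,0,0,2,0,2,2,2,0,2,0,0,0,0,0,0,2,0,0],[2,0,0,0,0,0,0,2,0,0,2,0,2,0,2,0,0,0,0,2,0,2,2,0],[0,2,0,0,2,0,0,0,0,2,2,0,2,0,2,0,0,0,0,2,2,0,0,0],[2,0,0,0,2,0,0,2,2,2,0,0,2,0,2,0,0,0,2,0,0,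0,0,0],[0,0,0,0,2,0,2,0,0,0,0,2,2,0,2,0,0,0,2,0,2,0,0,2],[0,2,0,0,0,0,0,0,2,0,0,0,2,0,2,0,0,0,2,0,2,2,2,0],[0,0,2,0,0,0,0,0,0,2,0,2,2,0,2,0,0,0,2,2,0,0,2,0],[2,0,2,0,0,0,2,2,0,0,0,2,2,0,2,0,0,2,0,0,0,0,0,0],[0,0,2,0,0,0,0,0,2,2,0,0,2,0,2,0,0,2,0,0,2,0,0,2],[0,0,0,0,2,0,2,0,2,0,0,0,2,0,2,0,0,2,0,2,0,0,2,0],[0,2,0,0,0,0,0,0,0,0,0,2,2,0,2,0,0,2,0,2,0,2,0,2],[0,0,0,0,0,0,2,0,0,2,2,0,2,0,2,0,0,2,2,0,0,2,0,0],[2,2,2,0,0,0,0,0,0,2,0,0,2,0,2,0,2,0,0,0,0,2,0,0],[0,0,2,0,2,0,0,2,0,0,0,0,2,0,2,0,2,0,0,0,2,0,2,0],[0,0,0,0,0,0,2,2,0,2,0,0,2,0,2,0,2,0,0,2,0,0,0,2],[2,0,0,0,0,0,0,0,2,0,0,2,2,0,2,0,2,0,0,2,2,0,0,0],[0,2,0,0,0,0,0,2,0,0,2,2,2,0,2,0,2,0,2,0,0,0,0,0],[2,0,0,0,0,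0,0,0,0,0,0,0,2,0,2,0,2,2,2,0,0,0,2,2],[0,0,0,0,0,0,0,2,2,0,0,2,2,0,2,2,0,0,0,0,0,0,2,2],[0,2,0,0,2,0,2,2,0,0,0,0,2,0,2,2,0,0,0,0,0,2,0,0],[2,0,0,0,0,0,2,0,0,2,0,0,2,0,2,2,0,0,0,0,2,0,2,0],[2,0,2,0,2,0,0,0,0,0,0,0,2,0,2,2,0,0,0,2,0,0,0,2],[2,2,0,0,0,0,0,0,2,0,2,0,2,0,2,2,0,2,0,0,0,0,0,0],[0,0,0,0,0,0,0,2,0,0,0,0,2,0,2,2,0,2,2,2,2,0,0,0],[0,0,0,0,0,0,0,0,0,0,2,0,2,0,2,2,2,0,0,0,2,2,0,2],[0,0,2,0,0,0,2,0,2,0,0,0,2,0,2,2,2,0,2,0,0,0,0,0],[0,0,0,0,2,0,0,0,0,2,0,2,2,0,2,2,2,2,0,0,0,0,0,0],[0,0,2,0,2,0,2,2,2,0,0,0,2,2,0,0,0,0,0,0,0,0,0,2],[0,2,2,0,0,0,0,2,0,0,0,2,2,2,0,0,0,0,0,0,0,2,2,0],[2,0,2,0,2,0,0,0,0,2,0,2,2,2,0,0,0,0,0,0,2,0,0,0],[2,0,0,0,0,0,2,0,0,0,0,2,2,2,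0,0,0,0,0,2,0,0,2,2],[2,2,0,0,2,0,0,0,2,0,0,0,2,2,0,0,0,0,0,2,0,2,0,0],[0,0,0,0,0,0,0,2,2,2,0,0,2,2,0,0,0,0,0,2,2,0,2,0],[2,2,0,0,0,0,0,0,0,2,2,0,2,2,0,0,0,0,2,0,0,0,2,0],[0,0,0,0,2,0,0,2,0,0,2,0,2,2,0,0,0,0,2,0,2,2,0,0],[2,0,2,0,0,0,0,0,0,0,2,0,2,2,0,0,0,2,0,0,0,2,0,2],[0,2,0,0,0,0,2,2,0,0,2,0,2,2,0,0,0,2,0,2,0,0,0,0],[0,0,0,0,0,0,0,2,0,2,0,2,2,2,0,0,0,2,2,0,0,0,0,2],[2,0,0,0,0,0,2,0,2,0,0,0,2,2,0,0,0,2,2,0,2,0,0,0],[0,2,2,0,0,0,0,0,2,0,2,0,2,2,0,0,2,0,0,0,2,0,0,0],[0,0,0,0,0,0,0,0,0,2,2,2,2,2,0,0,2,0,0,2,0,2,0,0],[0,0,0,0,2,0,0,0,2,0,0,2,2,2,0,0,2,0,2,0,0,0,2,0],[0,2,0,0,0,0,2,0,0,0,0,0,2,2,0,0,2,0,2,0,0,2,0,2],[2,0,2,0,0,0,0,2,0,0,0,0,2,2,0,0,2,0,2,2,0,0,0,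0],[0,0,2,0,0,0,2,0,0,2,0,0,2,2,0,0,2,2,0,0,0,0,2,0],[0,0,0,0,2,0,0,0,0,0,0,0,2,2,0,0,2,2,0,2,2,0,0,2],[0,2,0,0,2,0,0,0,0,0,2,2,2,2,0,2,0,0,0,0,0,0,0,2],[0,0,0,0,0,0,2,0,2,0,2,0,2,2,0,2,0,0,0,0,0,2,2,0],[0,0,2,0,0,0,0,0,0,0,0,0,2,2,0,2,0,0,2,0,2,0,2,2],[0,0,0,0,2,0,2,0,0,2,0,0,2,2,0,2,0,0,2,2,0,0,0,0],[2,0,0,0,2,0,0,2,0,0,0,0,2,2,0,2,0,2,0,0,0,0,2,0],[0,2,0,0,0,0,0,0,0,2,0,0,2,2,0,2,0,2,0,0,2,2,0,0],[0,0,2,0,0,0,0,0,2,0,0,2,2,2,0,2,0,2,0,2,0,0,0,0],[2,0,0,0,0,0,0,0,2,2,0,0,2,2,0,2,2,0,0,0,0,0,0,2],[0,0,0,0,0,0,2,2,0,0,0,2,2,2,0,2,2,0,0,0,2,0,0,0],[0,2,0,0,0,0,2,0,2,2,0,2,2,2,2,0,0,0,0,0,0,0,0,0],[0,0,0,0,2,0,0,0,0,2,0,0,2,2,2,0,0,0,0,0,0,2,2,2],[2,2,0,0,0,0,0,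2,0,0,0,0,2,2,2,0,0,0,0,0,2,0,0,2],[0,0,2,0,0,0,2,0,0,0,0,0,2,2,2,0,0,0,0,2,2,2,0,0],[0,0,0,0,0,0,0,0,2,0,2,0,2,2,2,0,0,0,2,2,0,0,0,2],[0,0,0,0,0,0,0,0,0,0,2,2,2,2,2,0,0,2,0,0,2,0,2,0],[0,2,2,0,2,0,0,0,0,0,0,0,2,2,2,0,0,2,2,0,0,0,0,0],[2,0,0,0,2,0,2,0,0,0,2,0,2,2,2,0,2,0,0,0,0,0,0,0],[0,0,0,0,0,0,0,2,2,0,0,0,2,2,2,0,2,2,0,0,0,2,0,0],[0,0,2,0,0,0,0,2,0,2,2,0,2,2,2,2,0,0,0,0,0,0,0,0],[2,0,0,0,0,0,0,0,0,0,0,2,2,2,2,2,0,0,2,0,0,2,0,0],[0,2,0,0,0,0,0,0,0,0,0,0,2,2,2,2,2,0,0,2,0,0,2,0]],[[-3,1,1,1,1,1,1,1,1,1,1,1,1,1,1,1,1,1,1,1,1,1,1,1],[1,-3,1,1,1,1,1,1,1,1,1,1,1,1,1,1,1,1,1,1,1,1,1,1],[1,1,-3,1,1,1,1,1,1,1,1,1,1,1,1,1,1,1,1,1,1,1,1,1],[1,1,1,1,-3,1,1,1,1,1,1,1,1,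1,1,1,1,1,1,1,1,1,1,1],[1,1,1,1,1,1,-3,1,1,1,1,1,1,1,1,1,1,1,1,1,1,1,1,1],[1,1,1,1,1,1,1,-3,1,1,1,1,1,1,1,1,1,1,1,1,1,1,1,1],[1,1,1,1,1,1,1,1,-3,1,1,1,1,1,1,1,1,1,1,1,1,1,1,1],[1,1,1,1,1,1,1,1,1,-3,1,1,1,1,1,1,1,1,1,1,1,1,1,1],[1,1,1,1,1,1,1,1,1,1,-3,1,1,1,1,1,1,1,1,1,1,1,1,1],[1,1,1,1,1,1,1,1,1,1,1,-3,1,1,1,1,1,1,1,1,1,1,1,1],[1,1,1,1,1,1,1,1,1,1,1,1,-3,1,1,1,1,1,1,1,1,1,1,1],[1,1,1,1,1,1,1,1,1,1,1,1,1,-3,1,1,1,1,1,1,1,1,1,1],[1,1,1,1,1,1,1,1,1,1,1,1,1,1,-3,1,1,1,1,1,1,1,1,1],[1,1,1,1,1,1,1,1,1,1,1,1,1,1,1,-3,1,1,1,1,1,1,1,1],[1,1,1,1,1,1,1,1,1,1,1,1,1,1,1,1,-3,1,1,1,1,1,1,1],[1,1,1,1,1,1,1,1,1,1,1,1,1,1,1,1,1,-3,1,1,1,1,1,1],[1,1,1,1,1,1,1,1,1,1,1,1,1,1,1,1,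1,1,-3,1,1,1,1,1],[1,1,1,1,1,1,1,1,1,1,1,1,1,1,1,1,1,1,1,-3,1,1,1,1],[1,1,1,1,1,1,1,1,1,1,1,1,1,1,1,1,1,1,1,1,-3,1,1,1],[1,1,1,1,1,1,1,1,1,1,1,1,1,1,1,1,1,1,1,1,1,-3,1,1],[1,1,1,1,1,1,1,1,1,1,1,1,1,1,1,1,1,1,1,1,1,1,-3,1],[1,1,1,1,1,1,1,1,1,1,1,1,1,1,1,1,1,1,1,1,1,1,1,-3]],[[3,-1,-1,-1,1,1,-1,1,1,-1,1,-1,1,1,1,1,1,1,1,1,1,1,-1,1],[-1,3,-1,-1,1,1,-1,1,1,-1,1,-1,1,1,1,1,1,1,1,1,1,1,-1,1],[-1,-1,3,-1,1,1,-1,1,1,-1,1,-1,1,1,1,1,1,1,1,1,1,1,-1,1],[-1,-1,-1,-1,-3,1,-1,1,1,-1,1,-1,1,1,1,1,1,1,1,1,1,1,-1,1],[-1,-1,-1,-1,1,1,3,1,1,-1,1,-1,1,1,1,1,1,1,1,1,1,1,-1,1],[-1,-1,-1,-1,1,1,-1,-3,1,-1,1,-1,1,1,1,1,1,1,1,1,1,1,-1,1],[-1,-1,-1,-1,1,1,-1,1,-3,-1,1,-1,1,1,1,1,1,1,1,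1,1,1,-1,1],[-1,-1,-1,-1,1,1,-1,1,1,3,1,-1,1,1,1,1,1,1,1,1,1,1,-1,1],[-1,-1,-1,-1,1,1,-1,1,1,-1,-3,-1,1,1,1,1,1,1,1,1,1,1,-1,1],[-1,-1,-1,-1,1,1,-1,1,1,-1,1,3,1,1,1,1,1,1,1,1,1,1,-1,1],[-1,-1,-1,-1,1,1,-1,1,1,-1,1,-1,-3,1,1,1,1,1,1,1,1,1,-1,1],[-1,-1,-1,-1,1,1,-1,1,1,-1,1,-1,1,-3,1,1,1,1,1,1,1,1,-1,1],[-1,-1,-1,-1,1,1,-1,1,1,-1,1,-1,1,1,-3,1,1,1,1,1,1,1,-1,1],[-1,-1,-1,-1,1,1,-1,1,1,-1,1,-1,1,1,1,-3,1,1,1,1,1,1,-1,1],[-1,-1,-1,-1,1,1,-1,1,1,-1,1,-1,1,1,1,1,-3,1,1,1,1,1,-1,1],[-1,-1,-1,-1,1,1,-1,1,1,-1,1,-1,1,1,1,1,1,-3,1,1,1,1,-1,1],[-1,-1,-1,-1,1,1,-1,1,1,-1,1,-1,1,1,1,1,1,1,-3,1,1,1,-1,1],[-1,-1,-1,-1,1,1,-1,1,1,-1,1,-1,1,1,1,1,1,1,1,-3,1,1,-1,1],[-1,-1,-1,-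1,1,1,-1,1,1,-1,1,-1,1,1,1,1,1,1,1,1,-3,1,-1,1],[-1,-1,-1,-1,1,1,-1,1,1,-1,1,-1,1,1,1,1,1,1,1,1,1,-3,-1,1],[-1,-1,-1,-1,1,1,-1,1,1,-1,1,-1,1,1,1,1,1,1,1,1,1,1,3,1],[-1,-1,-1,-1,1,1,-1,1,1,-1,1,-1,1,1,1,1,1,1,1,1,1,1,-1,-3]],[[3,-1,-1,-1,-1,-1,-1,-1,-1,-1,-1,-1,-1,-1,-1,-1,-1,-1,-1,-1,-1,-1,-1,-1],[-1,3,-1,-1,-1,-1,-1,-1,-1,-1,-1,-1,-1,-1,-1,-1,-1,-1,-1,-1,-1,-1,-1,-1],[-1,-1,3,-1,-1,-1,-1,-1,-1,-1,-1,-1,-1,-1,-1,-1,-1,-1,-1,-1,-1,-1,-1,-1],[-1,-1,-1,-1,3,-1,-1,-1,-1,-1,-1,-1,-1,-1,-1,-1,-1,-1,-1,-1,-1,-1,-1,-1],[-1,-1,-1,-1,-1,-1,3,-1,-1,-1,-1,-1,-1,-1,-1,-1,-1,-1,-1,-1,-1,-1,-1,-1],[-1,-1,-1,-1,-1,-1,-1,3,-1,-1,-1,-1,-1,-1,-1,-1,-1,-1,-1,-1,-1,-1,-1,-1],[-1,-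1,-1,-1,-1,-1,-1,-1,3,-1,-1,-1,-1,-1,-1,-1,-1,-1,-1,-1,-1,-1,-1,-1],[-1,-1,-1,-1,-1,-1,-1,-1,-1,3,-1,-1,-1,-1,-1,-1,-1,-1,-1,-1,-1,-1,-1,-1],[-1,-1,-1,-1,-1,-1,-1,-1,-1,-1,3,-1,-1,-1,-1,-1,-1,-1,-1,-1,-1,-1,-1,-1],[-1,-1,-1,-1,-1,-1,-1,-1,-1,-1,-1,3,-1,-1,-1,-1,-1,-1,-1,-1,-1,-1,-1,-1],[-1,-1,-1,-1,-1,-1,-1,-1,-1,-1,-1,-1,3,-1,-1,-1,-1,-1,-1,-1,-1,-1,-1,-1],[-1,-1,-1,-1,-1,-1,-1,-1,-1,-1,-1,-1,-1,3,-1,-1,-1,-1,-1,-1,-1,-1,-1,-1],[-1,-1,-1,-1,-1,-1,-1,-1,-1,-1,-1,-1,-1,-1,3,-1,-1,-1,-1,-1,-1,-1,-1,-1],[-1,-1,-1,-1,-1,-1,-1,-1,-1,-1,-1,-1,-1,-1,-1,3,-1,-1,-1,-1,-1,-1,-1,-1],[-1,-1,-1,-1,-1,-1,-1,-1,-1,-1,-1,-1,-1,-1,-1,-1,3,-1,-1,-1,-1,-1,-1,-1],[-1,-1,-1,-1,-1,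-1,-1,-1,-1,-1,-1,-1,-1,-1,-1,-1,-1,3,-1,-1,-1,-1,-1,-1],[-1,-1,-1,-1,-1,-1,-1,-1,-1,-1,-1,-1,-1,-1,-1,-1,-1,-1,3,-1,-1,-1,-1,-1],[-1,-1,-1,-1,-1,-1,-1,-1,-1,-1,-1,-1,-1,-1,-1,-1,-1,-1,-1,3,-1,-1,-1,-1],[-1,-1,-1,-1,-1,-1,-1,-1,-1,-1,-1,-1,-1,-1,-1,-1,-1,-1,-1,-1,3,-1,-1,-1],[-1,-1,-1,-1,-1,-1,-1,-1,-1,-1,-1,-1,-1,-1,-1,-1,-1,-1,-1,-1,-1,3,-1,-1],[-1,-1,-1,-1,-1,-1,-1,-1,-1,-1,-1,-1,-1,-1,-1,-1,-1,-1,-1,-1,-1,-1,3,-1],[-1,-1,-1,-1,-1,-1,-1,-1,-1,-1,-1,-1,-1,-1,-1,-1,-1,-1,-1,-1,-1,-1,-1,3]],[[3,1,-1,1,-1,-1,-1,1,1,1,-1,-1,1,1,1,1,1,1,1,1,1,1,1,-1],[-1,-3,-1,1,-1,-1,-1,1,1,1,-1,-1,1,1,1,1,1,1,1,1,1,1,1,-1],[-1,1,3,1,-1,-1,-1,1,1,1,-1,-1,1,1,1,1,1,1,1,1,1,1,1,-1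],[-1,1,-1,1,3,-1,-1,1,1,1,-1,-1,1,1,1,1,1,1,1,1,1,1,1,-1],[-1,1,-1,1,-1,-1,3,1,1,1,-1,-1,1,1,1,1,1,1,1,1,1,1,1,-1],[-1,1,-1,1,-1,-1,-1,-3,1,1,-1,-1,1,1,1,1,1,1,1,1,1,1,1,-1],[-1,1,-1,1,-1,-1,-1,1,-3,1,-1,-1,1,1,1,1,1,1,1,1,1,1,1,-1],[-1,1,-1,1,-1,-1,-1,1,1,-3,-1,-1,1,1,1,1,1,1,1,1,1,1,1,-1],[-1,1,-1,1,-1,-1,-1,1,1,1,3,-1,1,1,1,1,1,1,1,1,1,1,1,-1],[-1,1,-1,1,-1,-1,-1,1,1,1,-1,3,1,1,1,1,1,1,1,1,1,1,1,-1],[-1,1,-1,1,-1,-1,-1,1,1,1,-1,-1,-3,1,1,1,1,1,1,1,1,1,1,-1],[-1,1,-1,1,-1,-1,-1,1,1,1,-1,-1,1,-3,1,1,1,1,1,1,1,1,1,-1],[-1,1,-1,1,-1,-1,-1,1,1,1,-1,-1,1,1,-3,1,1,1,1,1,1,1,1,-1],[-1,1,-1,1,-1,-1,-1,1,1,1,-1,-1,1,1,1,-3,1,1,1,1,1,1,1,-1],[-1,1,-1,1,-1,-1,-1,1,1,1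,-1,-1,1,1,1,1,-3,1,1,1,1,1,1,-1],[-1,1,-1,1,-1,-1,-1,1,1,1,-1,-1,1,1,1,1,1,-3,1,1,1,1,1,-1],[-1,1,-1,1,-1,-1,-1,1,1,1,-1,-1,1,1,1,1,1,1,-3,1,1,1,1,-1],[-1,1,-1,1,-1,-1,-1,1,1,1,-1,-1,1,1,1,1,1,1,1,-3,1,1,1,-1],[-1,1,-1,1,-1,-1,-1,1,1,1,-1,-1,1,1,1,1,1,1,1,1,-3,1,1,-1],[-1,1,-1,1,-1,-1,-1,1,1,1,-1,-1,1,1,1,1,1,1,1,1,1,-3,1,-1],[-1,1,-1,1,-1,-1,-1,1,1,1,-1,-1,1,1,1,1,1,1,1,1,1,1,-3,-1],[-1,1,-1,1,-1,-1,-1,1,1,1,-1,-1,1,1,1,1,1,1,1,1,1,1,1,3]],[[1,1,1,-3,1,1,1,1,1,1,1,1,1,1,1,1,1,1,1,1,1,1,1,1]],[[-1,-1,-1,3,1,1,-1,1,1,-1,1,-1,1,1,1,1,1,1,1,1,1,1,-1,1]],[[-1,-1,-1,3,-1,-1,-1,-1,-1,-1,-1,-1,-1,-1,-1,-1,-1,-1,-1,-1,-1,-1,-1,-1]],[[-1,1,-1,-3,-1,-1,-1,1,1,1,-1,-1,1,1,1,1,1,1,1,1,1,1,1,-1]],[[1,1,1,1,1,-3,1,1,1,1,1,1,1,1,1,1,1,1,1,1,1,1,1,1]],[[-1,-1,-1,-1,1,-3,-1,1,1,-1,1,-1,1,1,1,1,1,1,1,1,1,1,-1,1]],[[-1,-1,-1,-1,-1,3,-1,-1,-1,-1,-1,-1,-1,-1,-1,-1,-1,-1,-1,-1,-1,-1,-1,-1]],[[-1,1,-1,1,-1,3,-1,1,1,1,-1,-1,1,1,1,1,1,1,1,1,1,1,1,-1]]]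
set_option maxHeartbeats 0 in
set_option maxRecDepth 1000000 in
def certLit : List (List (ℕ × ℕ × ℕ)) := [[(0,0,0),(12,178,3),(11,111,5),(12,180,4),(10,129,5),(10,43,5),(11,187,5),(10,206,4),(12,85,3),(12,87,5),(11,121,6),(10,126,5),(11,16,4),(10,42,5),(12,79,6),(10,138,4),(11,225,3),(10,23,4),(10,38,6),(12,83,6),(10,17,5),(12,209,4),(11,110,5),(10,85,3),(10,87,5),(10,203,6),(10,84,3),(12,195,5),(10,136,5),(11,105,5),(10,21,5),(11,3,5),(11,171,6),(11,0,1),(10,1,4),(12,206,4),(11,169,6),(10,169,6),(12,112,5),(12,114,5),(10,208,4),(11,154,5),(10,155,4),(11,158,4),(10,153,5),(12,181,3),(10,131,4),(12,52,6),(12,54,4),(11,209,4),(10,61,4),(12,50,5),(11,195,5),(12,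130,6),(12,115,3),(12,171,6),(12,3,5),(12,21,5),(11,9,6),(10,230,6),(12,0,1),(11,214,3),(10,223,6),(11,6,6),(11,157,4),(12,45,4),(11,130,6),(11,115,3),(11,51,6),(10,54,4),(11,181,3),(11,46,5),(12,60,2),(10,88,5),(10,45,4),(12,116,5),(10,65,5),(11,49,5),(11,134,5),(10,134,5),(11,97,5),(10,100,5),(10,204,5),(10,97,5),(12,33,2),(12,198,2),(10,91,6),(10,167,4),(10,102,4),(10,224,5),(10,101,7),(10,140,5),(11,107,4),(11,17,5),(10,40,5),(10,194,4),(12,67,4),(10,8,4),(11,12,5),(11,1,4),(11,155,4),(12,76,6),(10,214,3),(10,49,5),(12,74,5),(11,132,4),(11,117,6),(11,72,3),(11,69,5),(10,195,5),(11,67,4),(12,158,4),(12,208,4),(12,169,6),(10,158,4),(10,60,2),(11,70,4),(10,50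,5),(10,96,5),(12,165,5),(10,151,5),(10,135,5),(12,23,4),(11,139,5),(10,205,5),(10,111,5),(10,107,4),(10,118,6),(12,122,5),(12,107,4),(10,116,5),(10,225,3),(10,115,3),(10,119,6),(11,138,4),(11,148,4),(11,131,4),(11,116,5),(10,178,3),(10,180,4),(10,209,4),(12,92,5),(12,96,5),(11,60,2),(12,134,5),(12,119,6),(12,101,7),(12,91,6),(10,181,3),(11,102,4),(12,103,6),(12,167,4),(10,186,6),(10,148,4),(10,132,4),(11,84,3),(12,42,5),(12,84,3),(10,72,3),(12,20,6),(11,83,6),(12,126,5),(10,165,5),(12,51,6),(12,15,5),(12,61,4),(12,34,5),(12,72,3),(10,71,6),(11,149,5),(12,97,5),(10,139,5),(10,123,6),(11,34,5),(11,31,6),(10,193,6),(12,211,6),(12,215,6),(11,33,2),(10,3,5),(12,22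5,3),(11,198,2),(12,210,6),(10,48,5),(11,99,5),(12,222,5),(11,74,5),(12,212,4),(12,224,5),(10,69,5),(10,137,6),(11,112,5),(11,27,6),(12,40,5),(11,178,3),(10,16,4),(10,2,6),(12,194,4),(10,0,1),(10,154,5),(12,49,5),(10,211,6),(10,46,5),(10,92,5),(12,70,4),(12,157,4),(11,143,3),(12,95,5),(11,85,3),(12,214,3),(11,129,5),(12,139,5),(12,143,3),(10,44,6),(10,198,2),(10,34,5),(10,30,6),(12,207,6),(10,28,6),(12,151,5),(11,199,6),(11,40,5),(11,54,4),(10,99,5),(12,148,4),(10,33,2),(12,138,4),(11,64,5),(10,74,5),(11,44,6),(12,140,5)],[(0,0,0),(10,16,4),(11,6,4),(10,9,5),(11,19,3),(10,6,4),(11,21,3),(10,13,3),(10,0,1),(10,18,4),(10,11,2),(12,0,1),(12,11,2),(12,8,2),(12,12,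3),(11,12,3),(11,17,3),(11,11,2),(11,13,3),(11,8,2),(12,4,4),(10,8,2)],[(0,0,0),(10,16,4),(11,6,4),(10,9,5),(11,19,3),(10,6,4),(11,21,3),(10,13,3),(10,0,1),(10,18,4),(10,11,2),(12,0,1),(12,11,2),(12,8,2),(12,12,3),(11,12,3),(11,17,3),(11,11,2),(11,13,3),(11,8,2),(12,4,4),(10,8,2)],[(0,0,0),(10,16,4),(11,6,4),(10,9,5),(11,19,3),(10,6,4),(11,21,3),(10,13,3),(10,0,1),(10,18,4),(10,11,2),(12,0,1),(12,11,2),(12,8,2),(12,12,3),(11,12,3),(11,17,3),(11,11,2),(11,13,3),(11,8,2),(12,4,4),(10,8,2)],[(0,0,0),(10,16,4),(11,6,4),(10,9,5),(11,19,3),(10,6,4),(11,21,3),(10,13,3),(10,0,1),(10,18,4),(10,11,2),(12,0,1),(12,11,2),(12,8,2),(12,12,3),(11,12,3),(11,17,3),(11,11,2),(1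1,13,3),(11,8,2),(12,4,4),(10,8,2)],[(0,0,0)],[(0,0,0)],[(0,0,0)],[(0,0,0)],[(0,0,0),(10,36,6),(10,59,3),(12,41,5),(10,38,5),(12,30,5),(11,105,5),(12,47,3),(12,19,5),(11,14,6),(12,38,5),(11,86,5),(12,40,3),(10,58,4),(11,114,5),(12,25,5),(10,19,5),(11,60,6),(12,2,4),(11,113,4),(10,0,1),(11,13,5),(10,7,4),(12,68,4),(11,19,5),(10,63,4),(12,56,5),(12,77,6),(11,59,3),(11,75,6),(12,78,4),(12,70,5),(11,58,4),(10,49,6),(11,48,5),(11,51,6),(10,48,5),(10,32,5),(12,12,4),(10,31,6),(12,20,2),(10,50,4),(12,34,6),(10,68,4),(11,119,5),(10,28,4),(12,61,5),(10,20,2),(10,78,4),(11,98,5),(12,59,3),(10,22,5),(10,122,6),(10,127,6),(10,157,5),(10,159,4),(12,107,4),(11,165,5),(10,15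8,3),(12,84,2),(12,98,5),(10,126,4),(11,148,5),(11,158,3),(12,95,5),(10,139,6),(10,151,4),(11,127,6),(10,129,3),(11,150,5),(12,113,4),(10,135,3),(11,168,5),(10,147,5),(10,156,5),(10,133,5),(11,174,4),(11,133,5),(11,171,3),(11,156,5),(10,11,6),(10,6,6),(11,43,5),(12,24,6),(12,0,1),(11,45,5),(12,28,4),(10,62,6),(10,2,4),(11,61,5),(12,7,4),(12,48,5),(12,76,5),(11,12,4),(10,56,5),(11,100,4),(11,91,6),(11,71,4),(10,12,4),(11,25,5),(11,47,3),(12,22,5),(11,97,5),(11,22,5),(12,10,6),(11,78,4),(12,71,4),(10,47,3),(10,148,5),(12,106,5),(12,91,6),(12,99,6),(12,90,5),(11,175,3),(11,151,4),(11,129,3),(11,164,5),(10,146,6),(11,145,5),(10,134,4),(10,86,5),(10,117,7),(11,90,5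),(12,146,6),(11,5,6),(10,105,5),(11,40,3),(12,133,5),(11,54,6),(10,84,2),(12,136,7),(12,147,5),(10,114,5),(10,100,4),(12,158,3),(11,84,2),(12,154,6),(12,150,5),(12,157,5),(10,95,5),(11,32,5),(10,119,5),(10,93,5),(11,66,5),(10,107,4),(12,159,4),(11,95,5),(10,115,4),(11,126,4),(10,172,5),(12,163,4),(12,171,3),(10,170,6),(11,159,4),(10,164,5),(12,175,3),(12,174,4),(10,174,4),(11,167,2),(11,135,3),(10,101,6),(12,139,6),(11,34,6),(12,135,3),(11,7,4),(12,126,4),(12,134,4),(11,0,1),(11,63,4),(11,106,5),(11,30,5),(11,20,2),(10,163,4),(12,168,5),(10,175,3),(10,167,2)],[(0,0,0),(10,36,6),(10,59,3),(12,41,5),(10,38,5),(12,30,5),(11,105,5),(12,47,3),(12,19,5),(11,14,6),(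12,38,5),(11,86,5),(12,40,3),(10,58,4),(11,114,5),(12,25,5),(10,19,5),(11,60,6),(12,2,4),(11,113,4),(10,0,1),(11,13,5),(10,7,4),(12,68,4),(11,19,5),(10,63,4),(12,56,5),(12,77,6),(11,59,3),(11,75,6),(12,78,4),(12,70,5),(11,58,4),(10,49,6),(11,48,5),(11,51,6),(10,48,5),(10,32,5),(12,12,4),(10,31,6),(12,20,2),(10,50,4),(12,34,6),(10,68,4),(11,119,5),(10,28,4),(12,61,5),(10,20,2),(10,78,4),(11,98,5),(12,59,3),(10,22,5),(10,122,6),(10,127,6),(10,157,5),(10,159,4),(12,107,4),(11,165,5),(10,158,3),(12,84,2),(12,98,5),(10,126,4),(11,148,5),(11,158,3),(12,95,5),(10,139,6),(10,151,4),(11,127,6),(10,129,3),(11,150,5),(12,113,4),(10,135,3),(11,168,5),(10,147,5),(10,156,5)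,(10,133,5),(11,174,4),(11,133,5),(11,171,3),(11,156,5),(10,11,6),(10,6,6),(11,43,5),(12,24,6),(12,0,1),(11,45,5),(12,28,4),(10,62,6),(10,2,4),(11,61,5),(12,7,4),(12,48,5),(12,76,5),(11,12,4),(10,56,5),(11,100,4),(11,91,6),(11,71,4),(10,12,4),(11,25,5),(11,47,3),(12,22,5),(11,97,5),(11,22,5),(12,10,6),(11,78,4),(12,71,4),(10,47,3),(10,148,5),(12,106,5),(12,91,6),(12,99,6),(12,90,5),(11,175,3),(11,151,4),(11,129,3),(11,164,5),(10,146,6),(11,145,5),(10,134,4),(10,86,5),(10,117,7),(11,90,5),(12,146,6),(11,5,6),(10,105,5),(11,40,3),(12,133,5),(11,54,6),(10,84,2),(12,136,7),(12,147,5),(10,114,5),(10,100,4),(12,158,3),(11,84,2),(12,154,6),(12,150,5),(12,157,5),(10,9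5,5),(11,32,5),(10,119,5),(10,93,5),(11,66,5),(10,107,4),(12,159,4),(11,95,5),(10,115,4),(11,126,4),(10,172,5),(12,163,4),(12,171,3),(10,170,6),(11,159,4),(10,164,5),(12,175,3),(12,174,4),(10,174,4),(11,167,2),(11,135,3),(10,101,6),(12,139,6),(11,34,6),(12,135,3),(11,7,4),(12,126,4),(12,134,4),(11,0,1),(11,63,4),(11,106,5),(11,30,5),(11,20,2),(10,163,4),(12,168,5),(10,175,3),(10,167,2)],[(0,0,0),(12,24,5),(11,23,5),(10,30,3),(12,19,2),(12,11,3),(12,27,4),(11,45,5),(10,22,5),(10,28,4),(11,39,5),(10,19,2),(12,5,4),(12,33,3),(11,12,5),(11,19,2),(12,35,5),(10,4,3),(10,33,3),(12,0,1),(10,35,5),(11,48,5),(10,34,4),(10,18,4),(12,3,4),(11,47,4),(12,28,4),(10,15,3),(10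,58,3),(12,48,5),(12,41,2),(10,70,5),(11,70,5),(10,57,2),(10,68,3),(12,54,4),(12,55,4),(10,63,4),(12,45,5),(10,71,4),(10,5,4),(10,0,1),(11,46,4),(12,13,4),(12,4,3),(12,18,4),(11,33,3),(12,30,3),(11,3,4),(10,13,4),(11,36,5),(11,27,4),(10,65,5),(10,69,4),(11,68,3),(11,74,3),(10,44,4),(11,0,1),(12,57,2),(11,44,4),(12,63,4),(11,30,3),(10,53,5),(12,68,3),(12,69,4),(10,47,4),(10,54,4),(11,54,4),(11,57,2),(12,74,3),(11,69,4),(10,74,3),(10,45,5),(12,58,3),(10,41,2),(11,15,3),(11,61,4)],[(0,0,0),(12,24,5),(11,23,5),(10,30,3),(12,19,2),(12,11,3),(12,27,4),(11,45,5),(10,22,5),(10,28,4),(11,39,5),(10,19,2),(12,5,4),(12,33,3),(11,12,5),(11,19,2),(12,35,5),(10,4,3),(10,33,3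),(12,0,1),(10,35,5),(11,48,5),(10,34,4),(10,18,4),(12,3,4),(11,47,4),(12,28,4),(10,15,3),(10,58,3),(12,48,5),(12,41,2),(10,70,5),(11,70,5),(10,57,2),(10,68,3),(12,54,4),(12,55,4),(10,63,4),(12,45,5),(10,71,4),(10,5,4),(10,0,1),(11,46,4),(12,13,4),(12,4,3),(12,18,4),(11,33,3),(12,30,3),(11,3,4),(10,13,4),(11,36,5),(11,27,4),(10,65,5),(10,69,4),(11,68,3),(11,74,3),(10,44,4),(11,0,1),(12,57,2),(11,44,4),(12,63,4),(11,30,3),(10,53,5),(12,68,3),(12,69,4),(10,47,4),(10,54,4),(11,54,4),(11,57,2),(12,74,3),(11,69,4),(10,74,3),(10,45,5),(12,58,3),(10,41,2),(11,15,3),(11,61,4)],[(0,0,0),(12,24,5),(11,23,5),(10,30,3),(12,19,2),(12,11,3),(12,27,4),(11,45,5),(10,22,5),(10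,28,4),(11,39,5),(10,19,2),(12,5,4),(12,33,3),(11,12,5),(11,19,2),(12,35,5),(10,4,3),(10,33,3),(12,0,1),(10,35,5),(11,48,5),(10,34,4),(10,18,4),(12,3,4),(11,47,4),(12,28,4),(10,15,3),(10,58,3),(12,48,5),(12,41,2),(10,70,5),(11,70,5),(10,57,2),(10,68,3),(12,54,4),(12,55,4),(10,63,4),(12,45,5),(10,71,4),(10,5,4),(10,0,1),(11,46,4),(12,13,4),(12,4,3),(12,18,4),(11,33,3),(12,30,3),(11,3,4),(10,13,4),(11,36,5),(11,27,4),(10,65,5),(10,69,4),(11,68,3),(11,74,3),(10,44,4),(11,0,1),(12,57,2),(11,44,4),(12,63,4),(11,30,3),(10,53,5),(12,68,3),(12,69,4),(10,47,4),(10,54,4),(11,54,4),(11,57,2),(12,74,3),(11,69,4),(10,74,3),(10,45,5),(12,58,3),(10,41,2),(11,15,3),(11,61,4)]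,[(0,0,0),(12,24,5),(11,23,5),(10,30,3),(12,19,2),(12,11,3),(12,27,4),(11,45,5),(10,22,5),(10,28,4),(11,39,5),(10,19,2),(12,5,4),(12,33,3),(11,12,5),(11,19,2),(12,35,5),(10,4,3),(10,33,3),(12,0,1),(10,35,5),(11,48,5),(10,34,4),(10,18,4),(12,3,4),(11,47,4),(12,28,4),(10,15,3),(10,58,3),(12,48,5),(12,41,2),(10,70,5),(11,70,5),(10,57,2),(10,68,3),(12,54,4),(12,55,4),(10,63,4),(12,45,5),(10,71,4),(10,5,4),(10,0,1),(11,46,4),(12,13,4),(12,4,3),(12,18,4),(11,33,3),(12,30,3),(11,3,4),(10,13,4),(11,36,5),(11,27,4),(10,65,5),(10,69,4),(11,68,3),(11,74,3),(10,44,4),(11,0,1),(12,57,2),(11,44,4),(12,63,4),(11,30,3),(10,53,5),(12,68,3),(12,69,4),(10,47,4),(10,54,4),(11,54,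4),(11,57,2),(12,74,3),(11,69,4),(10,74,3),(10,45,5),(12,58,3),(10,41,2),(11,15,3),(11,61,4)],[(0,0,0),(11,18,6),(10,71,5),(11,81,5),(12,31,5),(10,74,3),(10,44,7),(10,41,5),(12,38,3),(11,40,5),(10,45,5),(11,100,5),(12,35,6),(11,53,6),(10,73,6),(11,114,6),(11,112,4),(12,24,6),(10,43,5),(11,74,3),(10,39,5),(10,35,6),(10,59,4),(10,38,3),(11,104,5),(12,79,6),(12,57,6),(11,43,5),(11,85,5),(10,52,3),(12,78,6),(10,19,4),(12,72,6),(11,31,5),(12,42,5),(12,41,5),(10,77,5),(10,27,6),(11,93,2),(11,23,4),(10,69,4),(12,19,4),(11,69,4),(10,23,4),(11,79,6),(12,29,4),(12,64,5),(10,68,4),(11,28,6),(12,77,5),(10,49,6),(11,77,5),(12,102,2),(10,152,5),(12,101,5),(11,160,5),(11,123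,7),(12,104,5),(12,98,6),(11,170,3),(11,150,5),(11,153,6),(10,151,5),(10,150,5),(11,173,4),(11,122,5),(10,126,6),(12,111,5),(10,124,3),(10,125,3),(11,151,5),(12,88,4),(11,146,5),(10,146,5),(12,93,2),(11,134,6),(11,155,6),(12,112,4),(12,113,5),(11,174,5),(11,7,6),(11,19,4),(10,53,6),(11,42,5),(11,83,6),(12,23,4),(10,18,6),(10,16,5),(11,52,3),(12,9,6),(11,59,4),(12,22,5),(10,8,4),(10,0,1),(11,38,3),(12,68,4),(12,74,3),(10,72,6),(11,113,5),(11,47,5),(11,96,4),(10,29,4),(12,0,1),(10,79,6),(12,5,4),(12,47,5),(12,52,3),(11,94,4),(12,81,5),(11,143,5),(12,107,5),(12,96,4),(11,125,3),(11,149,4),(12,85,5),(10,149,4),(10,132,5),(10,134,6),(11,156,5),(10,145,6),(12,124,3)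,(12,143,5),(10,112,4),(10,99,6),(10,102,2),(11,102,2),(10,90,5),(11,5,4),(11,62,6),(12,136,6),(11,64,5),(11,73,6),(10,88,4),(12,158,6),(11,90,5),(11,11,6),(10,113,5),(12,150,5),(12,156,5),(10,107,5),(12,126,6),(11,24,6),(11,95,5),(10,106,4),(10,115,5),(10,92,5),(10,94,4),(11,106,4),(12,166,7),(12,170,3),(12,165,4),(11,165,4),(10,173,4),(10,160,5),(12,172,4),(12,174,5),(10,172,4),(10,168,5),(10,171,5),(11,154,5),(11,8,4),(12,142,6),(10,81,5),(12,120,4),(10,114,6),(12,125,3),(12,144,6),(10,101,5),(12,149,4),(10,95,5),(10,93,2),(10,96,4),(11,124,3),(10,170,3),(12,173,4),(10,174,5)],[(0,0,0),(11,18,6),(10,71,5),(11,81,5),(12,31,5),(10,74,3),(10,44,7),(10,41,5),(1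2,38,3),(11,40,5),(10,45,5),(11,100,5),(12,35,6),(11,53,6),(10,73,6),(11,114,6),(11,112,4),(12,24,6),(10,43,5),(11,74,3),(10,39,5),(10,35,6),(10,59,4),(10,38,3),(11,104,5),(12,79,6),(12,57,6),(11,43,5),(11,85,5),(10,52,3),(12,78,6),(10,19,4),(12,72,6),(11,31,5),(12,42,5),(12,41,5),(10,77,5),(10,27,6),(11,93,2),(11,23,4),(10,69,4),(12,19,4),(11,69,4),(10,23,4),(11,79,6),(12,29,4),(12,64,5),(10,68,4),(11,28,6),(12,77,5),(10,49,6),(11,77,5),(12,102,2),(10,152,5),(12,101,5),(11,160,5),(11,123,7),(12,104,5),(12,98,6),(11,170,3),(11,150,5),(11,153,6),(10,151,5),(10,150,5),(11,173,4),(11,122,5),(10,126,6),(12,111,5),(10,124,3),(10,125,3),(11,151,5),(12,88,4),(11,146,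5),(10,146,5),(12,93,2),(11,134,6),(11,155,6),(12,112,4),(12,113,5),(11,174,5),(11,7,6),(11,19,4),(10,53,6),(11,42,5),(11,83,6),(12,23,4),(10,18,6),(10,16,5),(11,52,3),(12,9,6),(11,59,4),(12,22,5),(10,8,4),(10,0,1),(11,38,3),(12,68,4),(12,74,3),(10,72,6),(11,113,5),(11,47,5),(11,96,4),(10,29,4),(12,0,1),(10,79,6),(12,5,4),(12,47,5),(12,52,3),(11,94,4),(12,81,5),(11,143,5),(12,107,5),(12,96,4),(11,125,3),(11,149,4),(12,85,5),(10,149,4),(10,132,5),(10,134,6),(11,156,5),(10,145,6),(12,124,3),(12,143,5),(10,112,4),(10,99,6),(10,102,2),(11,102,2),(10,90,5),(11,5,4),(11,62,6),(12,136,6),(11,64,5),(11,73,6),(10,88,4),(12,158,6),(11,90,5),(11,11,6),(10,113,5),(12,150,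5),(12,156,5),(10,107,5),(12,126,6),(11,24,6),(11,95,5),(10,106,4),(10,115,5),(10,92,5),(10,94,4),(11,106,4),(12,166,7),(12,170,3),(12,165,4),(11,165,4),(10,173,4),(10,160,5),(12,172,4),(12,174,5),(10,172,4),(10,168,5),(10,171,5),(11,154,5),(11,8,4),(12,142,6),(10,81,5),(12,120,4),(10,114,6),(12,125,3),(12,144,6),(10,101,5),(12,149,4),(10,95,5),(10,93,2),(10,96,4),(11,124,3),(10,170,3),(12,173,4),(10,174,5)],[(0,0,0),(10,114,5),(12,0,1),(11,138,6),(10,11,6),(12,68,5),(12,37,5),(11,12,6),(10,96,5),(12,55,5),(12,77,4),(12,31,5),(10,97,5),(11,96,5),(11,87,6),(11,119,6),(10,113,5),(11,190,6),(10,2,2),(11,85,7),(11,92,5),(10,92,5),(10,61,6),(12,42,6),(11,206,6),(11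,21,6),(12,118,6),(12,117,6),(11,47,5),(11,142,3),(11,169,5),(12,122,4),(12,78,6),(10,122,4),(10,18,3),(12,107,4),(11,168,6),(12,84,4),(11,91,7),(10,84,4),(11,123,5),(11,187,4),(10,79,5),(11,97,5),(12,105,4),(10,33,5),(12,10,5),(10,128,4),(10,35,5),(12,44,5),(11,175,5),(12,18,3),(10,77,4),(12,45,6),(10,110,5),(12,29,4),(11,179,5),(10,29,4),(11,110,5),(12,15,7),(10,28,6),(11,199,5),(12,28,6),(10,75,5),(11,128,4),(10,68,5),(12,92,5),(10,102,7),(11,153,4),(12,100,6),(11,178,7),(11,41,5),(12,123,5),(10,65,6),(12,110,5),(11,105,4),(10,129,5),(11,197,3),(10,250,5),(10,243,4),(10,269,7),(11,250,5),(12,155,2),(10,248,6),(10,268,3),(11,309,6),(12,173,6),(10,229,5),(10,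285,6),(12,178,7),(11,266,6),(11,285,6),(10,245,4),(10,264,5),(10,228,4),(10,224,5),(10,286,4),(12,153,4),(10,214,6),(11,245,4),(10,213,5),(12,208,6),(12,201,6),(10,252,6),(10,272,5),(12,197,3),(10,218,5),(10,210,3),(11,324,6),(12,195,5),(10,270,4),(10,256,6),(11,240,4),(10,278,4),(10,275,4),(12,131,5),(12,130,6),(11,308,5),(12,177,5),(12,135,5),(10,279,6),(10,276,5),(11,326,3),(11,278,4),(12,206,6),(12,183,6),(11,260,7),(12,199,5),(10,261,3),(12,205,4),(10,47,5),(10,51,4),(10,82,3),(12,35,5),(12,75,5),(12,34,4),(12,58,6),(11,10,5),(10,123,5),(12,57,5),(12,65,6),(12,41,5),(12,2,2),(11,121,6),(12,1,6),(12,39,5),(11,183,6),(11,205,4),(10,13,6),(10,21,6),(12,33,5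),(10,10,5),(10,5,6),(12,82,3),(10,9,6),(10,0,1),(11,173,6),(10,57,5),(12,97,5),(12,96,5),(12,104,6),(12,81,6),(11,122,4),(12,48,6),(12,13,6),(10,105,4),(10,100,6),(11,157,6),(11,180,5),(11,34,4),(12,43,6),(12,64,5),(12,12,6),(12,47,5),(10,44,5),(10,34,4),(11,65,6),(12,128,4),(10,76,6),(10,107,4),(11,107,4),(11,99,5),(10,216,7),(11,213,5),(10,284,6),(11,301,5),(10,253,6),(12,142,3),(11,299,6),(11,312,3),(12,147,5),(11,274,6),(12,165,5),(10,211,6),(11,218,5),(10,262,4),(12,190,6),(11,290,2),(11,214,6),(12,189,4),(11,321,5),(10,232,5),(11,238,5),(11,305,4),(10,287,6),(11,261,3),(11,325,5),(12,132,4),(10,238,5),(10,277,6),(11,2,2),(10,169,5),(11,51,4),(10,189,4),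(12,258,5),(11,165,5),(12,226,6),(11,11,6),(12,243,4),(11,145,6),(11,135,5),(10,206,6),(12,248,6),(12,225,6),(10,187,4),(11,112,5),(12,232,5),(11,207,5),(11,82,3),(11,189,4),(11,20,6),(11,8,6),(10,205,4),(10,201,6),(12,289,6),(10,131,5),(10,171,6),(10,191,7),(10,132,4),(12,267,6),(12,268,3),(11,114,5),(12,276,5),(12,210,3),(11,28,6),(10,197,3),(11,162,5),(11,181,6),(12,238,5),(11,35,5),(12,228,4),(12,236,7),(12,250,5),(10,175,5),(10,162,5),(11,100,6),(11,33,5),(12,279,6),(12,262,4),(11,77,4),(12,265,6),(10,155,2),(12,312,3),(12,300,5),(12,305,4),(12,304,5),(10,315,5),(12,315,5),(12,290,2),(10,314,6),(11,268,3),(11,281,6),(11,319,4),(12,308,5),(11,264,5),(10,31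2,3),(11,243,4),(12,329,5),(12,326,3),(10,301,5),(12,321,5),(11,232,5),(10,304,5),(11,258,5),(10,303,5),(10,306,5),(10,326,3),(10,325,5),(11,235,6),(11,276,5),(11,0,1),(10,138,6),(10,204,7),(12,261,3),(10,141,6),(10,202,6),(10,174,6),(10,190,6),(10,133,6),(12,259,5),(11,84,4),(12,245,4),(11,57,5),(11,132,4),(12,270,4),(11,18,3),(12,275,4),(11,79,5),(12,278,4),(12,229,5),(10,151,6),(10,199,5),(11,155,2),(12,213,5),(11,129,5),(10,153,4),(10,177,5),(10,195,5),(12,313,6),(11,210,3),(10,322,5),(10,319,4),(11,293,4),(12,301,5),(10,300,5),(10,293,4),(10,290,2),(10,316,6),(10,308,5),(10,305,4)],[(0,0,0),(10,16,4),(11,6,4),(10,9,5),(11,19,3),(10,6,4),(11,21,3),(10,13,3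),(10,0,1),(10,18,4),(10,11,2),(12,0,1),(12,11,2),(12,8,2),(12,12,3),(11,12,3),(11,17,3),(11,11,2),(11,13,3),(11,8,2),(12,4,4),(10,8,2)],[(0,0,0),(10,16,4),(11,6,4),(10,9,5),(11,19,3),(10,6,4),(11,21,3),(10,13,3),(10,0,1),(10,18,4),(10,11,2),(12,0,1),(12,11,2),(12,8,2),(12,12,3),(11,12,3),(11,17,3),(11,11,2),(11,13,3),(11,8,2),(12,4,4),(10,8,2)],[(0,0,0),(10,16,4),(11,6,4),(10,9,5),(11,19,3),(10,6,4),(11,21,3),(10,13,3),(10,0,1),(10,18,4),(10,11,2),(12,0,1),(12,11,2),(12,8,2),(12,12,3),(11,12,3),(11,17,3),(11,11,2),(11,13,3),(11,8,2),(12,4,4),(10,8,2)],[(0,0,0),(10,16,4),(11,6,4),(10,9,5),(11,19,3),(10,6,4),(11,21,3),(10,13,3),(10,0,1),(10,18,4),(10,11,2),(12,0,1),(12,11,2),(12,8,2),(12,12,3),(11,12,3),(11,17,3),(11,11,2),(11,13,3),(11,8,2),(12,4,4),(10,8,2)],[(0,0,0)],[(0,0,0)],[(0,0,0)],[(0,0,0)],[(0,0,0)],[(0,0,0)],[(0,0,0)],[(0,0,0)]]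
def mT : List (List ℕ) := [[10,22,8,3,21,5,16,17,7,2,23,4,14,12,20,9,15,18,1,0,11,19,6,13],[10,7,16,3,4,5,13,9,2,22,21,23,14,19,17,20,15,1,0,18,11,6,12,8],[13,7,18,3,1,5,22,8,20,2,15,4,12,14,16,6,19,11,10,23,17,0,9,21]]
def gensT : List (List ℤ → List ℤ) := mT.map lF
set_option maxHeartbeats 0 in
set_option maxRecDepth 1000000 in
def clsL : List ℕ := [0,0,0,1,2,1,2,1,2,0,0,0,1,2,3,4,3,4,3,4,5,6,7,8,3,4,0,0,0,1,2,0,3,4,0,0,0,1,2,0,3,4,0,0,0,0,1,2,0,3,4,0,0,0,0,0,1,2,0,3,4,0,0,0,0,0,0,1,2,0,3,4,0,0,0,0,0,0,0,1,2,0,3,4,0,0,0,0,0,0,0,0,1,2,0,3,4,0,0,0,0,0,0,0,0,0,1,2,0,3,4,0,0,0,0,0,0,0,0,0,0,1,2,0,3,4,0,0,0,0,0,0,0,0,0,0,0,1,2,0,3,4,0,0,0,0,0,0,0,0,0,0,0,0,1,2,0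,3,4,0,0,0,0,0,0,0,0,0,0,0,0,0,1,2,0,3,4,0,0,0,0,0,0,0,0,0,0,0,0,0,0,1,2,0,3,4,0,0,0,0,0,0,0,0,0,0,0,0,0,0,0,1,2,0,3,4,0,0,0,0,0,0,0,0,0,0,0,0,0,0,0,0,1,2,0,3,4,0,0,0,0,0,0,0,0,0,0,0,0,0,0,0,0,0,1,2,0,3,4,0,0,0,0,0,0,0,0,0,0,0,0,0,0,0,0,0,0,1,2,0,3,4,0,0,0,0,0,0,0,0,0,0,0,0,0,0,0,0,0,0,0,1,2,0,3,4,0,0,0,0,0,0,0,0,0,0,0,0,0,0,0,0,0,15,16,9,10,11,13,12,14,11,13,12,14,9,10,15,16,17,15,16,17,9,10,9,10,11,13,12,14,17,9,10,17,15,16,15,16,17,9,10,11,13,12,14,9,10,15,16,17,17,9,10,11,13,12,14,9,10,15,16,17,15,16,9,10,9,10,11,13,12,14,17,15,16,15,16,17,15,16,17,11,13,12,14,9,10,11,13,12,14,17,17,15,16,11,13,12,14,9,10,15,16,17,17,15,16,9,10,11,13,12,14,17,15,16,17,11,1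3,12,14,15,16,17,11,13,12,14,9,10,17,15,16,15,16,9,10,17,15,16,9,10,11,13,12,14,9,10,17,15,16,17,9,10,9,10,17,17,17,17,15,16,9,10,11,13,12,14,11,13,12,14,9,10,15,16,17,15,16,17,11,13,12,14,17,9,10,11,13,12,14,17,15,16,9,10,15,16,17,15,16,9,10,15,16,17,17,9,10,17,15,16,9,10,15,16,17,9,10,17,17,11,13,12,14,17,17,9,10,9,10,17,15,16,17,15,16,17,9,10,9,10,17,17,15,16,9,10,15,16,17,11,13,12,14,17,15,16,9,10,11,13,12,14,15,16,17,15,16,17,11,13,12,14,9,10,9,10,15,16,9,10,11,13,12,14,17,15,16,15,16,17,11,13,12,14,17,11,13,12,14,9,10,15,16,17,17,9,10,17,17,17,9,10,17,15,16,9,10,9,10,15,16,17,17,15,16,9,10,9,10,17,15,16,17,17,17,9,10,17,11,13,12,14,15,16,17,9,10,15,16,17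,15,16,9,10,9,10,15,16,17,9,10,17,9,10,17,17,11,13,12,14,17,11,13,12,14,17,17,15,16,9,10,15,16,11,13,12,14,9,10,15,16,17,15,16,17,17,17,17,15,16,17,11,13,12,14,9,10,9,10,17,17,15,16,9,10,9,10,15,16,17,11,13,12,14,9,10,17,17,15,16,9,10,9,10,17,17,9,10,17,15,16,15,16,17,11,13,12,14,11,13,12,14,17,17,15,16,15,16,9,10,9,10,11,13,12,14,17,15,16,15,16,9,10,15,16,17,17,11,13,12,14,15,16,17,17,17,17,9,10,9,10,15,16,17,15,16,17,9,10,15,16,17,15,16,9,10,11,13,12,14,11,13,12,14,15,16,17,17,9,10,11,13,12,14,17,17,17,9,10,17,9,10,17,15,16,17,9,10,17,17,15,16,17,15,16,17,11,13,12,14,9,10,11,13,12,14,17,17,15,16,9,10,15,16,17,15,16,9,10,17,15,16,9,10,17,17,17,9,10,17,11,13,1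2,14,17,17,17,9,10,15,16,17,15,16,17,9,10,17,17,17,9,10,15,16,17,17,15,16,9,10,11,13,12,14,9,10,15,16,17,17,15,16,9,10,11,13,12,14,9,10,17,15,16,15,16,15,16,17,11,13,12,14,9,10,17,15,16,11,13,12,14,17,17,15,16,9,10,17,17,11,13,12,14,9,10,17,9,10,17,15,16,17,9,10,17,9,10,9,10,15,16,15,16,17,9,10,17,9,10,11,13,12,14,17,17,17,11,13,12,14,15,16,17,17,15,16,17,11,13,12,14,9,10,15,16,17,17,15,16,9,10,9,10,17,17,17,17,9,10,17,11,13,12,14,15,16,17,9,10,15,16,17,15,16,15,16,9,10,17,15,16,9,10,17,17,11,13,12,14,9,10,17,17,9,10,17,15,16,17,15,16,9,10,9,10,17,17,17,15,16,9,10,15,16,15,16,17,17,15,16,9,10,11,13,12,14,17,15,16,17,9,10,17,15,16,17,11,13,12,14,17,15,16,17,17,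9,10,17,17,17,9,10,11,13,12,14,17,15,16,17,11,13,12,14,9,10,15,16,17,17,15,16,9,10,15,16,15,16,17,9,10,9,10,17,17,17,15,16,17,9,10,17,17,17,9,10,9,10,15,16,9,10,17,17,17,17,9,10,15,16,15,16,17,17,11,13,12,14,17,9,10,17,15,16,17,9,10,17,17,17,11,13,12,14,15,16,17,17,9,10,15,16,17,17,9,10,11,13,12,14,17,15,16,17,11,13,12,14,11,13,12,14,15,16,17,17,15,16,9,10,17,15,16,9,10,11,13,12,14,9,10,15,16,15,16,17,15,16,17,9,10,9,10,17,15,16,17,9,10,11,13,12,14,17,17,9,10,17,15,16,17,11,13,12,14,9,10,9,10,17,17,17,9,10,17,9,10,17,15,16,17,15,16,9,10,15,16,17,15,16,9,10,17,15,16,17,11,13,12,14,9,10,17,17,17,15,16,9,10,17,9,10,15,16,17,11,13,12,14,9,10,15,16,17,15,16,17,11,1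3,12,14,17,17,15,16,9,10,17,17,9,10,11,13,12,14,17,15,16,17,9,10,9,10,15,16,17,17,9,10,17,17,15,16,17,17,11,13,12,14,15,16,17,15,16,9,10,17,15,16,11,13,12,14,17,9,10,17,17,9,10,17,15,16,15,16,17,15,16,17,17,9,10,17,9,10,17,11,13,12,14,9,10,15,16,17,17,15,16,9,10,15,16,15,16,17,17,11,13,12,14,17,9,10,15,16,17,17,9,10,17,17,15,16,9,10,17,9,10,17,17,11,13,12,14,17,9,10,15,16,17,9,10,17,17,17,17,15,16,15,16,9,10,17,17,17,9,10,17,15,16,17,9,10,15,16,9,10,17,15,16,17,11,13,12,14,17,17,17,15,16,17,9,10,17,17,15,16,9,10,9,10,9,10,15,16,17,17,17,9,10,11,13,12,14,17,15,16,17,15,16,9,10,15,16,15,16,17,11,13,12,14,17,17,17,9,10,15,16,9,10,17,15,16,11,13,12,14,17,17,17,17,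9,10,17,17,15,16,17,11,13,12,14,17,15,16,9,10,9,10,17,17,17,17,17,17,9,10,17,15,16,17,9,10,11,13,12,14,17,17,9,10,17,15,16,17,17,15,16,17,17,15,16,9,10,17,17,15,16,17,9,10,17,18,20,19,21,18,20,19,21,18,20,19,21,22,24,23,25,18,20,19,21,26,28,27,29,18,20,19,21,18,20,19,21,18,20,19,21,18,20,19,21,18,20,19,21,18,20,19,21,18,20,19,21,18,20,19,21,18,20,19,21,18,20,19,21,18,20,19,21,18,20,19,21,18,20,19,21,18,20,19,21,18,20,19,21,18,20,19,21,18,20,19,21,18,20,19,21]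
def treeL : List (ℕ × ℕ × List (List ℕ) × ℕ) := [(1,0,[],5),(2,1,[[0,19,6,5,12,3,2,7,8,14,20,16,4,13,9,17,11,15,18,1,10,21,22,23]],7),(3,1,[[],[21,17,0,3,16,5,23,7,20,11,2,18,22,19,8,4,12,13,10,14,1,9,6,15],[3152963,0],[0],[16,2,22,3,17,5,6,7,9,10,21,8,0,19,12,14,15,1,20,23,13,11,4,18],[9578566,0]],19),(4,1,[[],[8,2,15,3,14,5,20,7,19,9,4,13,17,18,10,1,16,23,11,0,22,21,6,12],[9208708,0]],12),(5,1,[[0,19,6,5,12,3,2,7,8,14,20,16,4,13,9,17,11,15,18,1,10,21,22,23],[],[16,20,15,3,8,5,2,17,11,10,22,7,12,19,23,9,21,1,6,0,4,14,18,13],[7340691,0]],13),(6,1,[[0,19,6,5,12,3,2,7,8,14,20,16,4,13,9,17,11,15,18,1,10,21,22,23],[],[12,23,0,3,21,5,17,22,10,8,1,7,15,20,13,11,9,4,6,14,2,16,19,18],[9076308,0],[0],[11,17,10,3,8,5,14,2,7,4,20,1,0,16,19,21,12,13,22,15,9,18,6,23],[4892628,0]],21)]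
/-- The check of the tree. -/
def treeOK1 (e : ℕ × ℕ × List (List ℕ) × ℕ) : Bool :=
  Nat.blt e.1 7 && Nat.blt e.2.1 7 && (ksL e.1 == ksL e.2.1 ++ [e.2.2.1]) && okW e.2.2.1 && Nat.blt e.2.2.2 30 &&
    (fW e.2.2.1 (eL e.2.1) == rootF e.2.2.2)
def wStar : List (List ℕ) := [[],[8,7,16,3,21,5,12,6,13,9,15,11,23,18,17,20,4,10,19,0,14,22,2,1],[4319047,0],[0],[17,0,2,3,6,5,12,13,7,9,19,18,4,8,14,16,22,1,20,21,11,10,15,23]]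
def h1Star : List (List ℕ) := [[],[8,7,16,3,21,5,12,6,13,9,15,11,23,18,17,20,4,10,19,0,14,22,2,1],[4319047,0],[0],[17,0,2,3,6,5,12,13,7,9,19,18,4,8,14,16,22,1,20,21,11,10,15,23],[1065303,0]]
def tS : ℕ := 0
def knownL : List ℕ := [5,7,19,12,13,21,0]
def ks2 : List (List (List ℕ)) := [[], []]
def k6 : List (List ℕ) := [[17,7,9,3,12,5,20,14,10,8,22,18,1,19,0,23,2,11,15,6,16,13,21,4],[99029,0],[]]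
def ks6 : List (List (List ℕ)) := List.replicate 6 k6
def t2Base : List ℤ × List (List (List ℕ) × ℕ) := ([0,0,0,4,0,4,0,0,0,0,0,0,0,0,0,0,0,0,0,0,0,0,0,0],[([],5),([],6)])
def t2Inst : List (List ℤ × List (List (List ℕ) × ℕ)) := [([4,4,0,0,0,0,0,0,0,0,0,0,0,0,0,0,0,0,0,0,0,0,0,0],[([],0),([[1065303,0]],0)]),([4,0,0,4,0,0,0,0,0,0,0,0,0,0,0,0,0,0,0,0,0,0,0,0],[([],1),([[1065303,0]],2)]),([4,0,0,0,0,4,0,0,0,0,0,0,0,0,0,0,0,0,0,0,0,0,0,0],[([],3),([[1065303,0]],3)]),([4,0,0,0,0,-4,0,0,0,0,0,0,0,0,0,0,0,0,0,0,0,0,0,0],[([],4),([[1065303,0]],4)]),([0,0,0,4,0,-4,0,0,0,0,0,0,0,0,0,0,0,0,0,0,0,0,0,0],[([],7),([],8)]),([2,2,2,2,0,0,2,0,0,2,0,2,0,0,0,0,0,0,0,0,0,0,2,0],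[([],9),([[12656663,0]],10)]),([0,2,0,2,2,2,0,0,0,2,2,0,0,0,0,0,0,0,0,0,0,0,2,2],[([],11),([[12535255,0]],12)]),([0,2,0,2,2,-2,0,0,0,2,2,0,0,0,0,0,0,0,0,0,0,0,2,-2],[([],13),([[12535255,0]],14)]),([2,0,2,0,2,2,2,0,0,0,2,2,0,0,0,0,0,0,0,0,0,0,0,2],[([],15),([[1402519,0]],15)]),([2,0,2,0,2,-2,2,0,0,0,2,2,0,0,0,0,0,0,0,0,0,0,0,-2],[([],16),([[1402519,0]],16)]),([0,2,0,0,2,0,2,0,2,0,0,2,0,0,0,0,0,0,0,0,0,2,2,2],[([],17),([[427666,0]],17)]),([-3,1,1,1,1,1,1,1,1,1,1,1,1,1,1,1,1,1,1,1,1,1,1,1],[([],18),([[4202192,0]],19)]),([3,-1,-1,-1,-1,-1,-1,-1,-1,-1,-1,-1,-1,-1,-1,-1,-1,-1,-1,-1,-1,-1,-1,-1],[([],20),([[8382229,0]],21)]),([1,1,1,-3,1,1,1,1,1,1,1,1,1,1,1,1,1,1,1,1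,1,1,1,1],[([],22),([[18,17,8,3,4,5,21,1,23,7,0,20,22,6,12,16,2,14,19,13,15,10,9,11],[396116,0]],23)]),([-1,-1,-1,3,-1,-1,-1,-1,-1,-1,-1,-1,-1,-1,-1,-1,-1,-1,-1,-1,-1,-1,-1,-1],[([],24),([[19,18,9,3,11,5,22,8,2,15,0,20,13,23,12,16,6,7,17,21,14,4,1,10],[7592067,0]],25)]),([1,1,1,1,1,-3,1,1,1,1,1,1,1,1,1,1,1,1,1,1,1,1,1,1],[([],26),([[18,17,8,3,4,5,21,1,23,7,0,20,22,6,12,16,2,14,19,13,15,10,9,11],[396116,0]],27)]),([-1,-1,-1,-1,-1,3,-1,-1,-1,-1,-1,-1,-1,-1,-1,-1,-1,-1,-1,-1,-1,-1,-1,-1],[([],28),([[19,18,9,3,11,5,22,8,2,15,0,20,13,23,12,16,6,7,17,21,14,4,1,10],[7592067,0]],29)])]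
def w6Base : List ℤ × List (List (List ℕ) × ℕ) := ([4,4,0,0,0,0,0,0,0,0,0,0,0,0,0,0,0,0,0,0,0,0,0,0],[([[19,20,2,3,12,5,22,8,17,16,4,13,18,7,1,21,23,6,9,15,0,14,11,10],[2810896,0]],19),([[15,9,16,3,13,5,11,17,2,21,19,0,7,10,18,23,22,8,6,14,1,12,20,4],[8283584,0]],18),([[4,13,0,3,20,5,19,8,14,17,7,6,16,11,18,15,9,23,10,1,22,21,2,12],[1584464,0]],19),([[21,4,9,3,11,5,15,1,7,22,18,17,12,0,13,10,14,20,2,16,8,23,6,19],[9471495,0]],18),([[20,2,22,3,13,5,7,16,6,1,11,23,19,21,0,18,17,15,9,14,10,12,8,4],[15073798,0]],17),([[1065303,0]],0)])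
def w6Inst : List (List ℤ × List (List (List ℕ) × ℕ)) := [([4,0,0,4,0,0,0,0,0,0,0,0,0,0,0,0,0,0,0,0,0,0,0,0],[([[16,20,15,3,8,5,2,17,11,10,22,7,12,19,23,9,21,1,6,0,4,14,18,13],[13703682,0]],11),([[10,4,7,3,20,5,16,17,1,9,19,14,22,18,6,0,12,15,8,2,23,11,21,13],[7622914,0]],19),([[23,20,10,3,8,5,4,9,22,14,16,13,19,18,0,15,6,7,1,11,12,17,2,21],[10032023,0]],18),([[4,11,15,3,20,5,16,18,8,1,17,7,13,19,23,0,12,14,9,6,2,10,22,21],[4299781,0]],19),([[21,17,15,3,20,5,1,2,9,16,19,14,23,10,13,6,22,8,7,4,12,11,18,0],[6036307,0]],24),([[1065303,0]],2)]),([-4,0,0,4,0,0,0,0,0,0,0,0,0,0,0,0,0,0,0,0,0,0,0,0],[([[9,14,8,3,20,5,10,11,21,18,4,2,22,16,13,12,15,23,6,19,0,17,1,7],[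3172097,0]],1),([[19,14,23,3,4,5,10,17,11,1,18,15,9,21,22,2,8,12,13,6,16,0,7,20],[1065303,0]],25),([[4538962,0]],24),([[4319047,0]],25),([[371206,0]],24),([],2)]),([-4,0,0,-4,0,0,0,0,0,0,0,0,0,0,0,0,0,0,0,0,0,0,0,0],[([[8,2,15,3,14,5,20,7,19,9,4,13,17,18,10,1,16,23,11,0,22,21,6,12],[5003780,0]],14),([[10,4,7,3,20,5,16,17,1,9,19,14,22,18,6,0,12,15,8,2,23,11,21,13],[4958407,0]],21),([[23,20,10,3,8,5,4,9,22,14,16,13,19,18,0,15,6,7,1,11,12,17,2,21],[10032023,0]],20),([[4,11,15,3,20,5,16,18,8,1,17,7,13,19,23,0,12,14,9,6,2,10,22,21],[8283584,0]],21),([[21,17,15,3,20,5,1,2,9,16,19,14,23,10,13,6,22,8,7,4,12,11,18,0],[6036307,0]],22),([],1)]),([0,4,0,4,0,0,0,0,0,0,0,0,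0,0,0,0,0,0,0,0,0,0,0,0],[([[12502786,0]],23),([[22,23,18,3,16,5,8,20,10,9,21,6,4,14,15,2,0,7,13,19,1,11,12,17],[5112513,0]],10),([[6,13,1,3,15,5,7,11,23,2,19,16,21,20,9,8,10,17,12,0,22,4,14,18],[5441617,0]],9),([[11,18,8,3,16,5,7,20,15,10,6,4,1,9,17,22,21,12,19,2,0,13,23,14]],10),([[19,18,9,3,11,5,22,8,2,15,0,20,13,23,12,16,6,7,17,21,14,4,1,10],[459847,0]],24),([[15,0,4,3,10,5,1,17,19,9,16,14,23,8,22,7,18,20,12,21,6,11,13,2],[4752467,0]],2)]),([-4,0,0,0,0,4,0,0,0,0,0,0,0,0,0,0,0,0,0,0,0,0,0,0],[([[8,2,15,3,14,5,20,7,19,9,4,13,17,18,10,1,16,23,11,0,22,21,6,12],[5003780,0]],11),([[20,14,6,3,12,5,22,7,9,17,8,2,10,4,0,21,23,13,16,1,15,19,18,11],[3294342,0]],19),(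[[4,11,15,3,20,5,16,18,8,1,17,7,13,19,23,0,12,14,9,6,2,10,22,21],[11314642,0]],18),([[23,11,22,3,17,5,10,4,1,6,2,20,12,21,0,18,13,8,9,14,7,19,15,16],[15962645,0]],19),([[371206,0]],28),([],3)]),([4,0,0,0,0,-4,0,0,0,0,0,0,0,0,0,0,0,0,0,0,0,0,0,0],[([[16,20,15,3,8,5,2,17,11,10,22,7,12,19,23,9,21,1,6,0,4,14,18,13],[13703682,0]],14),([[23,11,22,3,17,5,10,4,1,6,2,20,12,21,0,18,13,8,9,14,7,19,15,16],[12251089,0]],21),([[4,11,15,3,20,5,16,18,8,1,17,7,13,19,23,0,12,14,9,6,2,10,22,21],[11314642,0]],20),([[23,11,22,3,17,5,10,4,1,6,2,20,12,21,0,18,13,8,9,14,7,19,15,16],[13396944,0]],21),([[371206,0]],26),([[1065303,0]],4)]),([0,4,0,0,0,4,0,0,0,0,0,0,0,0,0,0,0,0,0,0,0,0,0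,0],[([[16,2,22,3,17,5,6,7,9,10,21,8,0,19,12,14,15,1,20,23,13,11,4,18],[5571333,0]],29),([[17,8,22,3,13,5,21,11,20,23,7,10,6,18,2,16,15,19,1,12,4,0,14,9],[9178690,0]],15),([[0,12,6,3,16,5,7,2,8,9,23,13,20,19,22,4,15,10,18,11,1,14,21,17],[2263063,0]],15),([[22,15,18,3,8,5,1,2,16,19,11,9,21,4,23,13,6,17,12,0,10,14,20,7],[13938692,0]],15),([[19,18,9,3,11,5,22,8,2,15,0,20,13,23,12,16,6,7,17,21,14,4,1,10],[459847,0]],28),([[15,0,4,3,10,5,1,17,19,9,16,14,23,8,22,7,18,20,12,21,6,11,13,2],[4752467,0]],3)]),([0,4,0,0,0,-4,0,0,0,0,0,0,0,0,0,0,0,0,0,0,0,0,0,0],[([[12502786,0]],27),([[0,16,1,3,8,5,22,19,7,14,2,10,15,17,6,9,23,4,13,18,12,11,20,21],[2106966,0]],16),([[22,7,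4,3,20,5,16,17,14,11,19,1,10,18,12,0,6,21,13,23,2,9,15,8],[1769924,0]],16),([[10,14,16,3,15,5,17,8,7,2,13,12,11,0,6,21,9,23,1,4,22,20,19,18]],16),([[19,18,9,3,11,5,22,8,2,15,0,20,13,23,12,16,6,7,17,21,14,4,1,10],[15846096,0]],26),([[15,0,4,3,10,5,1,17,19,9,16,14,23,8,22,7,18,20,12,21,6,11,13,2],[4752467,0]],4)]),([4,0,0,0,0,0,0,0,0,4,0,0,0,0,0,0,0,0,0,0,0,0,0,0],[([[8,15,1,3,20,5,11,4,13,17,10,23,21,16,22,12,7,6,2,18,0,19,9,14],[9968772,0]],19),([[14,8,19,3,9,5,13,15,2,20,12,17,21,22,4,11,23,10,18,6,16,7,1,0],[12624578,0]],9),([[17,6,12,3,7,5,21,16,23,8,18,1,4,11,22,13,14,10,9,15,20,19,2,0],[4403780,0]],10),([[23,11,1,3,22,5,0,14,17,19,18,20,13,21,7,9,8,12,2,1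5,10,16,4,6],[140167,0]],9),([[22,23,18,3,16,5,8,20,10,9,21,6,4,14,15,2,0,7,13,19,1,11,12,17],[2825607,0]],20),([[0,14,18,3,8,5,19,20,17,1,15,12,23,11,21,7,10,9,16,13,2,4,6,22],[3031301,0]],0)]),([-4,0,0,0,0,0,0,0,0,4,0,0,0,0,0,0,0,0,0,0,0,0,0,0],[([[9,14,8,3,20,5,10,11,21,18,4,2,22,16,13,12,15,23,6,19,0,17,1,7],[9866579,0]],21),([[17,2,11,3,18,5,4,7,9,22,1,23,19,20,6,14,21,15,0,13,8,10,12,16],[9537812,0]],16),([[17,7,2,3,11,5,4,18,10,8,19,14,1,22,13,6,9,12,21,23,16,0,15,20],[459847,0]],16),([[13,14,21,3,15,5,19,20,4,16,7,23,22,11,10,8,18,1,9,6,17,2,0,12],[1100945,0]],16),([[19,17,6,3,20,5,18,11,4,15,9,8,12,23,21,2,0,7,22,13,1,16,10,14],[12747077,0]],20),([[0,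14,18,3,8,5,19,20,17,1,15,12,23,11,21,7,10,9,16,13,2,4,6,22]],0)]),([4,0,0,0,0,0,0,0,0,-4,0,0,0,0,0,0,0,0,0,0,0,0,0,0],[([[8,15,1,3,20,5,11,4,13,17,10,23,21,16,22,12,7,6,2,18,0,19,9,14],[2488082,0]],19),([[17,2,11,3,18,5,4,7,9,22,1,23,19,20,6,14,21,15,0,13,8,10,12,16],[8688833,0]],15),([[17,7,2,3,11,5,4,18,10,8,19,14,1,22,13,6,9,12,21,23,16,0,15,20],[6703248,0]],15),([[21,7,22,3,14,5,17,20,11,16,15,2,13,10,4,9,19,8,1,23,18,6,0,12],[15864000,0]],15),([[19,17,6,3,20,5,18,11,4,15,9,8,12,23,21,2,0,7,22,13,1,16,10,14],[12747077,0]],18),([[0,14,18,3,8,5,19,20,17,1,15,12,23,11,21,7,10,9,16,13,2,4,6,22],[1460739,0]],0)])]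
/-- The check of an instance. -/
def instOK (ks : List (List (List ℕ))) (p : List ℤ × List (List (List ℕ) × ℕ)) : Bool :=
  inLattice p.1 && chkW tf rootF ks p.2 p.1 && (p.2.map Prod.snd).all (fun τ => Nat.blt τ 30)
/-- The rows of the walks. -/
def rowOf (b p : List ℤ × List (List (List ℕ) × ℕ)) : List ℤ := diffRow 30 (p.2.map Prod.snd) (b.2.map Prod.snd)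
/-- All the rows. -/
def rowsAll : List (List ℤ) :=
  knownL.map (unitRow 30) ++ t2Inst.map (rowOf t2Base) ++ w6Inst.map (rowOf w6Base)
set_option maxHeartbeats 0 in
def rowsLit : List (List ℤ) := [[0,0,0,0,0,1,0,0,0,0,0,0,0,0,0,0,0,0,0,0,0,0,0,0,0,0,0,0,0,0],[0,0,0,0,0,0,0,1,0,0,0,0,0,0,0,0,0,0,0,0,0,0,0,0,0,0,0,0,0,0],[0,0,0,0,0,0,0,0,0,0,0,0,0,0,0,0,0,0,0,1,0,0,0,0,0,0,0,0,0,0],[0,0,0,0,0,0,0,0,0,0,0,0,1,0,0,0,0,0,0,0,0,0,0,0,0,0,0,0,0,0],[0,0,0,0,0,0,0,0,0,0,0,0,0,1,0,0,0,0,0,0,0,0,0,0,0,0,0,0,0,0],[0,0,0,0,0,0,0,0,0,0,0,0,0,0,0,0,0,0,0,0,0,1,0,0,0,0,0,0,0,0],[1,0,0,0,0,0,0,0,0,0,0,0,0,0,0,0,0,0,0,0,0,0,0,0,0,0,0,0,0,0],[2,0,0,0,0,-1,-1,0,0,0,0,0,0,0,0,0,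0,0,0,0,0,0,0,0,0,0,0,0,0,0],[0,1,1,0,0,-1,-1,0,0,0,0,0,0,0,0,0,0,0,0,0,0,0,0,0,0,0,0,0,0,0],[0,0,0,2,0,-1,-1,0,0,0,0,0,0,0,0,0,0,0,0,0,0,0,0,0,0,0,0,0,0,0],[0,0,0,0,2,-1,-1,0,0,0,0,0,0,0,0,0,0,0,0,0,0,0,0,0,0,0,0,0,0,0],[0,0,0,0,0,-1,-1,1,1,0,0,0,0,0,0,0,0,0,0,0,0,0,0,0,0,0,0,0,0,0],[0,0,0,0,0,-1,-1,0,0,1,1,0,0,0,0,0,0,0,0,0,0,0,0,0,0,0,0,0,0,0],[0,0,0,0,0,-1,-1,0,0,0,0,1,1,0,0,0,0,0,0,0,0,0,0,0,0,0,0,0,0,0],[0,0,0,0,0,-1,-1,0,0,0,0,0,0,1,1,0,0,0,0,0,0,0,0,0,0,0,0,0,0,0],[0,0,0,0,0,-1,-1,0,0,0,0,0,0,0,0,2,0,0,0,0,0,0,0,0,0,0,0,0,0,0],[0,0,0,0,0,-1,-1,0,0,0,0,0,0,0,0,0,2,0,0,0,0,0,0,0,0,0,0,0,0,0],[0,0,0,0,0,-1,-1,0,0,0,0,0,0,0,0,0,0,2,0,0,0,0,0,0,0,0,0,0,0,0]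,[0,0,0,0,0,-1,-1,0,0,0,0,0,0,0,0,0,0,0,1,1,0,0,0,0,0,0,0,0,0,0],[0,0,0,0,0,-1,-1,0,0,0,0,0,0,0,0,0,0,0,0,0,1,1,0,0,0,0,0,0,0,0],[0,0,0,0,0,-1,-1,0,0,0,0,0,0,0,0,0,0,0,0,0,0,0,1,1,0,0,0,0,0,0],[0,0,0,0,0,-1,-1,0,0,0,0,0,0,0,0,0,0,0,0,0,0,0,0,0,1,1,0,0,0,0],[0,0,0,0,0,-1,-1,0,0,0,0,0,0,0,0,0,0,0,0,0,0,0,0,0,0,0,1,1,0,0],[0,0,0,0,0,-1,-1,0,0,0,0,0,0,0,0,0,0,0,0,0,0,0,0,0,0,0,0,0,1,1],[-1,0,1,0,0,0,0,0,0,0,0,1,0,0,0,0,0,-1,-1,0,0,0,0,0,1,0,0,0,0,0],[-1,1,1,0,0,0,0,0,0,0,0,0,0,0,0,0,0,-1,-2,-2,0,0,0,0,2,2,0,0,0,0],[-1,1,0,0,0,0,0,0,0,0,0,0,0,0,1,0,0,-1,-2,-2,1,2,1,0,0,0,0,0,0,0],[-1,0,1,0,0,0,0,0,0,1,2,0,0,0,0,0,0,-1,-2,-2,0,0,0,1,1,0,0,0,0,0],[-1,0,0,1,0,0,0,0,0,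0,0,1,0,0,0,0,0,-1,-1,0,0,0,0,0,0,0,0,0,1,0],[-1,0,0,0,1,0,0,0,0,0,0,0,0,0,1,0,0,-1,-2,-2,1,2,0,0,0,0,1,0,0,0],[-1,0,0,1,0,0,0,0,0,0,0,0,0,0,0,3,0,-1,-2,-2,0,0,0,0,0,0,0,0,1,1],[-1,0,0,0,1,0,0,0,0,0,0,0,0,0,0,0,3,-1,-2,-2,0,0,0,0,0,0,1,1,0,0],[0,0,0,0,0,0,0,0,0,2,1,0,0,0,0,0,0,-1,-2,-1,1,0,0,0,0,0,0,0,0,0],[0,0,0,0,0,0,0,0,0,0,0,0,0,0,0,0,3,-1,-2,-2,1,1,0,0,0,0,0,0,0,0],[0,0,0,0,0,0,0,0,0,0,0,0,0,0,0,3,0,-1,-1,-1,0,0,0,0,0,0,0,0,0,0]]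
set_option maxHeartbeats 0 in
def cLit : List (List ℤ) := [[0,0,0,0,0,0,1,0,0,0,0,0,0,0,0,0,0,0,0,0,0,0,0,0,0,0,0,0,0,0,0,0,0,0,0],[0,0,0,-1,1,0,1,-1,2,0,0,0,-3,1,-1,0,0,0,1,-2,-1,4,0,0,-1,-2,1,1,0,0,0,0,1,0,0],[0,0,0,1,-1,0,1,0,-1,0,0,0,3,-1,1,0,0,0,-1,2,1,-4,0,0,1,2,-1,-1,0,0,0,0,-1,0,0],[0,0,0,0,0,0,1,0,2,-1,0,0,0,0,0,-3,0,0,1,0,0,4,0,-3,0,-2,0,0,0,0,3,0,0,0,-1],[0,0,0,0,0,0,1,0,2,0,-1,0,0,0,0,0,-3,0,0,1,0,4,-3,0,0,-2,0,0,0,0,0,3,0,-1,0],[1,0,0,0,0,0,0,0,0,0,0,0,0,0,0,0,0,0,0,0,0,0,0,0,0,0,0,0,0,0,0,0,0,0,0],[-1,0,0,0,0,0,2,-1,0,0,0,0,0,0,0,0,0,0,0,0,0,0,0,0,0,0,0,0,0,0,0,0,0,0,0],[0,1,0,0,0,0,0,0,0,0,0,0,0,0,0,0,0,0,0,0,0,0,0,0,0,0,0,0,0,0,0,0,0,0,0],[0,-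1,0,0,0,0,2,-1,0,0,0,1,0,0,0,0,0,0,0,0,0,0,0,0,0,0,0,0,0,0,0,0,0,0,0],[0,0,-1,0,0,1,1,-1,1,0,0,0,-1,0,0,0,0,0,0,-1,0,2,0,0,0,-1,0,0,0,0,0,0,1,0,0],[0,0,1,0,0,-1,1,0,-1,0,0,0,2,0,0,0,0,0,0,1,0,-2,0,0,0,1,0,0,0,0,0,0,-1,0,0],[0,0,0,-1,0,0,2,-1,0,0,0,0,0,1,0,0,0,0,0,0,0,0,0,0,0,0,0,0,0,0,0,0,0,0,0],[0,0,0,1,0,0,0,0,0,0,0,0,0,0,0,0,0,0,0,0,0,0,0,0,0,0,0,0,0,0,0,0,0,0,0],[0,0,0,0,1,0,0,0,0,0,0,0,0,0,0,0,0,0,0,0,0,0,0,0,0,0,0,0,0,0,0,0,0,0,0],[0,0,0,0,-1,0,2,-1,0,0,0,0,0,0,1,0,0,0,0,0,0,0,0,0,0,0,0,0,0,0,0,0,0,0,0],[0,0,0,0,0,0,1,-1,-1,1,0,0,0,0,0,2,0,0,-1,0,0,-2,0,2,0,1,0,0,0,0,-2,0,0,0,1],[0,0,0,0,0,0,1,-1,-1,0,1,0,0,0,0,0,2,0,0,-1,0,-2,2,0,0,1,0,0,0,0,0,-2,0,1,0]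,[0,0,0,0,0,0,1,-1,1,0,0,0,0,0,0,0,0,0,-2,0,0,2,0,0,0,-1,0,0,0,0,0,0,0,0,0],[0,0,-1,0,0,0,2,-1,0,0,0,0,0,0,0,0,0,0,1,0,0,0,0,0,0,0,0,0,0,0,0,0,0,0,0],[0,0,1,0,0,0,0,0,0,0,0,0,0,0,0,0,0,0,0,0,0,0,0,0,0,0,0,0,0,0,0,0,0,0,0],[0,0,0,0,0,-1,2,-1,0,0,0,0,0,0,0,0,0,0,0,1,0,0,0,0,0,0,0,0,0,0,0,0,0,0,0],[0,0,0,0,0,1,0,0,0,0,0,0,0,0,0,0,0,0,0,0,0,0,0,0,0,0,0,0,0,0,0,0,0,0,0],[0,0,0,1,0,-1,1,0,-1,0,0,0,3,-1,0,0,0,0,-1,1,1,-2,0,0,1,1,0,-1,0,0,0,0,-1,0,0],[0,0,0,-1,0,1,1,-1,1,0,0,0,-3,1,0,0,0,0,1,-1,0,2,0,0,-1,-1,0,1,0,0,0,0,1,0,0],[0,0,-1,0,1,0,1,-1,2,0,0,0,-3,0,-1,0,0,0,0,-2,-1,6,0,0,0,-3,1,1,0,0,0,0,1,0,0],[0,0,1,0,-1,0,1,0,-2,0,0,0,3,0,1,0,0,0,0,2,1,-5,0,0,0,3,-1,-1,0,0,0,0,-1,0,0],[0,0,0,0,1,-1,1,-1,-1,0,1,0,0,0,-1,0,3,0,0,-2,0,-2,3,0,0,1,0,0,0,1,0,-3,0,1,0],[0,0,0,0,-1,1,1,0,1,0,-1,0,0,0,1,0,-3,0,0,2,0,2,-2,0,0,-1,0,0,0,-1,0,3,0,-1,0],[0,0,-1,1,0,0,1,-1,-1,1,0,0,0,-1,0,3,0,0,-2,0,0,-2,0,3,0,1,0,0,1,0,-3,0,0,0,1],[0,0,1,-1,0,0,1,0,1,-1,0,0,0,1,0,-3,0,0,2,0,0,2,0,-2,0,-1,0,0,-1,0,3,0,0,0,-1]]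
def sm : ℕ := 1065303
def xS : List (List ℕ) := [[7,2,1,3,4,5,19,0,13,17,10,11,12,8,15,14,16,9,22,6,20,23,18,21],[7,2,1,3,4,5,19,0,13,17,10,11,12,8,15,14,16,9,22,6,20,23,18,21],[4,2,17,3,12,5,6,23,20,0,11,13,22,7,10,1,9,18,8,16,15,14,19,21],[9,15,1,3,0,5,6,13,18,16,14,10,4,11,21,20,19,2,17,22,8,23,12,7],[1065303,0],[1065303,0]]
def xL (x : ℕ) : List ℕ := xS.getD x []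
def wSL : List ℕ := [2,2,0,2,2,0,3,5,1,3,4,2,0,2,1,3,3,1,3,3]
def gensU : List (List ℕ × List (List ℕ) × List (List (List ℕ))) := [([0,1,2,3,21,5,6,18,7,22,20,9,13,15,23,12,4,14,8,10,19,16,11,17],[],[[],[[],[8,7,16,3,21,5,12,6,13,9,15,11,23,18,17,20,4,10,19,0,14,22,2,1],[4319047,0],[0],[10,1,6,3,0,5,15,13,4,9,8,16,23,21,19,17,11,2,7,14,22,18,12,20],[1065303,0]],[[],[1,16,6,3,12,5,18,9,13,20,10,8,15,19,21,7,2,0,17,14,23,22,11,4],[2183687,0]]]),([0,1,2,3,21,5,16,13,9,8,18,15,20,7,14,11,6,17,10,22,12,4,19,23],[],[[],[[],[8,7,16,3,21,5,12,6,13,9,15,11,23,18,17,20,4,10,19,0,14,22,2,1],[4319047,0],[0],[10,1,6,3,0,5,15,13,4,9,8,16,23,21,19,17,11,2,7,14,22,18,12,20],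[1065303,0]],[[],[1,16,6,3,12,5,18,9,13,20,10,8,15,19,21,7,2,0,17,14,23,22,11,4],[2183687,0]]]),([0,1,2,3,13,5,22,20,4,6,18,11,21,8,23,10,7,14,15,12,16,19,9,17],[],[[],[[],[8,7,16,3,21,5,12,6,13,9,15,11,23,18,17,20,4,10,19,0,14,22,2,1],[4319047,0],[0],[10,1,6,3,0,5,15,13,4,9,8,16,23,21,19,17,11,2,7,14,22,18,12,20],[1065303,0]],[[],[1,16,6,3,12,5,18,9,13,20,10,8,15,19,21,7,2,0,17,14,23,22,11,4],[2183687,0]]]),([0,1,20,3,4,5,21,23,7,13,11,18,19,14,9,15,6,12,10,17,22,16,2,8],[],[[],[[],[8,7,16,3,21,5,12,6,13,9,15,11,23,18,17,20,4,10,19,0,14,22,2,1],[4319047,0],[0],[22,4,10,3,2,5,15,16,21,12,6,18,8,17,23,11,0,1,19,13,7,20,14,9],[1065303,0]],[[],[7,8,22,3,17,5,10,1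1,2,0,13,9,6,19,12,23,1,4,14,20,18,16,15,21],[1186194,0]]]),([0,7,2,3,4,5,9,10,16,14,1,19,12,23,6,22,17,8,13,21,15,11,20,18],[],[[],[[],[8,7,16,3,21,5,12,6,13,9,15,11,23,18,17,20,4,10,19,0,14,22,2,1],[4319047,0],[0],[16,4,7,3,15,5,18,11,13,17,1,6,22,10,23,0,8,2,21,20,14,9,12,19],[1065303,0]],[[],[1,16,6,3,12,5,18,9,13,20,10,8,15,19,21,7,2,0,17,14,23,22,11,4],[1647171,0]]]),([2106966,0],[],[[],[[],[8,7,16,3,21,5,12,6,13,9,15,11,23,18,17,20,4,10,19,0,14,22,2,1],[4319047,0],[0],[12,8,21,3,23,5,2,11,19,6,20,1,13,18,22,9,15,7,0,14,16,10,17,4],[11010247,0]],[[],[4,22,10,3,13,5,17,21,18,19,0,20,11,8,23,15,14,9,2,12,6,16,7,1],[7177669,0]]]),([596054,0],[],[[],[[],[8,7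,16,3,21,5,12,6,13,9,15,11,23,18,17,20,4,10,19,0,14,22,2,1],[4319047,0],[0],[12,8,21,3,23,5,2,11,19,6,20,1,13,18,22,9,15,7,0,14,16,10,17,4],[11010247,0]],[[],[4,22,10,3,13,5,17,21,18,19,0,20,11,8,23,15,14,9,2,12,6,16,7,1],[7177669,0]]]),([2425238,0],[],[[],[[],[8,7,16,3,21,5,12,6,13,9,15,11,23,18,17,20,4,10,19,0,14,22,2,1],[4319047,0],[0],[19,6,15,3,20,5,1,4,12,13,14,21,16,18,23,7,2,9,17,22,8,10,11,0]],[[],[15,10,12,3,4,5,13,22,11,0,14,20,18,16,23,17,7,2,9,21,1,6,19,8],[381252,0]]]),([8407702,0],[],[[],[[],[8,7,16,3,21,5,12,6,13,9,15,11,23,18,17,20,4,10,19,0,14,22,2,1],[4319047,0],[0],[18,6,7,3,12,5,15,17,23,14,4,11,16,1,0,19,20,8,22,13,10,21,9,2]],[[],[8,16,1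0,3,4,5,9,6,11,23,2,20,22,12,1,14,15,17,21,13,0,18,19,7],[9657367,0]]]),([1613974,0],[],[[],[[],[8,7,16,3,21,5,12,6,13,9,15,11,23,18,17,20,4,10,19,0,14,22,2,1],[4319047,0],[0],[18,6,7,3,12,5,15,17,23,14,4,11,16,1,0,19,20,8,22,13,10,21,9,2]],[[],[8,16,10,3,4,5,9,6,11,23,2,20,22,12,1,14,15,17,21,13,0,18,19,7],[9657367,0]]]),([4231958,0],[],[[],[[],[8,7,16,3,21,5,12,6,13,9,15,11,23,18,17,20,4,10,19,0,14,22,2,1],[4319047,0],[0],[9,7,22,3,21,5,15,11,12,10,23,8,19,4,16,14,1,6,13,17,18,2,0,20],[140167,0]],[[],[20,6,4,3,10,5,1,18,7,22,0,13,9,15,23,11,2,8,14,21,16,19,12,17],[5473687,0]]]),([9045270,0],[],[[],[[],[8,7,16,3,21,5,12,6,13,9,15,11,23,18,17,20,4,10,19,0,14,2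2,2,1],[4319047,0],[0],[9,7,22,3,21,5,15,11,12,10,23,8,19,4,16,14,1,6,13,17,18,2,0,20],[140167,0]],[[],[20,6,4,3,10,5,1,18,7,22,0,13,9,15,23,11,2,8,14,21,16,19,12,17],[5473687,0]]]),([36294,0],[],[[],[[],[8,7,16,3,21,5,12,6,13,9,15,11,23,18,17,20,4,10,19,0,14,22,2,1],[4319047,0],[0],[6,9,2,3,7,5,20,10,1,13,23,15,17,21,12,0,22,4,19,11,18,16,8,14],[1065303,0]],[[],[1,16,6,3,12,5,18,9,13,20,10,8,15,19,21,7,2,0,17,14,23,22,11,4],[1647171,0]]]),([9503954,0],[],[[],[[],[8,7,16,3,21,5,12,6,13,9,15,11,23,18,17,20,4,10,19,0,14,22,2,1],[4319047,0],[0],[13,2,4,3,10,5,9,20,21,22,14,18,23,17,1,15,16,8,19,12,6,0,7,11],[2263063,0]],[[],[20,6,4,3,10,5,1,18,7,22,0,13,9,15,23,1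1,2,8,14,21,16,19,12,17],[1302533,0]]]),([0,7,2,3,4,5,9,10,16,14,1,19,12,23,6,22,17,8,13,21,15,11,20,18],[[20,7,23,3,17,5,2,11,18,1,16,22,14,15,0,6,13,21,9,19,4,12,8,10],[6447171,0],[],[0,12,15,3,4,5,13,8,17,10,11,19,6,1,7,2,18,14,21,9,22,23,20,16],[1250945,0],[0],[10,4,2,3,12,5,16,0,9,22,7,6,1,14,18,15,11,17,13,19,23,20,8,21]],[[],[[],[8,7,16,3,21,5,12,6,13,9,15,11,23,18,17,20,4,10,19,0,14,22,2,1],[4319047,0],[0],[16,4,7,3,15,5,18,11,13,17,1,6,22,10,23,0,8,2,21,20,14,9,12,19],[1065303,0]],[[],[1,16,6,3,12,5,18,9,13,20,10,8,15,19,21,7,2,0,17,14,23,22,11,4],[1647171,0]]])]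
/-- The word of a generator. -/
def wOf (e : List ℕ × List (List ℕ) × List (List (List ℕ))) : List (List ℕ) := e.2.1 ++ [e.1] ++ invW e.2.1
/-- The check of a generator. -/
def genOK (e : List ℕ × List (List ℕ) × List (List (List ℕ))) : Bool :=
  okL e.1 && okW e.2.1 && e.2.1.all invOK && okW (wOf e) && chainChk tf [e.1] id e.2.2 && (e.2.2 != []) &&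
    (fW e.2.1 (yA 4) == chainF tf id e.2.2 a0L) && (lF e.1 (fW e.2.1 (yA 4)) == fW e.2.1 (yA 4))
def monoT : List (List ℕ) := [[0,1,2,3,21,5,6,18,7,22,20,9,13,15,23,12,4,14,8,10,19,16,11,17],[0,1,2,3,21,5,16,13,9,8,18,15,20,7,14,11,6,17,10,22,12,4,19,23],[0,1,2,3,13,5,22,20,4,6,18,11,21,8,23,10,7,14,15,12,16,19,9,17],[0,1,20,3,4,5,21,23,7,13,11,18,19,14,9,15,6,12,10,17,22,16,2,8],[0,7,2,3,4,5,9,10,16,14,1,19,12,23,6,22,17,8,13,21,15,11,20,18],[2106966,0],[596054,0],[2425238,0],[8407702,0],[1613974,0],[4231958,0],[9045270,0],[36294,0],[9503954,0]]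
def permT : List (List ℕ) := [[0,1,2,3,21,5,6,18,7,22,20,9,13,15,23,12,4,14,8,10,19,16,11,17],[0,1,2,3,21,5,16,13,9,8,18,15,20,7,14,11,6,17,10,22,12,4,19,23],[0,1,2,3,13,5,22,20,4,6,18,11,21,8,23,10,7,14,15,12,16,19,9,17],[0,1,20,3,4,5,21,23,7,13,11,18,19,14,9,15,6,12,10,17,22,16,2,8],[0,7,2,3,4,5,9,10,16,14,1,19,12,23,6,22,17,8,13,21,15,11,20,18]]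
def permS : List (List ℕ) := [[0,5,10,15,80,25,30,40,90,55,95,110,75,60,85,65,105,115,35,100,50,20,45,70],[0,5,10,15,105,25,80,65,45,40,90,75,100,35,70,55,30,85,50,110,60,20,95,115],[0,5,10,15,40,25,45,80,65,110,75,55,95,20,85,90,100,115,50,105,35,60,30,70],[0,5,110,15,20,25,80,40,115,70,90,50,85,45,65,75,105,95,55,60,10,30,100,35],[0,50,10,15,20,25,70,5,85,30,35,105,60,90,45,100,40,80,115,55,110,95,75,65]]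
def vgL : List ℤ := [3,-1,1,3,1,1,3,7,-1,5,1,1,1,3,1,1,-1,3,3,-1,1,3,-3,1]
def vF : List ℤ := [0,0,0,0,0,4,4,0,0,0,0,0,0,0,0,0,0,0,0,0,0,0,0,0]

end D

end Cfsg.Agent.Lib.Sporadic.Co1Mult
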