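import Cfsg.Agent.Lib.Sporadic.Co1Mult.DataRun
import Cfsg.Agent.Lib.Sporadic.Co1Mult.RunC
import Cfsg.Agent.Lib.Sporadic.Co1Mult.Chk1
import Cfsg.Agent.Lib.Sporadic.Co1Mult.Chk1a
import Cfsg.Agent.Lib.Sporadic.Co1Mult.Chk1b
import Cfsg.Agent.Lib.Sporadic.Co1Mult.Chk1c
import Cfsg.Agent.Lib.Sporadic.Co1Mult.Chk1d
import Cfsg.Agent.Lib.Sporadic.Co1Mult.Chk2
import Cfsg.Agent.Lib.Sporadic.Co1Mult.Chk3
import Cfsg.Agent.Lib.Sporadic.Co1Mult.Chk4

/-!
# The Schur multiplier of `Co₁`: the stabilisers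
-/

set_option autoImplicit false

namespace Cfsg.Agent.Lib.Sporadic.Co1Mult

open MulAction Cfsg Cfsg.Agent.Lib.Sporadic.GolayCore Cfsg.Agent.Lib.Sporadic.LeechBasic
  Cfsg.Agent.Lib.Sporadic.LeechNorm Cfsg.Agent.Lib.Sporadic.LeechFacts
  Cfsg.Agent.Lib.Sporadic.LeechAut Cfsg.Agent.Lib.Sporadic.LeechMat
  Cfsg.Agent.Lib.Sporadic.LeechKey Cfsg.Agent.Lib.Sporadic.LeechEnum
  Cfsg.Agent.Lib.Sporadic.LeechA0 Cfsg.Agent.Lib.Sporadic.LeechMcLData Cfsg.Agent.Lib.Sporadic.LeechMcL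
  Cfsg.Agent.Lib.Sporadic.LeechShape Cfsg.Agent.Lib.Sporadic.LeechTree
  Cfsg.Agent.Lib.Sporadic.M24Chain Cfsg.Agent.Lib.Sporadic.Co3Mult
  Cfsg.Agent.Lib.Compute.SchurLin Cfsg.Agent.Lib.Compute.ToddCoxeterCore
open Cfsg.Agent.Lib.Sporadic.Co2Mult (G2 pG one_acts fix_of)

/-! ### The element `t` -/

theorem tm_code : ofMask D.tm ∈ supports (golayCode : Set (GolayPt → ZMod 2)) := by
  have h := D.tm_code
  rw [List.contains_iff_mem] at h
  exact (ofMask_mem_supports_iff (codeList_lt h)).2 h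

/-- The element `t`. -/
noncomputable def tC : ↥Co0 := signCo0 (ofMask D.tm) tm_code

theorem tC_acts : Acts tC D.tf := acts_sign tm_code

theorem tC_inv : tC⁻¹ = tC := by
  apply inv_eq_of_mul_eq_one_left
  exact eq_of_frame (f := fun l => D.tf (D.tf l)) (f' := id) (tC_acts.comp tC_acts) one_acts D.tf_tf

/-! ### The double cosets -/

/-- The representatives of the double cosets. -/
noncomputable def EE (a : ℕ) : ↥Co0 := wG tC (gw (D.ksL a))

theorem ks_chk {a : ℕ} (ha : a < 7) : (D.ksL a).all okW = true ∧ okW (D.gL a) = true ∧ fW (D.gL a) (D.eL a) = D.yA a := by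
  have h := List.all_eq_true.1 D.chk_ks a (List.mem_range.2 ha)
  simp only [Bool.and_eq_true, beq_iff_eq] at h
  exact ⟨h.1.1, h.1.2, h.2⟩

theorem EE_acts {a : ℕ} (ha : a < 7) : Acts (EE a) (wF D.tf (D.ksL a)) :=
  wG_acts tC_acts _ (ks_chk ha).1

theorem LV_e {a : ℕ} (ha : a < 7) : LV (D.eL a) := (EE_acts ha).mem LV_a0

theorem EE_smul {a : ℕ} (ha : a < 7) : EE a • a0 = vl (D.eL a) := by
  have h : EE a • vl a0L = vl (wF D.tf (D.ksL a) a0L) := acts_vl (EE_acts ha) LV_a0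
  rw [vl_a0] at h
  exact h

theorem LV_y {a : ℕ} (ha : a < 7) : LV (D.yA a) := by
  have h := (kC_acts (ks_chk ha).2.1).mem (LV_e ha)
  rwa [(ks_chk ha).2.2] at h

theorem dd_smul {a : ℕ} (ha : a < 7) : kC (D.gL a) • (EE a • a0) = vl (D.yA a) := by
  rw [EE_smul ha]
  have h : kC (D.gL a) • vl (D.eL a) = vl (fW (D.gL a) (D.eL a)) := acts_vl (kC_acts (ks_chk ha).2.1) (LV_e ha)
  rw [h, (ks_chk ha).2.2]

theorem ks_mem {a : ℕ} : ∀ k ∈ gw (D.ksL a), k ∈ G2 := by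
  intro k hk
  obtain ⟨w, -, rfl⟩ := List.mem_map.1 hk
  exact kC_mem w

theorem EE0 : EE 0 = 1 := rfl

theorem EE1 : EE 1 = tC := by
  show 1 * tC * 1 = tC
  group

theorem tC_a0 : tC • a0 = vl (D.yA 1) := by
  have h : tC • vl a0L = vl (D.tf a0L) := acts_vl tC_acts LV_a0
  rw [vl_a0, D.chk_t] at h
  exact h

/-! ### The vectors -/

theorem Y0 : vl (D.yA 0) = a0 := by
  rw [D.chk_neg.2.2.2.1]
  exact vl_a0

theorem Y6 : vl (D.yA 6) = b0El := by
  rw [D.chk_neg.2.2.2.2]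
  exact Co2Mult.vl_b0

theorem Y2 : vl (D.yA 2) = -a0 := by
  rw [← D.chk_neg.1, vl_negL (LV_y (by norm_num)) (by rw [D.chk_neg.1]; exact LV_y (by norm_num)), Y0]

theorem Y3 : vl (D.yA 3) = -b0El := by
  rw [← D.chk_neg.2.1, vl_negL (LV_y (by norm_num)) (by rw [D.chk_neg.2.1]; exact LV_y (by norm_num)), Y6]

theorem Y5 : vl (D.yA 5) = -vl (D.yA 4) := by
  rw [← D.chk_neg.2.2.1, vl_negL (LV_y (by norm_num)) (by rw [D.chk_neg.2.2.1]; exact LV_y (by norm_num))]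

theorem fix_neg {q : ↥Co0} {x : leechLattice} (h : q • x = x) : q • (-x) = -x := by
  rw [co0_map_neg, h]

/-! ### The generators of the stabiliser of `Z` -/

/-- A generator. -/
abbrev GE := List ℕ × List (List ℕ) × List (List (List ℕ))

/-- The element of a generator. -/
noncomputable def gE (e : GE) : ↥Co0 := kC (D.wOf e)

/-- The stabiliser of `Z`. -/
noncomputable def QU : Subgroup Co0 := Subgroup.closure (gE '' {e | e ∈ D.gensU})

theorem genOK_of {e : GE} (he : e ∈ D.gensU) : D.genOK e = true := List.all_eq_true.1 D.chk_genU e he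

theorem genOK_parts {e : GE} (h : D.genOK e = true) :
    okL e.1 = true ∧ okW e.2.1 = true ∧ e.2.1.all invOK = true ∧ okW (D.wOf e) = true ∧
      chainChk D.tf [e.1] id e.2.2 = true ∧ e.2.2 ≠ [] ∧
      fW e.2.1 (D.yA 4) = chainF D.tf id e.2.2 a0L ∧ lF e.1 (fW e.2.1 (D.yA 4)) = fW e.2.1 (D.yA 4) := by
  simp only [D.genOK, Bool.and_eq_true, beq_iff_eq, bne_iff_ne, ne_eq] at h
  obtain ⟨⟨⟨⟨⟨⟨⟨h1, h2⟩, h3⟩, h4⟩, h5⟩, h6⟩, h7⟩, h8⟩ := h
  exact ⟨h1, h2, h3, h4, h5, h6, h7, h8⟩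

theorem gE_eq {e : GE} (h : D.genOK e = true) : gE e = (kC e.2.1)⁻¹ * kC [e.1] * kC e.2.1 := by
  have h1 := okW_inv_elt (g := e.2.1) (p := e.1) (genOK_parts h).2.2.1
  rw [kC_single]
  show ((kW (e.2.1 ++ [e.1] ++ invW e.2.1) : ↥G2) : ↥Co0) = _
  rw [h1]
  rfl

theorem gE_fix {e : GE} (h : D.genOK e = true) : gE e • vl (D.yA 4) = vl (D.yA 4) := by
  obtain ⟨h1, h2, -, -, -, -, -, h8⟩ := genOK_parts h
  rw [gE_eq h, mul_smul, mul_smul]
  have e1 : kC e.2.1 • vl (D.yA 4) = vl (fW e.2.1 (D.yA 4)) := acts_vl (kC_acts h2) (LV_y (by norm_num))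
  have hL : LV (fW e.2.1 (D.yA 4)) := (kC_acts h2).mem (LV_y (by norm_num))
  have hv : okW [e.1] = true := by simp [okW, h1]
  have e2 : kC [e.1] • vl (fW e.2.1 (D.yA 4)) = vl (fW [e.1] (fW e.2.1 (D.yA 4))) := acts_vl (kC_acts hv) hL
  have e3 : fW [e.1] (fW e.2.1 (D.yA 4)) = fW e.2.1 (D.yA 4) := by
    simp only [fW]
    exact h8
  rw [e1, e2, e3, ← e1, inv_smul_smul]

theorem QU_le : QU ≤ G2 ⊓ stabilizer Co0 (vl (D.yA 4)) := by
  unfold QU
  rw [Subgroup.closure_le]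
  rintro _ ⟨e, he, rfl⟩
  exact ⟨kC_mem _, gE_fix (genOK_of he)⟩

section Good

variable {Γ : Type*} [Group Γ] {σ : Γ →* ↥Co0} (C : Sct σ a0)

theorem gE_good (ht : ∀ w ∈ G2, w • (tC • a0) = tC • a0 → C.Gd tC w) {e : GE} (h : D.genOK e = true) {d : ↥Co0}
    (hd : d • a0 = vl (D.yA 4)) : C.Gd d (gE e) := by
  obtain ⟨h1, h2, -, -, h5, -, h7, -⟩ := genOK_parts h
  have hv : okW [e.1] = true := by simp [okW, h1]
  have h0 : C.Gd (1 : ↥Co0) (kC [e.1]) := C.Gd_mem (one_mem _) (kC_mem _)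
  obtain ⟨g1, g2⟩ := chain_good C tC_acts ht hv e.2.2 1 id one_acts h0 h5
  have h3 := Gd_conj C (kC_mem e.2.1) g1
  rw [gE_eq h]
  refine C.Gd_transport h3 ?_
  have e3 : chainG tC 1 e.2.2 • vl a0L = vl (chainF D.tf id e.2.2 a0L) := acts_vl g2 LV_a0
  rw [vl_a0] at e3
  have e4 : kC e.2.1 • vl (D.yA 4) = vl (fW e.2.1 (D.yA 4)) := acts_vl (kC_acts h2) (LV_y (by norm_num))
  have e2 : chainG tC 1 e.2.2 • a0 = kC e.2.1 • d • a0 := by
    rw [hd, e4, h7]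
    exact e3
  rw [mul_smul, e2, inv_smul_smul]

end Good

/-! ### The subgroup `2¹⁰ : M₂₂` -/

/-- The letters. -/
noncomputable def xE (x : ℕ) : ↥Co0 := ((lG (D.xL x) : ↥G2) : ↥Co0)

/-- The stabiliser of `y₁`. -/
noncomputable def Qt : Subgroup Co0 := Subgroup.closure {xE 0, xE 2, xE 4}

theorem x0_mem : xE 0 ∈ Qt := Subgroup.subset_closure (by simp)

theorem x2_mem : xE 2 ∈ Qt := Subgroup.subset_closure (by simp)

theorem x4_mem : xE 4 ∈ Qt := Subgroup.subset_closure (by simp)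

/-- The generators. -/
noncomputable def gQ (j : ℕ) : ↥Qt :=
  if j = 0 then ⟨_, x0_mem⟩ else if j = 1 then ⟨_, x2_mem⟩ else ⟨_, x4_mem⟩

theorem xinv0 : xE 1 = (xE 0)⁻¹ := by
  unfold xE
  rw [← D.chk_inv.2.2.2.1, lG_inv D.chk_inv.1, Subgroup.coe_inv]

theorem xinv2 : xE 3 = (xE 2)⁻¹ := by
  unfold xE
  rw [← D.chk_inv.2.2.2.2.1, lG_inv D.chk_inv.2.1, Subgroup.coe_inv]

theorem xinv4 : xE 5 = (xE 4)⁻¹ := by
  unfold xE
  rw [← D.chk_inv.2.2.2.2.2, lG_inv D.chk_inv.2.2.1, Subgroup.coe_inv]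

theorem ltr_gQ {x : ℕ} (hx : x < 6) : ((ltr gQ x : ↥Qt) : ↥Co0) = xE x := by
  interval_cases x
  · simp [ltr, gQ]
  · simp [ltr, gQ, xinv0]
  · simp [ltr, gQ]
  · simp [ltr, gQ, xinv2]
  · simp [ltr, gQ]
  · simp [ltr, gQ, xinv4]

theorem coe_wordEl_gQ : ∀ w : List ℕ, (∀ x ∈ w, x < 6) → ((wordEl (ltr gQ) w : ↥Qt) : ↥Co0) = kC (w.map D.xL)
  | [], _ => rfl
  | x :: u, h => by
    simp only [wordEl_cons, Subgroup.coe_mul, List.map_cons]
    rw [coe_wordEl_gQ u (fun y hy => h y (by simp [hy])), ltr_gQ (h x (by simp))]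
    rfl

theorem xL_ok {x : ℕ} (hx : x < 6) : okL (D.xL x) = true := by
  have h := D.chk_xS
  interval_cases x
  · exact h.1
  · exact h.2.1
  · exact h.2.2.1
  · exact h.2.2.2.1
  · exact h.2.2.2.2.1
  · exact h.2.2.2.2.2

theorem okW_map {w : List ℕ} (h : ∀ x ∈ w, x < 6) : okW (w.map D.xL) = true := by
  simp only [okW, List.all_eq_true, List.mem_map]
  rintro _ ⟨x, hx, rfl⟩
  exact xL_ok (h x hx)

theorem ok1 {x : ℕ} (hx : x < 6) : okW [D.xL x] = true := by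
  simp [okW, xL_ok hx]

theorem letters_lt {j x : ℕ} (hj : j < 3) (hx : x ∈ ([Co2Mult.D.w1L, Co2Mult.D.w2L, D.wSL] : List (List ℕ)).getD j []) : x < 6 := by
  apply D.chk_letters
  simp only [List.mem_append]
  interval_cases j
  · exact Or.inl (Or.inl hx)
  · exact Or.inl (Or.inr hx)
  · exact Or.inr hx

/-- The subgroup is perfect. -/
theorem perf_Qt : commutator ↥Qt = ⊤ := by
  refine commutator_eq_top_of_words (n := 3) (g := gQ) (C := fun j => ([Co2Mult.D.w1L, Co2Mult.D.w2L, D.wSL] : List (List ℕ)).getD j []) ?_ ?_ ?_ D.chk_exp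
  · intro h
    have hsub : ({xE 0, xE 2, xE 4} : Set ↥Co0) ⊆ ((Subgroup.closure (gQ '' Set.Iio 3)).map Qt.subtype : Subgroup ↥Co0) := by
      intro x hx
      simp only [Set.mem_insert_iff, Set.mem_singleton_iff] at hx
      rcases hx with h0 | h0 | h0
      · rw [h0]
        exact ⟨gQ 0, Subgroup.subset_closure ⟨0, by norm_num, rfl⟩, by simp [gQ]⟩
      · rw [h0]
        exact ⟨gQ 1, Subgroup.subset_closure ⟨1, by norm_num, rfl⟩, by simp [gQ]⟩
      · rw [h0]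
        exact ⟨gQ 2, Subgroup.subset_closure ⟨2, by norm_num, rfl⟩, by simp [gQ]⟩
    obtain ⟨y, hy, e⟩ := (Subgroup.closure_le _).2 hsub h.2
    have e2 : y = h := Subtype.ext e
    rw [← e2]
    exact hy
  · intro j hj
    have hl : ∀ x ∈ ([Co2Mult.D.w1L, Co2Mult.D.w2L, D.wSL] : List (List ℕ)).getD j [], x < 6 := fun x hx => letters_lt hj hx
    apply Subtype.ext
    rw [coe_wordEl_gQ _ hl]
    interval_cases j
    · have h1 : kC (Co2Mult.D.w1L.map D.xL) = kC [D.xL 0] :=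
        eq_of_frame (kC_acts (okW_map hl)) (kC_acts (ok1 (by norm_num))) D.chk_w1
      show kC (Co2Mult.D.w1L.map D.xL) = _
      rw [h1, kC_single]
      simp [gQ, xE]
    · have h1 : kC (Co2Mult.D.w2L.map D.xL) = kC [D.xL 2] :=
        eq_of_frame (kC_acts (okW_map hl)) (kC_acts (ok1 (by norm_num))) D.chk_w2
      show kC (Co2Mult.D.w2L.map D.xL) = _
      rw [h1, kC_single]
      simp [gQ, xE]
    · have h1 : kC (D.wSL.map D.xL) = kC [D.xL 4] :=
        eq_of_frame (kC_acts (okW_map hl)) (kC_acts (ok1 (by norm_num))) D.chk_wS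
      show kC (D.wSL.map D.xL) = _
      rw [h1, kC_single]
      simp [gQ, xE]
  · intro j hj x hx
    have := letters_lt hj hx
    omega

theorem Qt_le : Qt ≤ G2 ⊓ stabilizer Co0 (vl (D.yA 1)) := by
  unfold Qt
  rw [Subgroup.closure_le]
  have key : ∀ x < 6, lF (D.xL x) (D.yA 1) = D.yA 1 → xE x ∈ G2 ⊓ stabilizer Co0 (vl (D.yA 1)) := by
    intro x hx h
    refine ⟨(lG (D.xL x)).2, ?_⟩
    show xE x • vl (D.yA 1) = vl (D.yA 1)
    have h1 : xE x • vl (D.yA 1) = vl (lF (D.xL x) (D.yA 1)) := acts_vl (lG_acts (xL_ok hx)) (LV_y (by norm_num))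
    rw [h1, h]
  intro x hx
  simp only [Set.mem_insert_iff, Set.mem_singleton_iff] at hx
  rcases hx with h0 | h0 | h0
  · rw [h0]
    exact key 0 (by norm_num) D.chk_xfix.1
  · rw [h0]
    exact key 2 (by norm_num) D.chk_xfix.2.1
  · rw [h0]
    exact key 4 (by norm_num) D.chk_xfix.2.2

theorem gensQ_genP : ∀ f ∈ D.gensQ, GenP Qt f := by
  intro f hf
  simp only [D.gensQ, List.mem_cons, List.not_mem_nil, or_false] at hf
  rcases hf with rfl | rfl | rfl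
  · exact genP_table (xL_ok (by norm_num)) D.chk_xlen.1 x0_mem
  · exact genP_table (xL_ok (by norm_num)) D.chk_xlen.2 x2_mem
  · refine genP_wordC (w := [D.xL 4]) (ok1 (by norm_num)) ?_
    rw [kC_single]
    exact x4_mem

theorem AA1_le : Co2Mult.AA 1 ≤ Qt := by
  unfold Co2Mult.AA
  rw [Co2Mult.QQ1_eq, Subgroup.map_le_iff_le_comap, Subgroup.closure_le]
  rintro x (rfl | rfl)
  · show ((Co2Mult.lG (Co2Mult.D.xW 0) : ↥G2) : Co0) ∈ Qt
    rw [← D.chk_xeq.1, ← lG_co2 D.chk_xlen.1]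
    exact x0_mem
  · show ((Co2Mult.lG (Co2Mult.D.xW 2) : ↥G2) : Co0) ∈ Qt
    rw [← D.chk_xeq.2, ← lG_co2 D.chk_xlen.2]
    exact x2_mem

theorem AA1_fix {h : Co0} (hh : h ∈ Co2Mult.AA 1) : h • b0El = b0El := by
  obtain ⟨g, hg, rfl⟩ := hh
  exact (Co2Mult.QQ_le (a := 1) (by norm_num) hg).1

theorem hm_Qt : 454164480 ≤ Nat.card Qt := by
  obtain ⟨e1, e2, e3⟩ := Co2Mult.code_of b0L_ok D.y_bd.2.2
  have h := D.runQ
  rw [← D.bc_eq] at h
  have e4 : (⟨vecN (encL b0L), e2⟩ : leechLattice) = b0El := Subtype.ext e1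
  have key := card_level gensQ_genP AA1_le (encL b0L) e2 e3 (by
    intro g hg
    rw [e4]
    exact AA1_fix hg) _ _ _ h
  have h2 := Co2Mult.hm_all (a := 1) (by norm_num)
  rw [← Co2Mult.card_AA] at h2
  have h3 : Co2Mult.mL.getD 1 0 = 443520 := rfl
  rw [h3] at h2
  omega

/-! ### The stabiliser of `b₀` -/

/-- The stabiliser of `b₀`, in `Co₀`. -/
noncomputable def KcC : Subgroup Co0 := (Co2Mult.Kc).map G2.subtype

/-- The isomorphism. -/
noncomputable def eKcC : ↥Co2Mult.Kc ≃* ↥KcC := (Co2Mult.Kc).equivMapOfInjective _ (Subgroup.subtype_injective _)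

theorem card_KcC : Nat.card KcC = 898128000 := by
  rw [← Co2Mult.card_Kc]
  exact (Nat.card_congr eKcC.toEquiv).symm

theorem perf_KcC : commutator ↥KcC = ⊤ := commutator_top_of_equiv eKcC.symm Co2Mult.perf_Kc

theorem KcC_fix {q : ↥Co0} (hq : q ∈ KcC) : q ∈ G2 ∧ q • b0El = b0El := by
  obtain ⟨g, hg, rfl⟩ := hq
  exact ⟨g.2, hg⟩

/-! ### The stabiliser of `Z` has the right order -/

/-- The monomial group. -/
noncomputable def HM : Subgroup Co0 := Subgroup.closure {g | ∃ T ∈ D.monoT, g = ((lG T : ↥G2) : Co0)}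

/-- The permutation group. -/
noncomputable def HP : Subgroup Co0 := Subgroup.closure {g | ∃ T ∈ D.permT, g = ((lG T : ↥G2) : Co0)}

theorem gE_table {e : GE} (h : e.2.1 = []) : gE e = ((lG e.1 : ↥G2) : Co0) := by
  have e1 : D.wOf e = [e.1] := by
    simp [D.wOf, h, invW]
  rw [gE, e1]
  exact kC_single _

theorem mono_parts {T : List ℕ} (hT : T ∈ D.monoT) : okL T = true ∧ lF T (D.yA 1) = D.yA 1 ∧ ∃ e ∈ D.gensU, e.1 = T ∧ e.2.1 = [] := by
  have h := List.all_eq_true.1 D.chk_mono T hT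
  simp only [Bool.and_eq_true, beq_iff_eq, List.any_eq_true] at h
  obtain ⟨⟨h1, h2⟩, e, he, h3, h4⟩ := h
  exact ⟨h1, h2, e, he, h3, by simpa using h4⟩

theorem mono_mem {T : List ℕ} (hT : T ∈ D.monoT) : ((lG T : ↥G2) : Co0) ∈ QU := by
  obtain ⟨-, -, e, he, rfl, h⟩ := mono_parts hT
  rw [← gE_table h]
  exact Subgroup.subset_closure ⟨e, he, rfl⟩

theorem HM_le : HM ≤ QU := by
  unfold HM
  rw [Subgroup.closure_le]
  rintro _ ⟨T, hT, rfl⟩
  exact mono_mem hT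

theorem perm_parts {T : List ℕ} (hT : T ∈ D.permT) : okL T = true ∧ T.length = 24 ∧ T ∈ D.monoT ∧ lF T b0L = b0L := by
  have h := List.all_eq_true.1 D.chk_perm T hT
  simp only [Bool.and_eq_true, beq_iff_eq, List.contains_iff_mem] at h
  obtain ⟨⟨⟨h1, h2⟩, h3⟩, h4⟩ := h
  exact ⟨h1, h2, h3, h4⟩

theorem HP_le : HP ≤ HM := by
  unfold HP
  rw [Subgroup.closure_le]
  rintro _ ⟨T, hT, rfl⟩
  exact Subgroup.subset_closure ⟨T, (perm_parts hT).2.2.1, rfl⟩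

theorem gensA_genP : ∀ f ∈ D.gensA, GenP QU f := by
  intro f hf
  obtain ⟨e, he, rfl⟩ := List.mem_map.1 hf
  exact genP_wordC (genOK_parts (genOK_of he)).2.2.2.1 (Subgroup.subset_closure ⟨e, he, rfl⟩)

theorem gensB_genP : ∀ f ∈ D.gensB, GenP HM f := by
  intro f hf
  obtain ⟨T, hT, rfl⟩ := List.mem_map.1 hf
  refine genP_wordC (w := [T]) (by simp [okW, (mono_parts hT).1]) ?_
  rw [kC_single]
  exact Subgroup.subset_closure ⟨T, hT, rfl⟩

theorem gensC_genP : ∀ f ∈ D.gensC, GenP HP f := by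
  intro f hf
  obtain ⟨S, hS, rfl⟩ := List.mem_map.1 hf
  rw [D.chk_permS] at hS
  obtain ⟨T, hT, rfl⟩ := List.mem_map.1 hS
  exact genP_table (perm_parts hT).1 (perm_parts hT).2.1 (Subgroup.subset_closure ⟨T, hT, rfl⟩)

theorem hm_QU : 9196830720 ≤ Nat.card QU := by
  -- the first level
  obtain ⟨e1, e2, e3⟩ := Co2Mult.code_of D.y_bd.1 D.y_bd.2.1
  have h1 := D.runA
  rw [← D.yc_eq] at h1
  have e4 : (⟨vecN (encL (D.yA 1)), e2⟩ : leechLattice) = vl (D.yA 1) := by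
    rw [vl_eq (LV_y (by norm_num))]
    exact Subtype.ext e1
  have hHM : HM ≤ stabilizer Co0 (vl (D.yA 1)) := by
    unfold HM
    rw [Subgroup.closure_le]
    rintro _ ⟨T, hT, rfl⟩
    obtain ⟨h2, h3, -⟩ := mono_parts hT
    show ((lG T : ↥G2) : Co0) • vl (D.yA 1) = vl (D.yA 1)
    have h4 : ((lG T : ↥G2) : Co0) • vl (D.yA 1) = vl (lF T (D.yA 1)) := acts_vl (lG_acts h2) (LV_y (by norm_num))
    rw [h4, h3]
  have k1 := card_level gensA_genP HM_le (encL (D.yA 1)) e2 e3 (by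
    intro g hg
    rw [e4]
    exact hHM hg) _ _ _ h1
  -- the second level
  obtain ⟨f1, f2, f3⟩ := Co2Mult.code_of b0L_ok D.y_bd.2.2
  have h2 := D.runB
  rw [← D.bc_eq] at h2
  have f4 : (⟨vecN (encL b0L), f2⟩ : leechLattice) = b0El := Subtype.ext f1
  have hHP : HP ≤ stabilizer Co0 b0El := by
    unfold HP
    rw [Subgroup.closure_le]
    rintro _ ⟨T, hT, rfl⟩
    obtain ⟨h5, -, -, h6⟩ := perm_parts hT
    exact fix_of (lG_acts h5) (inLattice_sound b0L_ok) h6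
  have k2 := card_level gensB_genP HP_le (encL b0L) f2 f3 (by
    intro g hg
    rw [f4]
    exact hHP hg) _ _ _ h2
  -- the third level
  obtain ⟨g1, g2, g3⟩ := Co2Mult.code_of D.vg_ok.1 D.vg_ok.2
  have h3 := D.runC
  rw [← D.vgc_eq] at h3
  have k3 := card_level gensC_genP (bot_le : (⊥ : Subgroup Co0) ≤ HP) (encL D.vgL) g2 g3 (by
    intro g hg
    rw [Subgroup.mem_bot] at hg
    rw [hg, one_smul]) _ _ _ h3
  rw [Subgroup.card_bot] at k3
  omega

/-! ### All the stabilisers -/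

/-- The stabilisers. -/
noncomputable def QA : ℕ → Subgroup Co0
  | 0 => G2
  | 1 => Qt
  | 2 => G2
  | 3 => KcC
  | 4 => QU
  | 5 => QU
  | _ => KcC

/-- The sizes of the orbits. -/
def nL : List ℕ := [1, 93150, 1, 47104, 4600, 4600, 47104]

/-- The orders of the stabilisers. -/
def mL : List ℕ := [42305421312000, 454164480, 42305421312000, 898128000, 9196830720, 9196830720, 898128000]

theorem QA_le {a : ℕ} (ha : a < 7) : QA a ≤ G2 ⊓ stabilizer Co0 (vl (D.yA a)) := by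
  interval_cases a
  · intro q hq
    refine ⟨hq, ?_⟩
    show q • vl (D.yA 0) = vl (D.yA 0)
    rw [Y0]
    exact hq
  · exact Qt_le
  · intro q hq
    refine ⟨hq, ?_⟩
    show q • vl (D.yA 2) = vl (D.yA 2)
    rw [Y2]
    exact fix_neg hq
  · intro q hq
    obtain ⟨h1, h2⟩ := KcC_fix hq
    refine ⟨h1, ?_⟩
    show q • vl (D.yA 3) = vl (D.yA 3)
    rw [Y3]
    exact fix_neg h2
  · exact QU_le
  · intro q hq
    obtain ⟨h1, h2⟩ := QU_le hq
    refine ⟨h1, ?_⟩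
    show q • vl (D.yA 5) = vl (D.yA 5)
    rw [Y5]
    exact fix_neg h2
  · intro q hq
    obtain ⟨h1, h2⟩ := KcC_fix hq
    refine ⟨h1, ?_⟩
    show q • vl (D.yA 6) = vl (D.yA 6)
    rw [Y6]
    exact h2

theorem hm_all {a : ℕ} (ha : a < 7) : mL.getD a 0 ≤ Nat.card (QA a) := by
  interval_cases a
  · show 42305421312000 ≤ Nat.card G2
    rw [Co2Mult.card_G2]
  · exact hm_Qt
  · show 42305421312000 ≤ Nat.card G2
    rw [Co2Mult.card_G2]
  · show 898128000 ≤ Nat.card KcC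
    rw [card_KcC]
  · exact hm_QU
  · exact hm_QU
  · show 898128000 ≤ Nat.card KcC
    rw [card_KcC]

end Cfsg.Agent.Lib.Sporadic.Co1Mult
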