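import Cfsg.Agent.Lib.Sporadic.Co1Mult.Part1

/-!
# The Schur multiplier of `Co₁`: the end of the proof
-/

set_option autoImplicit false

namespace Cfsg.Agent.Lib.Sporadic.Co1Mult

open MulAction Cfsg Cfsg.Agent.Lib.Sporadic.GolayCore Cfsg.Agent.Lib.Sporadic.LeechBasic
  Cfsg.Agent.Lib.Sporadic.LeechNorm Cfsg.Agent.Lib.Sporadic.LeechFacts
  Cfsg.Agent.Lib.Sporadic.LeechAut Cfsg.Agent.Lib.Sporadic.LeechMat
  Cfsg.Agent.Lib.Sporadic.LeechKey Cfsg.Agent.Lib.Sporadic.LeechEnum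
  Cfsg.Agent.Lib.Sporadic.LeechA0 Cfsg.Agent.Lib.Sporadic.LeechMcLData Cfsg.Agent.Lib.Sporadic.LeechMcL
  Cfsg.Agent.Lib.Sporadic.LeechShape Cfsg.Agent.Lib.Sporadic.LeechTree
  Cfsg.Agent.Lib.Sporadic.M24Chain Cfsg.Agent.Lib.Sporadic.Co3Mult
  Cfsg.Agent.Lib.Compute.SchurLin Cfsg.Agent.Lib.Compute.ToddCoxeterCore
open Cfsg.Agent.Lib.Sporadic.Co2Mult (G2 pG one_acts fix_of)
open Cfsg.Agent.Lib.Sporadic.LeechCo1 (dot_cases dot_neg_coe neg_sqNorm OmA finite_OmA card_OmA)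
open Cfsg.Agent.Lib.Sporadic.LeechMin (co0_transitive_min)

/-! ### The minimal vectors -/

theorem sq_vl {l : List ℤ} (hl : LV l) (h : normL l = 32) : sqNorm ((vl l : leechLattice) : GolayPt → ℤ) = 32 := by
  rw [vl_eq hl]
  show sqNorm (vecOf l) = 32
  rw [sqNorm_vecOf, h]

theorem y_norm {a : ℕ} (ha : a < 7) : normL (D.yA a) = 32 := by
  have h := List.all_eq_true.1 D.chk_y a (List.mem_range.2 ha)
  simp only [Bool.and_eq_true, beq_iff_eq] at h
  exact h.2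

theorem sq_y {a : ℕ} (ha : a < 7) : sqNorm ((vl (D.yA a) : leechLattice) : GolayPt → ℤ) = 32 :=
  sq_vl (LV_y ha) (y_norm ha)

theorem dot_vl {l : List ℤ} (hl : LV l) :
    dotInt ((a0 : leechLattice) : GolayPt → ℤ) ((vl l : leechLattice) : GolayPt → ℤ) = 4 * (l.getD 3 0 + l.getD 5 0) := by
  rw [dot_a0, vl_eq hl]
  have e3 : vecOf l (pt 3) = l.getD 3 0 := by
    simp only [vecOf]
    rw [idx_pt (by norm_num)]
  have e5 : vecOf l (pt 5) = l.getD 5 0 := by
    simp only [vecOf]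
    rw [idx_pt (by norm_num)]
  show 4 * (vecOf l (pt 3) + vecOf l (pt 5)) = _
  rw [e3, e5]

theorem dot_y1 : dotInt ((a0 : leechLattice) : GolayPt → ℤ) ((vl (D.yA 1) : leechLattice) : GolayPt → ℤ) = 0 := by
  rw [dot_vl (LV_y (by norm_num))]
  decide +kernel

theorem dot_y5 : dotInt ((a0 : leechLattice) : GolayPt → ℤ) ((vl (D.yA 5) : leechLattice) : GolayPt → ℤ) = -16 := by
  rw [dot_vl (LV_y (by norm_num))]
  decide +kernel

theorem dot_y6 : dotInt ((a0 : leechLattice) : GolayPt → ℤ) ((vl (D.yA 6) : leechLattice) : GolayPt → ℤ) = -8 := by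
  rw [dot_vl (LV_y (by norm_num))]
  decide +kernel

theorem orbit_cover {y : leechLattice} (hy : sqNorm ((y : leechLattice) : GolayPt → ℤ) = 32) :
    ∃ a : Fin 7, ∃ k ∈ G2, k • vl (D.yA a) = y := by
  have h0 : sqNorm ((a0 : leechLattice) : GolayPt → ℤ) = 32 := sqNorm_a0
  rcases dot_cases h0 hy with e | e | h | h | h | h | h
  · exact ⟨0, 1, one_mem _, by
      rw [one_smul, e]
      exact Y0⟩
  · exact ⟨2, 1, one_mem _, by
      rw [one_smul, e]
      exact Y2⟩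
  · obtain ⟨g, hg, e⟩ := co2_trans_m16 a0 (-y) (vl (D.yA 5)) h0 (neg_sqNorm hy) (sq_y (by norm_num))
      (by rw [dot_neg_coe, h]) dot_y5
    rw [co0_map_neg, Y5] at e
    have e' : g • y = vl (D.yA 4) := neg_injective e
    exact ⟨4, g⁻¹, inv_mem (mem_stabilizer_iff.2 hg), by
      show g⁻¹ • vl (D.yA 4) = y
      rw [← e', inv_smul_smul]⟩
  · obtain ⟨g, hg, e⟩ := co2_trans_m16 a0 y (vl (D.yA 5)) h0 hy (sq_y (by norm_num)) h dot_y5
    exact ⟨5, g⁻¹, inv_mem (mem_stabilizer_iff.2 hg), by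
      show g⁻¹ • vl (D.yA 5) = y
      rw [← e, inv_smul_smul]⟩
  · obtain ⟨g, hg, e⟩ := co2_trans_m8 a0 (-y) (vl (D.yA 6)) h0 (neg_sqNorm hy) (sq_y (by norm_num))
      (by rw [dot_neg_coe, h]) dot_y6
    rw [co0_map_neg, Y6] at e
    have e' : g • y = vl (D.yA 3) := by
      rw [Y3, ← e, neg_neg]
    exact ⟨3, g⁻¹, inv_mem (mem_stabilizer_iff.2 hg), by
      show g⁻¹ • vl (D.yA 3) = y
      rw [← e', inv_smul_smul]⟩
  · obtain ⟨g, hg, e⟩ := co2_trans_m8 a0 y (vl (D.yA 6)) h0 hy (sq_y (by norm_num)) h dot_y6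
    exact ⟨6, g⁻¹, inv_mem (mem_stabilizer_iff.2 hg), by
      show g⁻¹ • vl (D.yA 6) = y
      rw [← e, inv_smul_smul]⟩
  · obtain ⟨g, hg, e⟩ := co2_trans_0 a0 y (vl (D.yA 1)) h0 hy (sq_y (by norm_num)) h dot_y1
    exact ⟨1, g⁻¹, inv_mem (mem_stabilizer_iff.2 hg), by
      show g⁻¹ • vl (D.yA 1) = y
      rw [← e, inv_smul_smul]⟩

theorem T_fin : (OmA : Set leechLattice).Finite := by
  haveI : Finite ↥(OmA : Set leechLattice) := finite_OmA
  exact Set.toFinite _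

theorem T_card : (OmA : Set leechLattice).ncard = 196560 := by
  rw [← Nat.card_coe_set_eq]
  exact card_OmA

theorem data_orbits : (∀ a : Fin 7, QA a = G2 ⊓ stabilizer Co0 (vl (D.yA a))) ∧
    ∀ a b : Fin 7, (∃ k ∈ G2, k • vl (D.yA a) = vl (D.yA b)) → a = b := by
  refine orbit_data (G := ↥Co0) G2 (fun a : Fin 7 => vl (D.yA a)) (fun a => QA a) (fun a => nL.getD a 0) (fun a => mL.getD a 0)
    (fun a => QA_le a.2) (fun a => hm_all a.2) ?_ ?_ ?_ (OmA : Set leechLattice) T_fin ?_ ?_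
  · intro a
    fin_cases a <;> decide
  · intro a
    fin_cases a <;> decide
  · intro a
    rw [Co2Mult.card_G2]
    fin_cases a <;> decide
  · rw [T_card]
    decide
  · intro y hy
    obtain ⟨a, k, hk, e⟩ := orbit_cover hy
    exact ⟨a, ⟨⟨k, hk⟩, e⟩⟩

/-! ### Perfectness -/

theorem perf_G2 : commutator ↥G2 = ⊤ := by
  haveI : IsSimpleGroup ↥G2 := Cfsg.Agent.Lib.Sporadic.LeechCo2.simple_Co2 a0 sqNorm_a0
  rcases IsSimpleGroup.eq_bot_or_eq_top_of_normal (commutator ↥G2) inferInstance with h | h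
  · exfalso
    have h1 := perfect_le_commutator (Co2Mult.Kc) Co2Mult.perf_Kc
    rw [h] at h1
    have h2 : (Co2Mult.Kc) = ⊥ := le_bot_iff.1 h1
    have h3 := Co2Mult.card_Kc
    rw [h2, Subgroup.card_bot] at h3
    norm_num at h3
  · exact h

theorem cov_all (g : ↥Co0) : ∃ a : Fin 7, ∃ k ∈ G2, g • a0 = k • (EE a • a0) := by
  obtain ⟨a, k, hk, e⟩ := orbit_cover (y := g • a0) (by
    rw [co0_sqNorm]
    exact sqNorm_a0)
  refine ⟨a, k * kC (D.gL a), mul_mem hk (kC_mem _), ?_⟩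
  rw [mul_smul, dd_smul a.2, e]

theorem perf_Co0 : commutator ↥Co0 = ⊤ := by
  have hK : G2 ≤ commutator ↥Co0 := perfect_le_commutator G2 perf_G2
  have hN : (commutator ↥Co0).Normal := inferInstance
  have ht : tC ∈ commutator ↥Co0 := by
    obtain ⟨h1, h2, h3⟩ := D.vF_ok
    have hL : LV D.vF := inLattice_sound h1
    obtain ⟨h, hh⟩ := co0_transitive_min (vl D.vF) a0 (sq_vl hL h2) sqNorm_a0
    have e1 : tC • vl D.vF = vl (D.tf D.vF) := acts_vl tC_acts hL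
    rw [h3] at e1
    have hm : h * tC * h⁻¹ ∈ G2 := by
      show (h * tC * h⁻¹) • a0 = a0
      rw [mul_smul, mul_smul, ← hh, inv_smul_smul, e1]
    have h4 := hN.conj_mem _ (hK hm) h⁻¹
    have e2 : h⁻¹ * (h * tC * h⁻¹) * h⁻¹⁻¹ = tC := by group
    rwa [e2] at h4
  rw [eq_top_iff]
  rintro g -
  obtain ⟨a, k, hk, e⟩ := cov_all g
  have hE : EE a ∈ commutator ↥Co0 := wG_mem_closure ht _ (fun x hx => hK (ks_mem x hx))
  have h5 : (k * EE a)⁻¹ * g ∈ G2 := by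
    show ((k * EE a)⁻¹ * g) • a0 = a0
    rw [mul_smul, e, inv_smul_eq_iff, mul_smul]
  have h6 : g = (k * EE a) * ((k * EE a)⁻¹ * g) := by group
  rw [h6]
  exact mul_mem (mul_mem (hK hk) hE) (hK h5)

/-! ### Good elements -/

theorem neg_smul' (v : leechLattice) : (negCo0 : ↥Co0) • v = -v := by
  have h := Cfsg.Agent.Lib.Sporadic.LeechLocal.negCo0_mul_smul 1 v
  rwa [mul_one, one_smul] at h

section Good2

variable {Γ : Type*} [Group Γ] {σ : Γ →* ↥Co0} (C : Sct σ a0)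

theorem conj_mem {d q : ↥Co0} (hd : q • (d • a0) = d • a0) : d⁻¹ * q * d ∈ G2 := by
  show (d⁻¹ * q * d) • a0 = a0
  rw [mul_smul, mul_smul, hd, inv_smul_smul]

theorem Gd_Qt {d v : ↥Co0} (hd : d • a0 = vl (D.yA 1)) (hv : v ∈ Qt) : C.Gd d v := by
  refine C.Gd_perfect Qt (fun q hq => (Qt_le hq).1) (fun q hq => conj_mem ?_) perf_Qt hv
  rw [hd]
  exact (Qt_le hq).2

theorem ht_all (hQ : Qt = G2 ⊓ stabilizer Co0 (vl (D.yA 1))) : ∀ w ∈ G2, w • (tC • a0) = tC • a0 → C.Gd tC w := by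
  intro w hw hf
  rw [tC_a0] at hf
  have h : w ∈ Qt := by
    rw [hQ]
    exact ⟨hw, hf⟩
  exact Gd_Qt C tC_a0 h

theorem Gd_neg {u : ↥Co0} (hu : u ∈ G2) : C.Gd negCo0 u := by
  refine C.Gd_perfect G2 le_rfl (fun q hq => ?_) perf_G2 hu
  have hc := Subgroup.mem_center_iff.1 negCo0_mem_center q
  have e : (negCo0 : ↥Co0)⁻¹ * q * negCo0 = q := by
    rw [mul_assoc, hc, inv_mul_cancel_left]
  rw [e]
  exact hq

theorem Gd_QU (ht : ∀ w ∈ G2, w • (tC • a0) = tC • a0 → C.Gd tC w) {d v : ↥Co0} (hd : d • a0 = vl (D.yA 4)) (hv : v ∈ QU) : C.Gd d v := by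
  refine C.Gd_closure ?_ hv
  rintro _ ⟨e, he, rfl⟩
  exact gE_good C ht (genOK_of he) hd

theorem Gd_QA (hQ1 : Qt = G2 ⊓ stabilizer Co0 (vl (D.yA 1))) {a : ℕ} (ha : a < 7) {d v : ↥Co0} (hd : d • a0 = vl (D.yA a)) (hv : v ∈ QA a) : C.Gd d v := by
  interval_cases a
  · rw [Y0] at hd
    exact C.Gd_mem hd hv
  · exact Gd_Qt C hd hv
  · rw [Y2] at hd
    exact C.Gd_transport (Gd_neg C hv) (by rw [neg_smul', hd])
  · refine C.Gd_perfect KcC (fun q hq => (KcC_fix hq).1) (fun q hq => conj_mem ?_) perf_KcC hv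
    rw [hd, Y3]
    exact fix_neg (KcC_fix hq).2
  · exact Gd_QU C (ht_all C hQ1) hd hv
  · have h1 : (negCo0 * d) • a0 = vl (D.yA 4) := by
      rw [Cfsg.Agent.Lib.Sporadic.LeechLocal.negCo0_mul_smul, hd, Y5, neg_neg]
    have h2 := Gd_QU C (ht_all C hQ1) h1 hv
    have h3 := C.Gd_comp h2 (Gd_neg C h2.2.1)
    refine C.Gd_transport h3 ?_
    rw [mul_smul, neg_smul', co0_map_neg, h1, hd, Y5]
  · refine C.Gd_perfect KcC (fun q hq => (KcC_fix hq).1) (fun q hq => conj_mem ?_) perf_KcC hv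
    rw [hd, Y6]
    exact (KcC_fix hq).2

end Good2

/-! ### The classes under the stabiliser of the two vectors -/

/-- The stabiliser of `a0` and `t a0`. -/
noncomputable def Kt : Subgroup Co0 := G2 ⊓ stabilizer Co0 (tC • a0)

theorem hasSigns_Kt : HasSigns Kt (ofMask 40) := by
  intro c hc hd
  refine ⟨hasSigns_KA c hc hd, ?_⟩
  show signCo0 c hc • (tC • a0) = tC • a0
  rw [tC_a0, vl_eq (LV_y (by norm_num))]
  apply Subtype.ext
  show signChange c (vecOf (D.yA 1)) = vecOf (D.yA 1)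
  funext p
  simp only [signChange]
  split_ifs with h
  · have h1 : p ∉ ofMask 40 := Finset.disjoint_left.1 hd h
    rw [mem_ofMask_40] at h1
    push Not at h1
    have h2 : vecOf (D.yA 1) p = 0 := by
      simp only [vecOf]
      exact D.chk_y1 _ (idx_lt p) h1.1 h1.2
    rw [h2]
    simp
  · rfl

theorem gensT_sound : ∀ f ∈ D.gensT2, ∀ l, vecOf l ∈ leechLattice → SameIn Kt (vecOf l) (vecOf (f l)) := by
  have key : ∀ T ∈ D.mT, ∀ l, vecOf l ∈ leechLattice → SameIn Kt (vecOf l) (vecOf (lF T l)) := by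
    intro T hT l hl
    have h := List.all_eq_true.1 D.chk_mT T hT
    simp only [Bool.and_eq_true, beq_iff_eq] at h
    obtain ⟨h1, h3⟩ := h
    refine acts_sameIn (K := Kt) (lG_acts h1) ⟨(lG T).2, ?_⟩ l hl
    show ((lG T : ↥G2) : Co0) • (tC • a0) = tC • a0
    rw [tC_a0]
    have h4 : ((lG T : ↥G2) : Co0) • vl (D.yA 1) = vl (lF T (D.yA 1)) := acts_vl (lG_acts h1) (LV_y (by norm_num))
    rw [h4, h3]
  obtain ⟨e0, e1, e2, l0, l1, l2⟩ := D.chk_T2
  have m0 : D.mT.getD 0 [] ∈ D.mT := by decide +kernel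
  have m1 : D.mT.getD 1 [] ∈ D.mT := by decide +kernel
  have m2 : D.mT.getD 2 [] ∈ D.mT := by decide +kernel
  intro f hf l hl
  simp only [D.gensT2, List.mem_cons, List.not_mem_nil, or_false] at hf
  rcases hf with h | h | h
  · have := key _ m0 l hl
    rw [lF_table l0, e0] at this
    rw [h]
    exact this
  · have := key _ m1 l hl
    rw [lF_table l1, e1] at this
    rw [h]
    exact this
  · have := key _ m2 l hl
    rw [lF_table l2, e2] at this
    rw [h]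
    exact this

theorem mem_zip_of {α β : Type*} : ∀ {l : List α} {m : List β}, m.length = l.length → ∀ {r : α}, r ∈ l → ∃ c, (r, c) ∈ l.zip m
  | [], _, _, _, hr => by simp at hr
  | a :: l, [], h, _, _ => by simp at h
  | a :: l, b :: m, h, r, hr => by
    rcases List.mem_cons.1 hr with rfl | hr
    · exact ⟨b, by simp⟩
    · obtain ⟨c, hc⟩ := mem_zip_of (l := l) (m := m) (by simpa using h) hr
      exact ⟨c, by simp [hc]⟩

theorem mem_repsT {r : List ℤ} (hr : r ∈ allReps) : ∃ τ < 30, r ∈ D.repsLit.getD τ [] := by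
  obtain ⟨c, hc⟩ := mem_zip_of D.chk_cls.1 hr
  have h3 := List.all_eq_true.1 D.chk_cls.2 _ hc
  simp only [Bool.and_eq_true, Nat.blt_eq, List.contains_iff_mem] at h3
  exact ⟨c, h3.1, h3.2⟩

theorem root_eq {τ : ℕ} (hτ : τ < 30) : (D.repsLit.getD τ []).getD 0 [] = D.rootF τ := by
  have h := List.all_eq_true.1 D.chk_rootsT τ (List.mem_range.2 hτ)
  simp only [beq_iff_eq] at h
  exact h.symm

theorem tree_all {τ : ℕ} (hτ : τ < 30) : treeOK 40 D.gensT2 (D.repsLit.getD τ []) (D.certLit.getD τ []) = true := by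
  interval_cases τ
  exacts [D.tree0, D.tree1, D.tree2, D.tree3, D.tree4, D.tree5, D.tree6, D.tree7, D.tree8, D.tree9,
    D.tree10, D.tree11, D.tree12, D.tree13, D.tree14, D.tree15, D.tree16, D.tree17, D.tree18, D.tree19,
    D.tree20, D.tree21, D.tree22, D.tree23, D.tree24, D.tree25, D.tree26, D.tree27, D.tree28, D.tree29]

/-- Every minimal vector is in the class of a root. -/
theorem cover {y : leechLattice} (hn : sqNorm ((y : leechLattice) : GolayPt → ℤ) = 32) :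
    ∃ τ < 30, ∃ u ∈ Kt, y = u • vl (D.rootF τ) := by
  obtain ⟨r, hr, habs, hZ⟩ := Cfsg.Agent.Lib.Sporadic.LeechA0.cover y.2 hn
  obtain ⟨τ, hτ, hrτ⟩ := mem_repsT hr
  have hT := tree_all hτ
  have h1 := tree_sound hasSigns_Kt keyCheck_40 gensT_sound hT r hrτ
  have h2 : SameIn Kt ((y : leechLattice) : GolayPt → ℤ) (vecOf r) := by
    apply same_of_key hasSigns_Kt keyCheck_40 y.2 h1.left_mem
    · rw [sqNorm_congr habs]
      exact hn
    · intro p
      exact (habs p).symm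
    · intro p hp
      exact (hZ p (mem_ofMask_40.1 hp)).symm
  have h3 := h2.trans h1
  rw [root_eq hτ] at h3
  obtain ⟨hx, hy', g, hg, e⟩ := h3
  refine ⟨τ, hτ, g⁻¹, inv_mem hg, ?_⟩
  have e2 : (⟨vecOf (D.rootF τ), hy'⟩ : leechLattice) = vl (D.rootF τ) := (vl_eq hy').symm
  rw [← e2, ← e, inv_smul_smul]

theorem root_norm (τ : ℕ) : LV (D.rootF τ) ∧ normL (D.rootF τ) = 32 := by
  by_cases hτ : τ < 30
  · have hm : D.rootF τ ∈ D.rootsLit := by
      unfold D.rootF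
      rw [List.getD_eq_getElem _ _ (by rw [D.rootsLit_len]; exact hτ)]
      exact List.getElem_mem _
    have h := List.all_eq_true.1 D.chk_roots _ hm
    simp only [Bool.and_eq_true, beq_iff_eq] at h
    exact ⟨inLattice_sound h.1, h.2⟩
  · have e : D.rootF τ = a0L := by
      unfold D.rootF
      rw [List.getD_eq_default _ _ (by rw [D.rootsLit_len]; omega)]
    rw [e]
    have h : normL a0L = 32 := by decide +kernel
    exact ⟨LV_a0, h⟩

theorem root_orbit (τ : ℕ) : vl (D.rootF τ) ∈ orbit ↥Co0 a0 := by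
  obtain ⟨h1, h2⟩ := root_norm τ
  obtain ⟨g, hg⟩ := co0_transitive_min (vl (D.rootF τ)) a0 (sq_vl h1 h2) sqNorm_a0
  refine ⟨g⁻¹, ?_⟩
  show g⁻¹ • a0 = _
  rw [← hg, inv_smul_smul]

/-! ### The relations -/

section Final

variable {Γ : Type} [Group Γ] {σ : Γ →* ↥Co0} {C : Sct σ a0} (L : Ell C tC)

/-- The values on the classes. -/
noncomputable def xx (τ : ℕ) : ↥(Subgroup.center Γ) :=
  ⟨L.Cy (vl (D.rootF τ)), C.hc (MonoidHom.mem_ker.2 (L.Cy_ker _))⟩

theorem xx_prod (r : List (List (List ℕ) × ℕ)) :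
    ((((r.map Prod.snd).map (xx L)).prod : ↥(Subgroup.center Γ)) : Γ) = (r.map fun p => L.Cy (vl (D.rootF p.2))).prod := by
  induction r with
  | nil => rfl
  | cons a r ih =>
    simp only [List.map_cons, List.prod_cons, Subgroup.coe_mul]
    rw [ih]
    rfl

theorem instOK_parts {ks : List (List (List ℕ))} {p : List ℤ × List (List (List ℕ) × ℕ)} (h : D.instOK ks p = true) :
    LV p.1 ∧ chkW D.tf D.rootF ks p.2 p.1 = true ∧ ∀ i ∈ p.2.map Prod.snd, i < 30 := by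
  simp only [D.instOK, Bool.and_eq_true, List.all_eq_true, Nat.blt_eq] at h
  exact ⟨inLattice_sound h.1.1, h.1.2, h.2⟩

theorem walk_row {ks : List (List (List ℕ))} (hne : ks ≠ []) (hks : ks.all okW = true)
    (hW : ∀ i < 24, wF D.tf ks (eiL i) = eiL i) {b p : List ℤ × List (List (List ℕ) × ℕ)} (hb : D.instOK ks b = true)
    (hp : D.instOK ks p = true) : evF (xx L) 30 (fun i => (D.rowOf b p).getD i 0) = 1 := by
  obtain ⟨b1, b2, b3⟩ := instOK_parts hb
  obtain ⟨p1, p2, p3⟩ := instOK_parts hp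
  refine diffRow_ev (xx L) 30 _ _ p3 b3 ?_
  apply Subtype.ext
  rw [xx_prod, xx_prod]
  exact walk_rel L tC_acts tC_inv root_orbit ks hne hks hW p.2 b.2 p.1 b.1 p1 b1 p2 b2

theorem EE1_smul : EE 1 • a0 = vl (D.yA 1) := by
  rw [EE1]
  exact tC_a0

theorem x_known (htree : ∀ b par : Fin 7, ∀ k, gw (D.ksL b) = gw (D.ksL par) ++ [k] → L.cc (k * wG tC (gw (D.ksL par))) = 1)
    (hst : L.cc (kC D.wStar * wG tC (gw (D.ksL 1))) = 1) : ∀ τ ∈ D.knownL, xx L τ = 1 := by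
  have hknown : D.knownL = D.treeL.map (fun e => e.2.2.2) ++ [D.tS] := by decide +kernel
  intro τ hτ
  rw [hknown] at hτ
  rcases List.mem_append.1 hτ with h | h
  · obtain ⟨e, he, rfl⟩ := List.mem_map.1 h
    have h1 := List.all_eq_true.1 D.chk_tree e he
    simp only [D.treeOK1, Bool.and_eq_true, beq_iff_eq, Nat.blt_eq] at h1
    obtain ⟨⟨⟨⟨⟨h2, h3⟩, h4⟩, h5⟩, h6⟩, h7⟩ := h1
    apply Subtype.ext
    show L.Cy (vl (D.rootF e.2.2.2)) = 1
    have e0 : kC e.2.2.1 • vl (D.eL e.2.1) = vl (fW e.2.2.1 (D.eL e.2.1)) := acts_vl (kC_acts h5) (LV_e h3)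
    have e1 : vl (D.rootF e.2.2.2) = (kC e.2.2.1 * EE e.2.1) • a0 := by
      rw [mul_smul, EE_smul h3, e0, h7]
    rw [e1, L.Cy_smul]
    refine htree ⟨e.1, h2⟩ ⟨e.2.1, h3⟩ (kC e.2.2.1) ?_
    show (D.ksL e.1).map kC = (D.ksL e.2.1).map kC ++ [kC e.2.2.1]
    rw [h4]
    simp
  · rw [List.mem_singleton] at h
    subst h
    apply Subtype.ext
    show L.Cy (vl (D.rootF D.tS)) = 1
    obtain ⟨h2, h3, h4, h5⟩ := D.chk_star
    have e0 : kC D.wStar • vl (D.yA 1) = vl (fW D.wStar (D.yA 1)) := acts_vl (kC_acts h2) (LV_y (by norm_num))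
    have e1 : vl (D.rootF D.tS) = (kC D.wStar * EE 1) • a0 := by
      rw [mul_smul, EE1_smul, e0, h4]
    rw [e1, L.Cy_smul]
    exact hst

theorem x_all (htree : ∀ b par : Fin 7, ∀ k, gw (D.ksL b) = gw (D.ksL par) ++ [k] → L.cc (k * wG tC (gw (D.ksL par))) = 1)
    (hst : L.cc (kC D.wStar * wG tC (gw (D.ksL 1))) = 1) {j : ℕ} (hj : j < 30) : xx L j = 1 := by
  have hk := x_known L htree hst
  have ht2 := D.chk_t2
  have ht6 := D.chk_w6i
  simp only [Bool.and_eq_true, List.all_eq_true] at ht2 ht6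
  have hr : ∀ r ∈ D.rowsLit, evF (xx L) 30 (fun i => r.getD i 0) = 1 := by
    intro r hr
    rw [← D.rows_eq] at hr
    simp only [D.rowsAll, List.mem_append, List.mem_map] at hr
    rcases hr with (⟨τ, hτ, rfl⟩ | ⟨p, hp, rfl⟩) | ⟨p, hp, rfl⟩
    · have hτ' : τ < 30 := by
        have := List.all_eq_true.1 D.chk_known2 τ hτ
        simpa using this
      exact unitRow_ev (xx L) 30 τ hτ' (hk τ hτ)
    · exact walk_row L (by decide) D.chk_ks2.1 D.chk_w2t ht2.1 (ht2.2 p hp)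
    · exact walk_row L (by decide +kernel) D.chk_ks2.2 D.chk_w6 ht6.1 (ht6.2 p hp)
  refine solve (xx L) 30 D.rowsLit hr (D.cLit.getD j []) j hj ?_
  intro i hi
  have h1 := List.all_eq_true.1 (List.all_eq_true.1 D.chk_comb j (List.mem_range.2 hj)) i (List.mem_range.2 hi)
  simpa only [beq_iff_eq] using h1

theorem final_all (htree : ∀ b par : Fin 7, ∀ k, gw (D.ksL b) = gw (D.ksL par) ++ [k] → L.cc (k * wG tC (gw (D.ksL par))) = 1)
    (hst : L.cc (kC D.wStar * wG tC (gw (D.ksL 1))) = 1) (g : ↥Co0) : L.cc g = 1 := by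
  rw [← L.Cy_smul]
  obtain ⟨τ, hτ, u, hu, e⟩ := cover (y := g • a0) (by
    rw [co0_sqNorm]
    exact sqNorm_a0)
  rw [e]
  have hfix : u • (tC⁻¹ • a0) = tC⁻¹ • a0 := by
    rw [tC_inv]
    exact hu.2
  rw [L.Cy_inv hu.1 hfix]
  exact congrArg Subtype.val (x_all L htree hst hτ)

end Final

set_option maxRecDepth 100000 in
/-- The main theorem. -/
theorem trivMult_Co0 : TrivMult ↥Co0 := by
  obtain ⟨hQe, hDj⟩ := data_orbits
  have hQ1 : Qt = G2 ⊓ stabilizer Co0 (vl (D.yA 1)) := hQe 1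
  have ks0 : D.ksL 0 = [] := by decide +kernel
  have ks1 : D.ksL 1 = [[]] := by decide +kernel
  obtain ⟨hs1, hs2, hs3, hs4⟩ := D.chk_star
  refine trivMult_of_cone (ω₀ := a0) perf_G2 Co2Mult.trivMult_G2 tC
    (ι := Fin 7) (fun a => gw (D.ksL a)) (fun a k hk => ks_mem k hk) 0 (by simp [ks0, gw]) 1 (kC []) (by simp [ks1, gw]) ?_ ?_ ?_
    1 1 rfl (kC D.wStar) (kC D.h1Star) (kC_mem _) (kC_mem _) ?_ ?_
  · intro g
    exact cov_all g
  · intro a b k hk e
    have e' : k • (EE a • a0) = EE b • a0 := e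
    refine hDj a b ⟨kC (D.gL b) * k * (kC (D.gL a))⁻¹, G2.mul_mem (G2.mul_mem (kC_mem _) hk) (G2.inv_mem (kC_mem _)), ?_⟩
    rw [← dd_smul a.2, ← dd_smul b.2, mul_smul, mul_smul, inv_smul_smul, e']
  · intro Γ _ _ σ C a v hv hfix
    have hfix' : v • (EE a • a0) = EE a • a0 := hfix
    show C.Gd (EE a) v
    have hq : kC (D.gL a) * v * (kC (D.gL a))⁻¹ ∈ QA a := by
      rw [hQe a]
      refine ⟨G2.mul_mem (G2.mul_mem (kC_mem _) hv) (G2.inv_mem (kC_mem _)), ?_⟩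
      show (kC (D.gL a) * v * (kC (D.gL a))⁻¹) • vl (D.yA a) = vl (D.yA a)
      rw [← dd_smul a.2, mul_smul, mul_smul, inv_smul_smul, hfix']
    have hd : (kC (D.gL a) * EE a) • a0 = vl (D.yA a) := by
      rw [mul_smul]
      exact dd_smul a.2
    have hG := Gd_QA C hQ1 a.2 hd hq
    exact good_of_conj C (kC_mem _) (by rw [mul_smul]) hG
  · show (tC * kC D.wStar * EE 1) • a0 = (kC D.h1Star * EE 1) • a0
    have e0 : kC D.wStar • vl (D.yA 1) = vl (fW D.wStar (D.yA 1)) := acts_vl (kC_acts hs1) (LV_y (by norm_num))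
    have e1 : kC D.h1Star • vl (D.yA 1) = vl (fW D.h1Star (D.yA 1)) := acts_vl (kC_acts hs2) (LV_y (by norm_num))
    have e2 : tC • vl (D.rootF D.tS) = vl (D.tf (D.rootF D.tS)) := acts_vl tC_acts (root_norm _).1
    rw [mul_smul, mul_smul, mul_smul, EE1_smul, e0, hs3, e1, ← hs4, e2]
  · intro Γ _ _ σ C L htree hst g
    exact final_all L (fun b par k => htree b par k) hst g

end Cfsg.Agent.Lib.Sporadic.Co1Mult
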