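import Cfsg.Agent.Lib.Sporadic.Co2Mult.Part2
import Cfsg.Agent.Lib.Sporadic.LeechCo2b
import Cfsg.Agent.Lib.Sporadic.LeechCo1
import Cfsg.Agent.Lib.Sporadic.Co1Mult.Fibre

/-!
# Elements of `Co₂` given by words, inside the group `Co₀`
-/

set_option autoImplicit false

namespace Cfsg.Agent.Lib.Sporadic.Co1Mult

open MulAction Cfsg Cfsg.Agent.Lib.Sporadic.GolayCore Cfsg.Agent.Lib.Sporadic.LeechBasic
  Cfsg.Agent.Lib.Sporadic.LeechNorm Cfsg.Agent.Lib.Sporadic.LeechFacts
  Cfsg.Agent.Lib.Sporadic.LeechAut Cfsg.Agent.Lib.Sporadic.LeechMat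
  Cfsg.Agent.Lib.Sporadic.LeechKey Cfsg.Agent.Lib.Sporadic.LeechEnum
  Cfsg.Agent.Lib.Sporadic.LeechA0 Cfsg.Agent.Lib.Sporadic.LeechMcLData Cfsg.Agent.Lib.Sporadic.LeechMcL
  Cfsg.Agent.Lib.Sporadic.LeechShape Cfsg.Agent.Lib.Sporadic.LeechTree
  Cfsg.Agent.Lib.Sporadic.M24Chain Cfsg.Agent.Lib.Sporadic.Co3Mult
open Cfsg.Agent.Lib.Sporadic.Co2Mult (G2 pG pG_acts okT okT_good mG mI mG_acts mI_acts mI_eq frame_eq one_acts fix_of)

/-- The check of a sign change in `Co₂`. -/
def okS (m : ℕ) : Bool := codeList.contains m && (signL m a0L == a0L)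

theorem okS_code {m : ℕ} (h : okS m = true) : ofMask m ∈ supports (golayCode : Set (GolayPt → ZMod 2)) := by
  simp only [okS, Bool.and_eq_true, List.contains_iff_mem] at h
  exact (ofMask_mem_supports_iff (codeList_lt h.1)).2 h.1

theorem okS_fix {m : ℕ} (h : okS m = true) : signL m a0L = a0L := by
  simp only [okS, Bool.and_eq_true, beq_iff_eq] at h
  exact h.2

open Classical in
/-- The sign change in `Co₂`. -/
noncomputable def sG (m : ℕ) : ↥G2 :=
  if h : okS m = true then
    ⟨signCo0 (ofMask m) (okS_code h), fix_of (acts_sign (okS_code h)) (inLattice_sound a0L_ok) (okS_fix h)⟩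
  else 1

theorem sG_acts {m : ℕ} (h : okS m = true) : Acts (sG m : Co0) (signL m) := by
  classical
  unfold sG
  rw [dif_pos h]
  exact acts_sign (okS_code h)

/-! ### Letters -/

open Classical in
/-- A letter: the empty list is the matrix, a list of length one is its inverse, a list of length two is a sign
change, and the others are tables. -/
noncomputable def lG (T : List ℕ) : ↥G2 :=
  if T.isEmpty = true then mG else if (T.length == 1) = true then mI else
    if (T.length == 2) = true then sG (T.getD 0 0) else pG T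

/-- The action of a letter. -/
def lF (T : List ℕ) (l : List ℤ) : List ℤ :=
  bif T.isEmpty then matL Mg 4 l else bif T.length == 1 then matL Co2Mult.MgT 4 l else
    bif T.length == 2 then signL (T.getD 0 0) l else permL (invP T) l

/-- The check of a letter. -/
def okL (T : List ℕ) : Bool :=
  T.isEmpty || (T.length == 1) || (bif T.length == 2 then okS (T.getD 0 0) else okT T)

theorem lG_acts {T : List ℕ} (h : okL T = true) : Acts (lG T : Co0) (lF T) := by
  cases h1 : T.isEmpty
  · cases h2 : (T.length == 1)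
    · cases h3 : (T.length == 2)
      · have e1 : lG T = pG T := by simp [lG, h1, h2, h3]
        have e2 : lF T = permL (invP T) := by
          funext l
          simp [lF, h1, h2, h3]
        rw [e1, e2]
        simp only [okL, h1, h2, h3, Bool.false_or, cond_false] at h
        exact pG_acts h
      · have e1 : lG T = sG (T.getD 0 0) := by simp [lG, h1, h2, h3]
        have e2 : lF T = signL (T.getD 0 0) := by
          funext l
          simp [lF, h1, h2, h3]
        rw [e1, e2]
        simp only [okL, h1, h2, h3, Bool.false_or, cond_true] at h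
        exact sG_acts h
    · have e1 : lG T = mI := by simp [lG, h1, h2]
      have e2 : lF T = matL Co2Mult.MgT 4 := by
        funext l
        simp [lF, h1, h2]
      rw [e1, e2]
      exact mI_acts
  · have e1 : lG T = mG := by simp [lG, h1]
    have e2 : lF T = matL Mg 4 := by
      funext l
      simp [lF, h1]
    rw [e1, e2]
    exact mG_acts

/-! ### Words -/

/-- The element of a word: the first letter acts first. -/
noncomputable def kW : List (List ℕ) → ↥G2
  | [] => 1
  | x :: u => kW u * lG x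

/-- The action of a word. -/
def fW : List (List ℕ) → List ℤ → List ℤ
  | [], l => l
  | x :: u, l => fW u (lF x l)

/-- The check of a word. -/
def okW (w : List (List ℕ)) : Bool := w.all okL

theorem kW_acts : ∀ {w : List (List ℕ)}, okW w = true → Acts (kW w : Co0) (fW w)
  | [], _ => one_acts
  | x :: u, h => by
    simp only [okW, List.all_cons, Bool.and_eq_true] at h
    exact (kW_acts (w := u) h.2).comp (lG_acts h.1)

theorem kW_append (u v : List (List ℕ)) : kW (u ++ v) = kW v * kW u := by
  induction u with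
  | nil => simp [kW]
  | cons x u ih =>
    simp only [List.cons_append, kW]
    rw [ih, mul_assoc]

/-- The inverse of a letter. -/
def invL (T : List ℕ) : List ℕ :=
  bif T.isEmpty then [0] else bif T.length == 1 then [] else bif T.length == 2 then T else invP T

/-- The check of the inverse of a letter. -/
def invOK (T : List ℕ) : Bool :=
  T.isEmpty || (T.length == 1) ||
    (okL T && okL (invL T) && (List.range 24).all fun i => lF (invL T) (lF T (eiL i)) == eiL i)

theorem lG_inv {T : List ℕ} (h : invOK T = true) : lG (invL T) = (lG T)⁻¹ := by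
  cases h1 : T.isEmpty
  · cases h2 : (T.length == 1)
    · simp only [invOK, h1, h2, Bool.false_or, Bool.and_eq_true, List.all_eq_true, beq_iff_eq] at h
      obtain ⟨⟨h3, h4⟩, h5⟩ := h
      apply eq_inv_of_mul_eq_one_left
      refine frame_eq (f := fun l => lF (invL T) (lF T l)) (f' := id) ((lG_acts h4).comp (lG_acts h3)) one_acts ?_
      intro i hi
      exact h5 i (List.mem_range.2 hi)
    · have e1 : lG T = mI := by simp [lG, h1, h2]
      have e2 : invL T = [] := by simp [invL, h1, h2]
      rw [e1, e2, mI_eq, inv_inv]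
      simp [lG]
  · have e1 : lG T = mG := by simp [lG, h1]
    have e2 : invL T = [0] := by simp [invL, h1]
    rw [e1, e2, ← mI_eq]
    simp [lG]

/-- The inverse of a word. -/
def invW (w : List (List ℕ)) : List (List ℕ) := (w.map invL).reverse

theorem kW_inv : ∀ {w : List (List ℕ)}, w.all invOK = true → kW (invW w) = (kW w)⁻¹
  | [], _ => by simp [invW, kW]
  | x :: u, h => by
    simp only [List.all_cons, Bool.and_eq_true] at h
    have e : invW (x :: u) = invW u ++ [invL x] := by simp [invW]
    rw [e, kW_append]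
    simp only [kW, one_mul, mul_inv_rev]
    rw [kW_inv h.2, lG_inv h.1]

theorem okW_inv_elt {g : List (List ℕ)} (h : g.all invOK = true) {p : List ℕ} :
    kW (g ++ [p] ++ invW g) = (kW g)⁻¹ * lG p * kW g := by
  rw [kW_append, kW_append, kW_inv h]
  simp only [kW, one_mul]
  group

theorem kW_single (T : List ℕ) : kW [T] = lG T := by simp [kW]

/-- The element of `Co₀`. -/
noncomputable def kC (w : List (List ℕ)) : ↥Co0 := (kW w : ↥G2)

theorem kC_mem (w : List (List ℕ)) : kC w ∈ G2 := (kW w).2

theorem kC_acts {w : List (List ℕ)} (h : okW w = true) : Acts (kC w) (fW w) := kW_acts h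

/-! ### The base point -/

theorem LV_a0 : LV a0L := inLattice_sound a0L_ok

theorem vl_a0 : vl a0L = a0 := vl_eq LV_a0

/-! ### Words with the element `t` -/

/-- The function of a word. -/
def wF (tf : List ℤ → List ℤ) : List (List (List ℕ)) → List ℤ → List ℤ
  | [], l => l
  | k :: ks, l => wF tf ks (tf (fW k l))

/-- The elements of a list. -/
noncomputable abbrev gw (ks : List (List (List ℕ))) : List ↥Co0 := ks.map kC

section

variable {tG : ↥Co0} {tf : List ℤ → List ℤ} (htA : Acts tG tf)

include htA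

theorem wG_acts : ∀ ks : List (List (List ℕ)), ks.all okW = true → Acts (wG tG (gw ks)) (wF tf ks)
  | [], _ => one_acts
  | k :: ks, h => by
    simp only [List.all_cons, Bool.and_eq_true] at h
    have h1 := wG_acts ks h.2
    have h2 := kC_acts h.1
    exact (h1.comp htA).comp h2

end

/-- The vectors along a path. -/
def chainChk (tf : List ℤ → List ℤ) (v : List (List ℕ)) : (List ℤ → List ℤ) → List (List (List ℕ)) → Bool
  | _, [] => true
  | f, k :: ks =>
    okW k && (fW v (f (fW k (tf a0L))) == f (fW k (tf a0L))) && chainChk tf v (fun l => f (fW k (tf l))) ks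

/-- The function at the end of a path. -/
def chainF (tf : List ℤ → List ℤ) : (List ℤ → List ℤ) → List (List (List ℕ)) → List ℤ → List ℤ
  | f, [] => f
  | f, k :: ks => chainF tf (fun l => f (fW k (tf l))) ks

/-- The element at the end of a path. -/
noncomputable def chainG (t : ↥Co0) : ↥Co0 → List (List (List ℕ)) → ↥Co0
  | p, [] => p
  | p, k :: ks => chainG t (p * kC k * t) ks

section

variable {Γ : Type*} [Group Γ] {σ : Γ →* ↥Co0} (C : Sct σ a0) {tG : ↥Co0} {tf : List ℤ → List ℤ}
  (htA : Acts tG tf) (ht : ∀ w ∈ G2, w • (tG • a0) = tG • a0 → C.Gd tG w)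

include htA ht

theorem chain_good {v : List (List ℕ)} (hv : okW v = true) : ∀ (ks : List (List (List ℕ))) (p : ↥Co0)
    (f : List ℤ → List ℤ), Acts p f →
    C.Gd p (kC v) → chainChk tf v f ks = true →
    C.Gd (chainG tG p ks) (kC v) ∧ Acts (chainG tG p ks) (chainF tf f ks)
  | [], p, f, hf, hg, _ => ⟨hg, hf⟩
  | k :: ks, p, f, hf, hg, h => by
    simp only [chainChk, Bool.and_eq_true, beq_iff_eq] at h
    obtain ⟨⟨hk, hfix⟩, hrest⟩ := h
    have hA : Acts (p * kC k * tG) (fun l => f (fW k (tf l))) :=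
      (hf.comp (kC_acts hk)).comp htA
    have hL : LV (f (fW k (tf a0L))) := hA.mem LV_a0
    have e1 : (p * kC k * tG) • a0 = vl (f (fW k (tf a0L))) := by
      rw [← vl_a0]
      exact acts_vl hA LV_a0
    have hfx : kC v • ((p * kC k * tG) • a0) = (p * kC k * tG) • a0 := by
      rw [e1]
      have h5 := acts_vl (kC_acts hv) hL
      rw [hfix] at h5
      exact h5
    have h3 := C.Gd_step ht hg (kC_mem k) hfx
    exact chain_good hv ks _ _ hA h3 hrest

end

section

variable {Γ : Type*} [Group Γ] {σ : Γ →* ↥Co0} (C : Sct σ a0)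

/-- Conjugation of a good element. -/
theorem Gd_conj {d v g : ↥Co0} (hg : g ∈ G2) (h : C.Gd d v) : C.Gd (g⁻¹ * d) (g⁻¹ * v * g) := by
  obtain ⟨hv, hv', H⟩ := h
  have e : (g⁻¹ * d)⁻¹ * (g⁻¹ * v * g) * (g⁻¹ * d) = d⁻¹ * v * d := by group
  have hg' : g⁻¹ ∈ G2 := inv_mem hg
  have hm : g⁻¹ * v * g ∈ G2 := mul_mem (mul_mem hg' hv) hg
  refine ⟨hm, by rw [e]; exact hv', fun x hx => ?_⟩
  rw [e]
  have hσ : σ (C.S g * x) = d := by
    rw [map_mul, C.hσ g hg, hx]
    group
  have h1 := H (C.S g * x) hσ
  have e2 : C.S (g⁻¹ * v * g) = (C.S g)⁻¹ * C.S v * C.S g := by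
    rw [C.hmul _ (mul_mem hg' hv) _ hg, C.hmul _ hg' _ hv, C.S_inv hg]
  rw [e2]
  calc (C.S g)⁻¹ * C.S v * C.S g * x = (C.S g)⁻¹ * (C.S v * (C.S g * x)) := by group
    _ = (C.S g)⁻¹ * (C.S g * x * C.S (d⁻¹ * v * d)) := by rw [h1]
    _ = _ := by group

/-- Moving to another point of the double coset. -/
theorem good_of_conj {E d g v : ↥Co0} (hg : g ∈ G2) (hs : g • E • a0 = d • a0) (hq : C.Gd d (g * v * g⁻¹)) : C.Gd E v := by
  have h1 := Gd_conj C hg hq
  have e : g⁻¹ * (g * v * g⁻¹) * g = v := by group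
  rw [e] at h1
  refine C.Gd_transport h1 ?_
  rw [mul_smul, ← hs, inv_smul_smul]

end

/-! ### Walks -/

/-- Two starting points of a walk, with the classes of the points. -/
def chkW (tf : List ℤ → List ℤ) (roots : ℕ → List ℤ) : List (List (List ℕ)) → List (List (List ℕ) × ℕ) → List ℤ → Bool
  | [], [], _ => true
  | k :: ks, (u, τ) :: r, y =>
    okW k && okW u && (fW u (tf a0L) == tf a0L) && (fW u (fW k y) == roots τ) &&
      chkW tf roots ks r (tf (fW k y))
  | _, _, _ => false

section

variable {Γ : Type*} [Group Γ] {σ : Γ →* ↥Co0} {C : Sct σ a0} {tG : ↥Co0} (L : Ell C tG) {tf : List ℤ → List ℤ}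
  (htA : Acts tG tf) (hinv : tG⁻¹ = tG) {roots : ℕ → List ℤ}

include htA hinv

theorem Cy_word {u : List (List ℕ)} (hu : okW u = true) (hfix : fW u (tf a0L) = tf a0L) {y y' : List ℤ} (hy : LV y)
    (e : fW u y = y') : L.Cy (vl y) = L.Cy (vl y') := by
  have h1 : kC u • (tG⁻¹ • a0) = tG⁻¹ • a0 := by
    rw [hinv]
    have e1 : tG • a0 = vl (tf a0L) := by
      rw [← vl_a0]
      exact acts_vl htA LV_a0
    rw [e1]
    have h5 := acts_vl (kC_acts hu) (htA.mem LV_a0)
    rw [hfix] at h5
    exact h5
  have h2 := L.Cy_inv (kC_mem u) h1 (vl y)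
  have h3 : kC u • vl y = vl y' := by
    rw [← e]
    exact acts_vl (kC_acts hu) hy
  rw [← h2, h3]

theorem wC_eval : ∀ (ks : List (List (List ℕ))) (r : List (List (List ℕ) × ℕ)) (y : List ℤ), LV y → chkW tf roots ks r y = true →
    Ell.wC tG L (gw ks) (vl y) = ((r.map fun p => L.Cy (vl (roots p.2)))).prod
  | [], [], _, _, _ => by simp [Ell.wC]
  | [], _ :: _, _, _, h => by simp [chkW] at h
  | _ :: _, [], _, _, h => by simp [chkW] at h
  | k :: ks, (u, τ) :: r, y, hy, h => by
    simp only [chkW, Bool.and_eq_true, beq_iff_eq] at h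
    obtain ⟨⟨⟨⟨hk, hu⟩, hfix⟩, he⟩, hrest⟩ := h
    have e1 : kC k • vl y = vl (fW k y) := acts_vl (kC_acts hk) hy
    have hy1 : LV (fW k y) := (kC_acts hk).mem hy
    have e2 : tG • vl (fW k y) = vl (tf (fW k y)) := acts_vl htA hy1
    have hy2 : LV (tf (fW k y)) := htA.mem hy1
    simp only [gw, List.map_cons, Ell.wC, List.prod_cons]
    rw [e1, e2]
    congr 1
    · exact Cy_word L htA hinv hu hfix hy1 he
    · exact wC_eval ks r _ hy2 hrest

omit htA hinv in
/-- The start of a walk lies in the orbit. -/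
theorem start_orbit (hroots : ∀ τ, vl (roots τ) ∈ orbit ↥Co0 a0) : ∀ (ks : List (List (List ℕ))) (r : List (List (List ℕ) × ℕ)) (y : List ℤ), ks ≠ [] → LV y →
    chkW tf roots ks r y = true → vl y ∈ orbit ↥Co0 a0
  | [], _, _, h, _, _ => absurd rfl h
  | _ :: _, [], _, _, _, h => by simp [chkW] at h
  | k :: ks, (u, τ) :: r, y, _, hy, h => by
    simp only [chkW, Bool.and_eq_true, beq_iff_eq] at h
    obtain ⟨⟨⟨⟨hk, hu⟩, _⟩, he⟩, _⟩ := h
    have e1 : kC k • vl y = vl (fW k y) := acts_vl (kC_acts hk) hy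
    have hy1 : LV (fW k y) := (kC_acts hk).mem hy
    have h3 : kC u • vl (fW k y) = vl (roots τ) := by
      rw [← he]
      exact acts_vl (kC_acts hu) hy1
    obtain ⟨g, hg⟩ := hroots τ
    refine ⟨(kC k)⁻¹ * ((kC u)⁻¹ * g), ?_⟩
    show ((kC k)⁻¹ * ((kC u)⁻¹ * g)) • a0 = vl y
    have hg' : g • a0 = vl (roots τ) := hg
    rw [mul_smul, mul_smul, hg', ← h3, inv_smul_smul, ← e1, inv_smul_smul]

/-- Two evaluations of the same closed walk give the same product. -/
theorem walk_rel (hroots : ∀ τ, vl (roots τ) ∈ orbit ↥Co0 a0) (ks : List (List (List ℕ))) (hne : ks ≠ [])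
    (hks : ks.all okW = true)
    (hW : ∀ i < 24, wF tf ks (eiL i) = eiL i) (r r' : List (List (List ℕ) × ℕ)) (y y' : List ℤ) (hy : LV y) (hy' : LV y')
    (h : chkW tf roots ks r y = true) (h' : chkW tf roots ks r' y' = true) :
    ((r.map fun p => L.Cy (vl (roots p.2)))).prod = ((r'.map fun p => L.Cy (vl (roots p.2)))).prod := by
  have hw1 : wG tG (gw ks) = 1 := eq_of_frame (f := wF tf ks) (f' := id) (wG_acts htA ks hks) one_acts hW
  have hmem : ∀ k ∈ gw ks, k ∈ stabilizer ↥Co0 a0 := by
    intro k hk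
    obtain ⟨T, hT, rfl⟩ := List.mem_map.1 hk
    exact kC_mem T
  obtain ⟨g, hg⟩ := start_orbit hroots ks r y hne hy h
  obtain ⟨g', hg'⟩ := start_orbit hroots ks r' y' hne hy' h'
  have h1 := L.walk_const (gw ks) hmem hw1 g g'
  have hg1 : g • a0 = vl y := hg
  have hg2 : g' • a0 = vl y' := hg'
  rw [hg1, hg2, wC_eval L htA hinv ks r y hy h, wC_eval L htA hinv ks r' y' hy' h'] at h1
  exact h1

end

/-! ### Generators on codes, given by words -/

theorem genP_wordC {K : Subgroup Co0} {w : List (List ℕ)} (hw : okW w = true) (hK : kC w ∈ K) :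
    GenP K (fun c => Co2Mult.gWa (fW w (decL c)) c) :=
  Co2Mult.genP_word (kC_acts hw) hK

/-- One level of a count. -/
theorem card_level {A H : Subgroup Co0} [Finite A] {gens : List (ℕ → ℕ)} (hgens : ∀ f ∈ gens, GenP A f) (hH : H ≤ A)
    (root : ℕ) (hr : vecN root ∈ leechLattice) (hb : root < 32 ^ 24)
    (hfix : ∀ h ∈ H, h • (⟨vecN root, hr⟩ : leechLattice) = ⟨vecN root, hr⟩)
    (fuel : ℕ) (cs : List ℕ) (c : ℕ) (hrun : runK gens fuel cs c [root] (treeOf [root]) = true) :
    (fuel + 1) * Nat.card H ≤ Nat.card A := by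
  classical
  obtain ⟨F, h1, hnd, h3⟩ := run_list hgens [root] (by simp) (by simpa using ⟨hr, hb⟩) fuel cs c hrun
  set x : leechLattice := ⟨vecN root, hr⟩ with hx
  have hcard := card_inf_mul A x
  have hle : Nat.card H ≤ Nat.card ↥(A ⊓ stabilizer Co0 x) := by
    apply Subgroup.card_le_of_le
    intro h hh
    exact ⟨hH hh, hfix h hh⟩
  have hfinO : (orbit A x).Finite := Set.finite_range _
  have hO : fuel + 1 ≤ (orbit A x).ncard := by
    have hsub : {y : leechLattice | y.1 ∈ (F.map vecN)} ⊆ orbit A x := by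
      rintro y hy
      obtain ⟨l, hl, e⟩ := List.mem_map.1 hy
      obtain ⟨-, -, r, hr', hS⟩ := h3 l hl
      rw [List.mem_singleton] at hr'
      subst hr'
      obtain ⟨hx', hy', g, hg, e'⟩ := hS
      refine ⟨⟨g, hg⟩, ?_⟩
      apply Subtype.ext
      show (g • (⟨vecN r, hr⟩ : leechLattice) : leechLattice).1 = y.1
      have := congrArg Subtype.val e'
      rw [← e]
      exact this
    have hn := Co2Mult.ncard_list hnd (fun l hl => ⟨(h3 l hl).1, (h3 l hl).2.1⟩)
    have := Set.ncard_le_ncard hsub hfinO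
    rw [hn, h1] at this
    simpa using this
  rw [← hcard]
  calc (fuel + 1) * Nat.card H ≤ (orbit A x).ncard * Nat.card ↥(A ⊓ stabilizer Co0 x) :=
        Nat.mul_le_mul hO hle
    _ = _ := mul_comm _ _

/-! ### Tables -/

theorem lF_table {T : List ℕ} (h : T.length = 24) : lF T = permL (invP T) := by
  funext l
  have h1 : T.isEmpty = false := by
    cases T with
    | nil => simp at h
    | cons a b => rfl
  have h2 : (T.length == 1) = false := by
    rw [h]
    rfl
  have h3 : (T.length == 2) = false := by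
    rw [h]
    rfl
  simp [lF, h1, h2, h3]

theorem lG_table {T : List ℕ} (h : T.length = 24) : lG T = pG T := by
  have h1 : T.isEmpty = false := by
    cases T with
    | nil => simp at h
    | cons a b => rfl
  have h2 : (T.length == 1) = false := by
    rw [h]
    rfl
  have h3 : (T.length == 2) = false := by
    rw [h]
    rfl
  simp [lG, h1, h2, h3]

theorem lG_co2 {T : List ℕ} (h : T.length = 24) : lG T = Co2Mult.lG T := by
  rw [lG_table h]
  have h1 : T.isEmpty = false := by
    cases T with
    | nil => simp at h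
    | cons a b => rfl
  have h2 : (T.length == 1) = false := by
    rw [h]
    rfl
  simp [Co2Mult.lG, h1, h2]

/-- A table on codes. -/
theorem genP_table {K : Subgroup Co0} {T : List ℕ} (hT : okL T = true) (hlen : T.length = 24) (hK : ((lG T : ↥G2) : Co0) ∈ K) :
    GenP K (fun c => permAux c ((invP T).map fun t => 5 * t)) := by
  have hA := lG_acts hT
  rw [lF_table hlen] at hA
  have h1 : T.isEmpty = false := by
    cases T with
    | nil => simp at hlen
    | cons a b => rfl
  have h2 : (T.length == 1) = false := by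
    rw [hlen]
    rfl
  have h3 : (T.length == 2) = false := by
    rw [hlen]
    rfl
  simp only [okL, h1, h2, h3, Bool.false_or, cond_false] at hT
  exact genP_perm hA hK (Co2Mult.invP_length T) (Co2Mult.okT_lt hT)

theorem kC_single (T : List ℕ) : kC [T] = ((lG T : ↥G2) : ↥Co0) := by
  unfold kC
  rw [kW_single]

/-! ### Perfect subgroups -/

theorem perfect_le_commutator {G : Type*} [Group G] (H : Subgroup G) (h : commutator ↥H = ⊤) : H ≤ commutator G := by
  intro x hx
  have hm : (⟨x, hx⟩ : ↥H) ∈ commutator ↥H := by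
    rw [h]
    trivial
  have h2 : x ∈ (commutator ↥H).map H.subtype := ⟨⟨x, hx⟩, hm, rfl⟩
  rw [commutator_def, Subgroup.map_commutator] at h2
  rw [commutator_def]
  exact Subgroup.commutator_mono le_top le_top h2

/-! ### Opposite vectors -/

/-- The opposite vector. -/
def negL (l : List ℤ) : List ℤ := l.map fun x => -x

theorem getD_negL (l : List ℤ) (i : ℕ) : (negL l).getD i 0 = -(l.getD i 0) := by
  unfold negL
  induction l generalizing i with
  | nil => simp
  | cons a l ih =>
    cases i with
    | zero => simp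
    | succ i => simpa using ih i

theorem vl_negL {l : List ℤ} (h : LV l) (h' : LV (negL l)) : vl (negL l) = -vl l := by
  rw [vl_eq h, vl_eq h']
  apply Subtype.ext
  funext p
  show vecOf (negL l) p = -vecOf l p
  simp only [vecOf]
  exact getD_negL l _

end Cfsg.Agent.Lib.Sporadic.Co1Mult
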